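import Mathlib.LinearAlgebra.Matrix.SpecialLinearGroup
import Mathlib.LinearAlgebra.Matrix.ProjectiveSpecialLinearGroup
import Mathlib.LinearAlgebra.Matrix.GeneralLinearGroup.Card
import Mathlib.Algebra.BigOperators.Fin
import Mathlib.FieldTheory.Finite.Basic
import Mathlib.GroupTheory.SpecificGroups.Cyclic
import Mathlib.RingTheory.RootsOfUnity.Basic
import Mathlib.Tactic

set_option autoImplicit false

namespace Cfsg.Agent.Lib.Helper57

open Matrix

/-- The range of `SL → GL` is the kernel of the determinant. -/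
lemma range_toGL_eq_ker_det {n : Type*} [Fintype n] [DecidableEq n] {R : Type*} [CommRing R] :
    (SpecialLinearGroup.toGL : SpecialLinearGroup n R →* GL n R).range =
      (GeneralLinearGroup.det : GL n R →* Rˣ).ker := by
  ext g
  rw [MonoidHom.mem_range, MonoidHom.mem_ker]
  constructor
  · rintro ⟨s, rfl⟩
    apply Units.ext
    simp [GeneralLinearGroup.det]
  · intro h
    have hdet : (g : Matrix n n R).det = 1 := by
      have := congrArg Units.val h
      simpa [GeneralLinearGroup.det] using this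
    refine ⟨⟨(g : Matrix n n R), hdet⟩, ?_⟩
    apply Units.ext
    rfl

/-- `|GL_n(F)| = |SL_n(F)| * (|F| - 1)` for `n ≥ 1`. -/
lemma card_GL_eq_card_SL_mul {F : Type*} [Field F] [Fintype F] (n : ℕ) (hn : 1 ≤ n) :
    Nat.card (GL (Fin n) F) =
      Nat.card (SpecialLinearGroup (Fin n) F) * (Fintype.card F - 1) := by
  classical
  haveI : Nonempty (Fin n) := ⟨⟨0, hn⟩⟩
  have hsurj : Function.Surjective (GeneralLinearGroup.det : GL (Fin n) F →* Fˣ) :=
    GeneralLinearGroup.det_surjective
  have h1 : Nat.card (GL (Fin n) F) =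
      Nat.card (GL (Fin n) F ⧸ (GeneralLinearGroup.det : GL (Fin n) F →* Fˣ).ker) *
        Nat.card (GeneralLinearGroup.det : GL (Fin n) F →* Fˣ).ker :=
    Subgroup.card_eq_card_quotient_mul_card_subgroup _
  have h2 : Nat.card (GL (Fin n) F ⧸ (GeneralLinearGroup.det : GL (Fin n) F →* Fˣ).ker) =
      Nat.card Fˣ :=
    Nat.card_congr (QuotientGroup.quotientKerEquivOfSurjective _ hsurj).toEquiv
  have h3 : Nat.card (GeneralLinearGroup.det : GL (Fin n) F →* Fˣ).ker =
      Nat.card (SpecialLinearGroup (Fin n) F) := by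
    rw [← range_toGL_eq_ker_det]
    exact (Nat.card_congr (MonoidHom.ofInjective SpecialLinearGroup.toGL_injective).toEquiv).symm
  have h4 : Nat.card Fˣ = Fintype.card F - 1 := by
    rw [Nat.card_eq_fintype_card, Fintype.card_units]
  rw [h1, h2, h3, h4, mul_comm]

/-- `(q - 1) |SL_n(q)| = ∏_{i<n} (q^n - q^i)` for `n ≥ 1`. -/
lemma card_SL_formula {F : Type*} [Field F] [Fintype F] (n : ℕ) (hn : 1 ≤ n) :
    (Fintype.card F - 1) * Nat.card (SpecialLinearGroup (Fin n) F) =
      ∏ i : Fin n, (Fintype.card F ^ n - Fintype.card F ^ (i : ℕ)) := by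
  rw [← Matrix.card_GL_field, card_GL_eq_card_SL_mul n hn, mul_comm]

/-- The centre of `SL_n(q)` has `gcd(n, q-1)` elements, `n ≥ 1`. -/
lemma card_center_SL {F : Type*} [Field F] [Fintype F] (n : ℕ) (hn : 1 ≤ n) :
    Nat.card (Subgroup.center (SpecialLinearGroup (Fin n) F)) = Nat.gcd n (Fintype.card F - 1) := by
  classical
  have e := SpecialLinearGroup.center_equiv_rootsOfUnity (n := Fin n) (R := F)
  rw [Nat.card_congr e.toEquiv, Fintype.card_fin, max_eq_left hn, rootsOfUnity_eq_ker,
    IsCyclic.card_powMonoidHom_ker, Nat.card_eq_fintype_card, Fintype.card_units, Nat.gcd_comm]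

/-- `gcd(n, q-1) (q-1) |PSL_n(q)| = ∏_{i<n} (q^n - q^i)`, `n ≥ 1`. -/
lemma card_PSL_formula {F : Type*} [Field F] [Fintype F] (n : ℕ) (hn : 1 ≤ n) :
    Nat.gcd n (Fintype.card F - 1) *
        ((Fintype.card F - 1) * Nat.card (ProjectiveSpecialLinearGroup (Fin n) F)) =
      ∏ i : Fin n, (Fintype.card F ^ n - Fintype.card F ^ (i : ℕ)) := by
  classical
  rw [← card_SL_formula n hn, ← card_center_SL n hn]
  have h1 : Nat.card (SpecialLinearGroup (Fin n) F) =
      Nat.card (SpecialLinearGroup (Fin n) F ⧸ Subgroup.center (SpecialLinearGroup (Fin n) F)) *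
        Nat.card (Subgroup.center (SpecialLinearGroup (Fin n) F)) :=
    Subgroup.card_eq_card_quotient_mul_card_subgroup _
  rw [h1]
  change _ * (_ * Nat.card (SpecialLinearGroup (Fin n) F ⧸
    Subgroup.center (SpecialLinearGroup (Fin n) F))) = _
  ring

end Cfsg.Agent.Lib.Helper57
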