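import Cfsg.Agent.Lib.Helper57.DataJ1

set_option autoImplicit false
set_option maxHeartbeats 4000000

/-!
# The Janko group `J₁`: checks of the explicit elements and of the certificates
-/

namespace Cfsg.Agent.Lib.Helper57.J1

open Cfsg.Agent.Lib.Helper57

theorem e_ok : ∀ k : Fin 29, okPair (eC k.val) (eCi k.val) = true := by decide +kernel

theorem f7_one : f7 oneC = 1 := by decide +kernel

theorem oneC_valid : validB 11 1024 7 oneC = true := by decide +kernel

theorem jankoX_eq : Cfsg.jankoMatrixX = f7 cx := by decide +kernel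

theorem jankoY_eq : Cfsg.jankoMatrixY = f7 cy := by decide +kernel

theorem eC_zero : eC 0 = oneC := by decide +kernel

theorem eC_x : eC 7 = cx := by decide +kernel

theorem eC_y : eC 8 = cy := by decide +kernel

theorem ord_t : powC (eC 1) 2 = oneC ∧ eC 1 ≠ oneC := by decide +kernel

theorem ord_3 : powC (eC 4) 3 = oneC ∧ eC 4 ≠ oneC := by decide +kernel

theorem ord_5 : powC (eC 8) 5 = oneC ∧ eC 8 ≠ oneC := by decide +kernel

theorem ord_7 : powC (eC 7) 7 = oneC ∧ eC 7 ≠ oneC := by decide +kernel

theorem ord_11 : powC (eC 5) 11 = oneC ∧ eC 5 ≠ oneC := by decide +kernel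

theorem ord_19 : powC (eC 6) 19 = oneC ∧ eC 6 ≠ oneC := by decide +kernel

theorem DE_sorted : DE.chkSorted = true := by decide +kernel

theorem DE_one : DE.chkOne oneC = true := by decide +kernel

theorem DE_next : DE.chkNext mulR = true := by decide +kernel

theorem DE_par : DE.chkPar = true := by decide +kernel

theorem DE_valid_T : ∀ i : Fin 8, validB 11 1024 7 (DE.T i.val) = true := by decide +kernel

theorem E_conj : ∀ i : Fin 8, i.val = 1 ∨
    conjC (eC (conjIdx i.val)) (eCi (conjIdx i.val)) (DE.T i.val) = eC 1 := by decide +kernel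

theorem cert_3 : mulR (conjE 15 4) (conjEi 16 4) = eC 1 := by decide +kernel

theorem cert_5 : mulR (conjE 17 8) (conjEi 18 8) = eC 1 := by decide +kernel

theorem cert_7 : mulR (conjE 19 7) (conjEi 20 7) = eC 1 := by decide +kernel

theorem cert_11 : mulR (conjE 21 5) (conjE 22 5) = eC 1 := by decide +kernel

theorem cert_19 : mulR (conjE 23 6) (conjE 24 6) = eC 1 := by decide +kernel

theorem cert_x : mulR (conjE 25 1) (conjE 26 1) = cx := by decide +kernel

theorem cert_y : mulR (conjE 27 1) (conjE 28 1) = cy := by decide +kernel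

end Cfsg.Agent.Lib.Helper57.J1
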