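import Cfsg.Agent.Lib.Helper57.DataJ1

set_option autoImplicit false
set_option maxHeartbeats 4000000

/-!
# The Janko group `J₁`: the Cayley graph, part 0
-/

namespace Cfsg.Agent.Lib.Helper57.J1

open Cfsg.Agent.Lib.Helper57

theorem next_0 : allFrom 0 7315 (D.nextAt mulR) = true := by decide +kernel

theorem next_1 : allFrom 7315 7315 (D.nextAt mulR) = true := by decide +kernel

theorem next_2 : allFrom 14630 7315 (D.nextAt mulR) = true := by decide +kernel

theorem next_3 : allFrom 21945 7315 (D.nextAt mulR) = true := by decide +kernel

theorem next_4 : allFrom 29260 7315 (D.nextAt mulR) = true := by decide +kernel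

theorem next_5 : allFrom 36575 7315 (D.nextAt mulR) = true := by decide +kernel

theorem next_part_0 : ∀ i, 0 ≤ i → i < 43890 → D.nextAt mulR i = true := by
  intro i h1 h2
  by_cases h0 : i < 7315
  · exact allFrom_spec next_0 i (by omega) (by omega)
  by_cases h1 : i < 14630
  · exact allFrom_spec next_1 i (by omega) (by omega)
  by_cases h2 : i < 21945
  · exact allFrom_spec next_2 i (by omega) (by omega)
  by_cases h3 : i < 29260
  · exact allFrom_spec next_3 i (by omega) (by omega)
  by_cases h4 : i < 36575
  · exact allFrom_spec next_4 i (by omega) (by omega)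
  exact allFrom_spec next_5 i (by omega) (by omega)

end Cfsg.Agent.Lib.Helper57.J1
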