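import Cfsg.Agent.Lib.Helper57.DataJ1

set_option autoImplicit false
set_option maxHeartbeats 4000000

/-!
# The Janko group `J₁`: the Cayley graph, part 1
-/

namespace Cfsg.Agent.Lib.Helper57.J1

open Cfsg.Agent.Lib.Helper57

theorem next_6 : allFrom 43890 7315 (D.nextAt mulR) = true := by decide +kernel

theorem next_7 : allFrom 51205 7315 (D.nextAt mulR) = true := by decide +kernel

theorem next_8 : allFrom 58520 7315 (D.nextAt mulR) = true := by decide +kernel

theorem next_9 : allFrom 65835 7315 (D.nextAt mulR) = true := by decide +kernel

theorem next_10 : allFrom 73150 7315 (D.nextAt mulR) = true := by decide +kernel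

theorem next_11 : allFrom 80465 7315 (D.nextAt mulR) = true := by decide +kernel

theorem next_part_1 : ∀ i, 43890 ≤ i → i < 87780 → D.nextAt mulR i = true := by
  intro i h1 h2
  by_cases h6 : i < 51205
  · exact allFrom_spec next_6 i (by omega) (by omega)
  by_cases h7 : i < 58520
  · exact allFrom_spec next_7 i (by omega) (by omega)
  by_cases h8 : i < 65835
  · exact allFrom_spec next_8 i (by omega) (by omega)
  by_cases h9 : i < 73150
  · exact allFrom_spec next_9 i (by omega) (by omega)
  by_cases h10 : i < 80465
  · exact allFrom_spec next_10 i (by omega) (by omega)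
  exact allFrom_spec next_11 i (by omega) (by omega)

end Cfsg.Agent.Lib.Helper57.J1
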