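import Cfsg.Agent.Lib.Helper57.DataJ1

set_option autoImplicit false
set_option maxHeartbeats 4000000

/-!
# The Janko group `J₁`: the Cayley graph, part 2
-/

namespace Cfsg.Agent.Lib.Helper57.J1

open Cfsg.Agent.Lib.Helper57

theorem next_12 : allFrom 87780 7315 (D.nextAt mulR) = true := by decide +kernel

theorem next_13 : allFrom 95095 7315 (D.nextAt mulR) = true := by decide +kernel

theorem next_14 : allFrom 102410 7315 (D.nextAt mulR) = true := by decide +kernel

theorem next_15 : allFrom 109725 7315 (D.nextAt mulR) = true := by decide +kernel

theorem next_16 : allFrom 117040 7315 (D.nextAt mulR) = true := by decide +kernel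

theorem next_17 : allFrom 124355 7315 (D.nextAt mulR) = true := by decide +kernel

theorem next_part_2 : ∀ i, 87780 ≤ i → i < 131670 → D.nextAt mulR i = true := by
  intro i h1 h2
  by_cases h12 : i < 95095
  · exact allFrom_spec next_12 i (by omega) (by omega)
  by_cases h13 : i < 102410
  · exact allFrom_spec next_13 i (by omega) (by omega)
  by_cases h14 : i < 109725
  · exact allFrom_spec next_14 i (by omega) (by omega)
  by_cases h15 : i < 117040
  · exact allFrom_spec next_15 i (by omega) (by omega)
  by_cases h16 : i < 124355
  · exact allFrom_spec next_16 i (by omega) (by omega)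
  exact allFrom_spec next_17 i (by omega) (by omega)

end Cfsg.Agent.Lib.Helper57.J1
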