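import Cfsg.Agent.Lib.Helper57.DataJ1

set_option autoImplicit false
set_option maxHeartbeats 4000000

/-!
# The Janko group `J₁`: the Cayley graph, part 3
-/

namespace Cfsg.Agent.Lib.Helper57.J1

open Cfsg.Agent.Lib.Helper57

theorem next_18 : allFrom 131670 7315 (D.nextAt mulR) = true := by decide +kernel

theorem next_19 : allFrom 138985 7315 (D.nextAt mulR) = true := by decide +kernel

theorem next_20 : allFrom 146300 7315 (D.nextAt mulR) = true := by decide +kernel

theorem next_21 : allFrom 153615 7315 (D.nextAt mulR) = true := by decide +kernel

theorem next_22 : allFrom 160930 7315 (D.nextAt mulR) = true := by decide +kernel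

theorem next_23 : allFrom 168245 7315 (D.nextAt mulR) = true := by decide +kernel

theorem next_part_3 : ∀ i, 131670 ≤ i → i < 175560 → D.nextAt mulR i = true := by
  intro i h1 h2
  by_cases h18 : i < 138985
  · exact allFrom_spec next_18 i (by omega) (by omega)
  by_cases h19 : i < 146300
  · exact allFrom_spec next_19 i (by omega) (by omega)
  by_cases h20 : i < 153615
  · exact allFrom_spec next_20 i (by omega) (by omega)
  by_cases h21 : i < 160930
  · exact allFrom_spec next_21 i (by omega) (by omega)
  by_cases h22 : i < 168245
  · exact allFrom_spec next_22 i (by omega) (by omega)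
  exact allFrom_spec next_23 i (by omega) (by omega)

end Cfsg.Agent.Lib.Helper57.J1
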