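import Cfsg.Agent.Lib.Helper57.DataJ1s
import Cfsg.Agent.Lib.Helper57.DataJ1p
import Cfsg.Agent.Lib.Helper57.DataJ1n0
import Cfsg.Agent.Lib.Helper57.DataJ1n1
import Cfsg.Agent.Lib.Helper57.DataJ1n2
import Cfsg.Agent.Lib.Helper57.DataJ1n3
import Cfsg.Agent.Lib.Helper57.DataJ1c

set_option autoImplicit false

/-!
# The Janko group `J₁ = ⟨X, Y⟩ ≤ GL₇(11)` has order 175560 and is simple

From the checked tables of `DataJ1`: the 175560 tabulated matrices are the elements of the group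
generated by `X` and `Y`.  For the simplicity, a normal subgroup `N ≠ 1` contains an element of
prime order `p`, conjugate into a fixed Sylow `p`-subgroup (cyclic for `p` odd, elementary abelian
of order 8 for `p = 2`); the certificates show that `N` then contains the involution `t`, then `X`
and `Y`.
-/

namespace Cfsg.Agent.Lib.Helper57.J1

open Cfsg.Agent.Lib.Helper57 Matrix

/-- Validity of the codes of `7 × 7` matrices over `ZMod 11`. -/
abbrev V (c : ℕ) : Prop := ValidP 11 1024 7 c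

theorem D_next : D.chkNext mulR = true := by
  apply CayleyData.chkNext_of_forall
  intro i hi
  have hi' : i < 175560 := hi
  by_cases h0 : i < 43890
  · exact next_part_0 i (by omega) h0
  by_cases h1 : i < 87780
  · exact next_part_1 i (by omega) h1
  by_cases h2 : i < 131670
  · exact next_part_2 i (by omega) h2
  exact next_part_3 i (by omega) hi'

theorem D_valid : D.Valid mulR oneC := ⟨D_sorted, D_one, D_next, D_par⟩

theorem DE_valid : DE.Valid mulR oneC := ⟨DE_sorted, DE_one, DE_next, DE_par⟩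

lemma D_n : D.n = 175560 := rfl

lemma D_ng : D.ng = 2 := rfl

lemma D_gc0 : D.gc 0 = cx := rfl

lemma D_gc1 : D.gc 1 = cy := rfl

lemma DE_n : DE.n = 8 := rfl

lemma DE_ng : DE.ng = 3 := rfl

lemma DE_i0 : DE.i0 = 1 := rfl

lemma DE_gc (k : ℕ) : DE.gc k = eC (k + 1) := rfl

lemma f7_mul (X Y : ℕ) (hX : V X) (hY : V Y) : f7 (mulR X Y) = f7 X * f7 Y :=
  fP_mulP (Equiv.refl (Fin 7)) (by norm_num) (by norm_num) (by norm_num) X Y hX hY

lemma mulR_valid (X Y : ℕ) : V (mulR X Y) := mulP_valid_out (by norm_num) (by norm_num) X Y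

lemma f7_inj (X Y : ℕ) (hX : V X) (hY : V Y) (h : f7 X = f7 Y) : X = Y :=
  fP_inj (Equiv.refl (Fin 7)) (by norm_num) (by norm_num) X Y hX hY h

lemma okPair_spec (c ci : ℕ) (h : okPair c ci = true) :
    V c ∧ V ci ∧ mulR c ci = oneC ∧ mulR ci c = oneC ∧ D.memB c = true := by
  simp only [okPair, Bool.and_eq_true, beq_iff_eq] at h
  obtain ⟨⟨⟨⟨h1, h2⟩, h3⟩, h4⟩, h5⟩ := h
  exact ⟨validB_spec _ _ _ _ h1, validB_spec _ _ _ _ h2, h3, h4, h5⟩

lemma conjC_eq (s si t : ℕ) : conjC s si t = mulR (mulR s t) si := rfl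

lemma conjE_eq (k g : ℕ) : conjE k g = conjC (eC k) (eCi k) (eC g) := rfl

lemma conjEi_eq (k g : ℕ) : conjEi k g = conjC (eC k) (eCi k) (eCi g) := rfl

lemma powC_zero (x : ℕ) : powC x 0 = oneC := rfl

lemma powC_succ (x n : ℕ) : powC x (n + 1) = mulR (powC x n) x := rfl

lemma conjIdx_lt : ∀ i : Fin 8, conjIdx i.val < 29 := by decide

attribute [local irreducible] TC T nxt par pg dep f7 mulR oneC cx cy eTab eiTab ETab okPair conjC
  conjE conjEi powC eC eCi conjIdx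

lemma valid_one : V oneC := validB_spec _ _ _ _ oneC_valid

/-- The entries of the table are valid codes. -/
lemma valid_T (i : ℕ) (hi : i < D.n) : V (D.T i) := by
  rcases D_valid.par_spec i hi with h1 | ⟨h1, h2, h3, _⟩
  · rw [h1, D_valid.T_i0]
    exact valid_one
  · obtain ⟨_, h6⟩ := D_valid.nxt_spec (D.par i) (D.pg i) h1 h2
    rw [h3] at h6
    rw [← h6]
    exact mulR_valid _ _

lemma valid_cx : V cx := by
  rw [← T_ix]
  exact valid_T 8 (by rw [D_n]; norm_num)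

lemma valid_cy : V cy := by
  rw [← T_iy]
  exact valid_T 17681 (by rw [D_n]; norm_num)

lemma hmul : ∀ i < D.n, ∀ k < D.ng, f7 (mulR (D.T i) (D.gc k)) = f7 (D.T i) * f7 (D.gc k) := by
  intro i hi k hk
  have hk' : k < 2 := hk
  interval_cases k
  · exact f7_mul _ _ (valid_T i hi) valid_cx
  · exact f7_mul _ _ (valid_T i hi) valid_cy

lemma jankoX_val : (Cfsg.Spor.jankoX : Matrix (Fin 7) (Fin 7) (ZMod 11)) = f7 cx := jankoX_eq

lemma jankoY_val : (Cfsg.Spor.jankoY : Matrix (Fin 7) (Fin 7) (ZMod 11)) = f7 cy := jankoY_eq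

lemma genSet_eq :
    Units.val '' ({Cfsg.Spor.jankoX, Cfsg.Spor.jankoY} : Set (GL (Fin 7) (ZMod 11))) =
      D.genSet f7 := by
  ext y
  constructor
  · rintro ⟨u, hu, rfl⟩
    rcases hu with rfl | rfl
    · exact ⟨0, by decide, jankoX_val⟩
    · exact ⟨1, by decide, jankoY_val⟩
  · rintro ⟨k, hk, rfl⟩
    have hk' : k < 2 := hk
    interval_cases k
    · exact ⟨Cfsg.Spor.jankoX, Or.inl rfl, jankoX_val⟩
    · exact ⟨Cfsg.Spor.jankoY, Or.inr rfl, jankoY_val⟩

/-- The elements of `J₁` are the tabulated matrices. -/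
theorem mem_J1_iff (u : GL (Fin 7) (ZMod 11)) :
    u ∈ Cfsg.Spor.J1 ↔ ∃ i, i < D.n ∧ (u : Matrix (Fin 7) (Fin 7) (ZMod 11)) = f7 (D.T i) :=
  D_valid.mem_closure_units_iff_of_table f7 hmul f7_one _ genSet_eq u

lemma mem_J1_of_memB (u : GL (Fin 7) (ZMod 11)) (c : ℕ)
    (hu : (u : Matrix (Fin 7) (Fin 7) (ZMod 11)) = f7 c) (hc : D.memB c = true) :
    u ∈ Cfsg.Spor.J1 := by
  obtain ⟨i, hi, hTi⟩ := D.memB_spec c hc
  exact (mem_J1_iff u).2 ⟨i, hi, by rw [hu, hTi]⟩

lemma f7_T_inj : ∀ i < D.n, ∀ j < D.n, f7 (D.T i) = f7 (D.T j) → i = j := by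
  intro i hi j hj h
  exact D_valid.T_inj i j hi hj (f7_inj _ _ (valid_T i hi) (valid_T j hj) h)

/-- The order of `J₁`. -/
theorem card_J1 : Nat.card Cfsg.Spor.J1 = 175560 :=
  D_valid.card_closure_of_table f7 hmul f7_one _ genSet_eq f7_T_inj

/-! ### Coded elements -/

/-- The unit `u` has the valid code `c`. -/
def Coded (u : GL (Fin 7) (ZMod 11)) (c : ℕ) : Prop :=
  (u : Matrix (Fin 7) (Fin 7) (ZMod 11)) = f7 c ∧ V c

lemma Coded.mul {u v : GL (Fin 7) (ZMod 11)} {c d : ℕ} (hu : Coded u c) (hv : Coded v d) :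
    Coded (u * v) (mulR c d) :=
  ⟨by rw [Units.val_mul, hu.1, hv.1, f7_mul _ _ hu.2 hv.2], mulR_valid _ _⟩

lemma coded_one : Coded 1 oneC := ⟨by rw [Units.val_one, f7_one], valid_one⟩

lemma Coded.ext {u v : GL (Fin 7) (ZMod 11)} {c : ℕ} (hu : Coded u c) (hv : Coded v c) : u = v :=
  Units.ext (hu.1.trans hv.1.symm)

lemma Coded.code_eq {u : GL (Fin 7) (ZMod 11)} {c d : ℕ} (hu : Coded u c) (hv : Coded u d) :
    c = d :=
  f7_inj _ _ hu.2 hv.2 (hu.1.symm.trans hv.1)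

lemma Coded.pow {u : GL (Fin 7) (ZMod 11)} {c : ℕ} (hu : Coded u c) (n : ℕ) :
    Coded (u ^ n) (powC c n) := by
  induction n with
  | zero =>
    rw [pow_zero, powC_zero]
    exact coded_one
  | succ n ih =>
    rw [pow_succ, powC_succ]
    exact ih.mul hu

/-- The explicit element `k`. -/
def el (k : Fin 29) : GL (Fin 7) (ZMod 11) :=
  ⟨f7 (eC k.val), f7 (eCi k.val),
    by
      obtain ⟨h1, h2, h3, _, _⟩ := okPair_spec _ _ (e_ok k)
      rw [← f7_mul _ _ h1 h2, h3, f7_one],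
    by
      obtain ⟨h1, h2, _, h4, _⟩ := okPair_spec _ _ (e_ok k)
      rw [← f7_mul _ _ h2 h1, h4, f7_one]⟩

lemma coded_el (k : Fin 29) : Coded (el k) (eC k.val) :=
  ⟨rfl, (okPair_spec _ _ (e_ok k)).1⟩

lemma coded_el_inv (k : Fin 29) : Coded (el k)⁻¹ (eCi k.val) :=
  ⟨rfl, (okPair_spec _ _ (e_ok k)).2.1⟩

lemma el_mem (k : Fin 29) : el k ∈ Cfsg.Spor.J1 :=
  mem_J1_of_memB _ _ (coded_el k).1 (okPair_spec _ _ (e_ok k)).2.2.2.2

lemma Coded.conj {u : GL (Fin 7) (ZMod 11)} {c : ℕ} (hu : Coded u c) (k : Fin 29) :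
    Coded (el k * u * (el k)⁻¹) (conjC (eC k.val) (eCi k.val) c) := by
  rw [conjC_eq]
  exact ((coded_el k).mul hu).mul (coded_el_inv k)

lemma el_zero : el 0 = 1 := by
  apply Coded.ext (coded_el 0)
  have : eC (0 : Fin 29).val = oneC := eC_zero
  rw [this]
  exact coded_one

lemma el_x : el 7 = Cfsg.Spor.jankoX := by
  apply Coded.ext (coded_el 7)
  have : eC (7 : Fin 29).val = cx := eC_x
  rw [this]
  exact ⟨jankoX_val, valid_cx⟩

lemma el_y : el 8 = Cfsg.Spor.jankoY := by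
  apply Coded.ext (coded_el 8)
  have : eC (8 : Fin 29).val = cy := eC_y
  rw [this]
  exact ⟨jankoY_val, valid_cy⟩

/-- The order of an explicit element from the power of its code. -/
lemma orderOf_el (k : Fin 29) (p : ℕ) [hp : Fact p.Prime]
    (h : powC (eC k.val) p = oneC ∧ eC k.val ≠ oneC) : orderOf (el k) = p := by
  apply orderOf_eq_prime
  · apply Coded.ext ((coded_el k).pow p)
    rw [h.1]
    exact coded_one
  · intro h1
    apply h.2
    have h2 : Coded (el k) oneC := by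
      rw [h1]
      exact coded_one
    exact (coded_el k).code_eq h2

lemma el_eq_mul_conj (a k1 g1 k2 g2 : Fin 29)
    (h : mulR (conjE k1.val g1.val) (conjE k2.val g2.val) = eC a.val) :
    el a = (el k1 * el g1 * (el k1)⁻¹) * (el k2 * el g2 * (el k2)⁻¹) := by
  apply Coded.ext (coded_el a)
  rw [← h, conjE_eq, conjE_eq]
  exact ((coded_el g1).conj k1).mul ((coded_el g2).conj k2)

lemma el_eq_mul_conj_inv (a k1 g1 k2 g2 : Fin 29)
    (h : mulR (conjE k1.val g1.val) (conjEi k2.val g2.val) = eC a.val) :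
    el a = (el k1 * el g1 * (el k1)⁻¹) * (el k2 * (el g2)⁻¹ * (el k2)⁻¹) := by
  apply Coded.ext (coded_el a)
  rw [← h, conjE_eq, conjEi_eq]
  exact ((coded_el g1).conj k1).mul ((coded_el_inv g2).conj k2)

/-! ### The subgroup `E` of order 8 -/

/-- The elementary abelian subgroup of order 8. -/
def E : Subgroup (GL (Fin 7) (ZMod 11)) := Subgroup.closure {el 1, el 2, el 3}

lemma valid_TE (i : ℕ) (hi : i < DE.n) : V (DE.T i) :=
  validB_spec _ _ _ _ (DE_valid_T ⟨i, hi⟩)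

lemma hmulE : ∀ i < DE.n, ∀ k < DE.ng,
    f7 (mulR (DE.T i) (DE.gc k)) = f7 (DE.T i) * f7 (DE.gc k) := by
  intro i hi k hk
  have hk' : k < 3 := hk
  rw [DE_gc]
  interval_cases k
  · exact f7_mul _ _ (valid_TE i hi) (coded_el 1).2
  · exact f7_mul _ _ (valid_TE i hi) (coded_el 2).2
  · exact f7_mul _ _ (valid_TE i hi) (coded_el 3).2

lemma genSetE_eq :
    Units.val '' ({el 1, el 2, el 3} : Set (GL (Fin 7) (ZMod 11))) = DE.genSet f7 := by
  ext y
  constructor
  · rintro ⟨u, hu, rfl⟩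
    rcases hu with rfl | rfl | rfl
    · exact ⟨0, by decide, (coded_el 1).1⟩
    · exact ⟨1, by decide, (coded_el 2).1⟩
    · exact ⟨2, by decide, (coded_el 3).1⟩
  · rintro ⟨k, hk, rfl⟩
    have hk' : k < 3 := hk
    interval_cases k
    · exact ⟨el 1, Or.inl rfl, (coded_el 1).1⟩
    · exact ⟨el 2, Or.inr (Or.inl rfl), (coded_el 2).1⟩
    · exact ⟨el 3, Or.inr (Or.inr rfl), (coded_el 3).1⟩

lemma mem_E_iff (u : GL (Fin 7) (ZMod 11)) :
    u ∈ E ↔ ∃ i, i < DE.n ∧ (u : Matrix (Fin 7) (Fin 7) (ZMod 11)) = f7 (DE.T i) :=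
  DE_valid.mem_closure_units_iff_of_table f7 hmulE f7_one _ genSetE_eq u

lemma f7_TE_inj : ∀ i < DE.n, ∀ j < DE.n, f7 (DE.T i) = f7 (DE.T j) → i = j := by
  intro i hi j hj h
  exact DE_valid.T_inj i j hi hj (f7_inj _ _ (valid_TE i hi) (valid_TE j hj) h)

lemma card_E : Nat.card E = 8 :=
  DE_valid.card_closure_of_table f7 hmulE f7_one _ genSetE_eq f7_TE_inj

lemma E_le : E ≤ Cfsg.Spor.J1 := by
  rw [E, Subgroup.closure_le]
  rintro g (rfl | rfl | rfl)
  · exact el_mem 1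
  · exact el_mem 2
  · exact el_mem 3

/-- A nontrivial element of `E` is conjugate to `t` under an explicit element. -/
lemma exists_conj_of_mem_E (u : GL (Fin 7) (ZMod 11)) (hu : u ∈ E) (hu1 : u ≠ 1) :
    ∃ k : Fin 29, el k * u * (el k)⁻¹ = el 1 := by
  obtain ⟨i, hi, hui⟩ := (mem_E_iff u).1 hu
  have hi' : i < 8 := hi
  have hc : Coded u (DE.T i) := ⟨hui, valid_TE i hi⟩
  rcases E_conj ⟨i, hi'⟩ with h1 | h1
  · exfalso
    apply hu1
    have h2 : i = DE.i0 := h1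
    rw [h2, DE_valid.T_i0] at hc
    exact hc.ext coded_one
  · refine ⟨⟨conjIdx i, conjIdx_lt ⟨i, hi'⟩⟩, ?_⟩
    apply Coded.ext (hc.conj _)
    have h2 : conjC (eC (conjIdx i)) (eCi (conjIdx i)) (DE.T i) = eC (1 : Fin 29).val := h1
    rw [h2]
    exact coded_el 1

/-! ### The group `J₁` as a type -/

/-- The Janko group as a type. -/
abbrev Γ : Type := ↥Cfsg.Spor.J1

/-- The explicit element `k` in `J₁`. -/
def elJ (k : Fin 29) : Γ := ⟨el k, el_mem k⟩

lemma card_Γ : Nat.card Γ = 175560 := card_J1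

instance : Nontrivial Γ := by
  apply Finite.one_lt_card_iff_nontrivial.1
  rw [card_Γ]
  norm_num

lemma orderOf_elJ (k : Fin 29) (p : ℕ) (hp : p.Prime)
    (h : powC (eC k.val) p = oneC ∧ eC k.val ≠ oneC) : orderOf (elJ k) = p := by
  have := Fact.mk hp
  rw [← Subgroup.orderOf_coe]
  exact orderOf_el k p h

lemma closure_xy : Subgroup.closure ({elJ 7, elJ 8} : Set Γ) = ⊤ := by
  have h := Subgroup.closure_closure_coe_preimage
    (k := ({Cfsg.Spor.jankoX, Cfsg.Spor.jankoY} : Set (GL (Fin 7) (ZMod 11))))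
  have hset : ({elJ 7, elJ 8} : Set Γ) =
      ((↑) : Γ → GL (Fin 7) (ZMod 11)) ⁻¹' {Cfsg.Spor.jankoX, Cfsg.Spor.jankoY} := by
    ext w
    constructor
    · rintro (rfl | rfl)
      · exact Or.inl el_x
      · exact Or.inr el_y
    · rintro (hw | hw)
      · left
        apply Subtype.ext
        exact hw.trans el_x.symm
      · right
        apply Subtype.ext
        exact hw.trans el_y.symm
  rw [hset]
  exact h

lemma eq_top_of_xy (N : Subgroup Γ) (hx : elJ 7 ∈ N) (hy : elJ 8 ∈ N) : N = ⊤ := by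
  rw [eq_top_iff, ← closure_xy, Subgroup.closure_le]
  rintro g (rfl | rfl)
  · exact hx
  · exact hy

lemma elJ_eq_mul_conj (a k1 g1 k2 g2 : Fin 29)
    (h : mulR (conjE k1.val g1.val) (conjE k2.val g2.val) = eC a.val) :
    elJ a = (elJ k1 * elJ g1 * (elJ k1)⁻¹) * (elJ k2 * elJ g2 * (elJ k2)⁻¹) :=
  Subtype.ext (el_eq_mul_conj a k1 g1 k2 g2 h)

lemma elJ_eq_mul_conj_inv (a k1 g1 k2 g2 : Fin 29)
    (h : mulR (conjE k1.val g1.val) (conjEi k2.val g2.val) = eC a.val) :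
    elJ a = (elJ k1 * elJ g1 * (elJ k1)⁻¹) * (elJ k2 * (elJ g2)⁻¹ * (elJ k2)⁻¹) :=
  Subtype.ext (el_eq_mul_conj_inv a k1 g1 k2 g2 h)

lemma mem_of_mul_conj {N : Subgroup Γ} (hN : N.Normal) {a g s1 s2 : Γ} (hg : g ∈ N)
    (h : a = (s1 * g * s1⁻¹) * (s2 * g * s2⁻¹)) : a ∈ N := by
  rw [h]
  exact mul_mem (hN.conj_mem g hg s1) (hN.conj_mem g hg s2)

lemma mem_of_mul_conj_inv {N : Subgroup Γ} (hN : N.Normal) {a g s1 s2 : Γ} (hg : g ∈ N)
    (h : a = (s1 * g * s1⁻¹) * (s2 * g⁻¹ * s2⁻¹)) : a ∈ N := by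
  rw [h]
  exact mul_mem (hN.conj_mem g hg s1) (hN.conj_mem g⁻¹ (inv_mem hg) s2)

/-- A normal subgroup containing the involution `t` is the whole group. -/
lemma eq_top_of_t (N : Subgroup Γ) (hN : N.Normal) (ht : elJ 1 ∈ N) : N = ⊤ := by
  apply eq_top_of_xy
  · exact mem_of_mul_conj hN ht (elJ_eq_mul_conj 7 25 1 26 1 (cert_x.trans eC_x.symm))
  · exact mem_of_mul_conj hN ht (elJ_eq_mul_conj 8 27 1 28 1 (cert_y.trans eC_y.symm))

/-- The Sylow 2-subgroup. -/
def E2 : Subgroup Γ := E.subgroupOf Cfsg.Spor.J1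

lemma card_E2 : Nat.card E2 = 8 := by
  rw [E2, Nat.card_congr (Subgroup.subgroupOfEquivOfLe E_le).toEquiv, card_E]

/-- The certificate for a cyclic Sylow subgroup. -/
lemma cert_cyclic {A : Type*} [Group A] [Finite A] (p : ℕ) (g : A) (hg : orderOf g = p)
    (hfac : (Nat.card A).factorization p = 1)
    (hcert : ∀ N : Subgroup A, N.Normal → g ∈ N → N = ⊤) :
    ∃ E : Subgroup A, Nat.card E = p ^ (Nat.card A).factorization p ∧
      ∀ u ∈ E, orderOf u = p → ∀ N : Subgroup A, N.Normal → u ∈ N → N = ⊤ := by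
  refine ⟨Subgroup.zpowers g, ?_, ?_⟩
  · rw [hfac, pow_one, Nat.card_zpowers, hg]
  · intro u hu hou N hN huN
    apply hcert N hN
    have h1 : Subgroup.zpowers u ≤ Subgroup.zpowers g := Subgroup.zpowers_le.2 hu
    have h2 : Subgroup.zpowers u = Subgroup.zpowers g :=
      Subgroup.eq_of_le_of_card_ge h1 (by rw [Nat.card_zpowers, Nat.card_zpowers, hg, hou])
    have h3 : g ∈ Subgroup.zpowers u := h2 ▸ Subgroup.mem_zpowers g
    exact (Subgroup.zpowers_le.2 huN) h3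

lemma prime_dvd_card {p : ℕ} (hp : p.Prime) (h : p ∣ 175560) :
    p = 2 ∨ p = 3 ∨ p = 5 ∨ p = 7 ∨ p = 11 ∨ p = 19 := by
  have h1 : (175560 : ℕ) = 2 * (2 * (2 * (3 * (5 * (7 * (11 * 19)))))) := by norm_num
  have p7 : Nat.Prime 7 := by norm_num
  have p11 : Nat.Prime 11 := by norm_num
  have p19 : Nat.Prime 19 := by norm_num
  rw [h1] at h
  rcases (Nat.Prime.dvd_mul hp).1 h with h | h
  · exact Or.inl ((Nat.prime_dvd_prime_iff_eq hp Nat.prime_two).1 h)
  rcases (Nat.Prime.dvd_mul hp).1 h with h | h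
  · exact Or.inl ((Nat.prime_dvd_prime_iff_eq hp Nat.prime_two).1 h)
  rcases (Nat.Prime.dvd_mul hp).1 h with h | h
  · exact Or.inl ((Nat.prime_dvd_prime_iff_eq hp Nat.prime_two).1 h)
  rcases (Nat.Prime.dvd_mul hp).1 h with h | h
  · exact Or.inr (Or.inl ((Nat.prime_dvd_prime_iff_eq hp Nat.prime_three).1 h))
  rcases (Nat.Prime.dvd_mul hp).1 h with h | h
  · exact Or.inr (Or.inr (Or.inl ((Nat.prime_dvd_prime_iff_eq hp Nat.prime_five).1 h)))
  rcases (Nat.Prime.dvd_mul hp).1 h with h | h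
  · exact Or.inr (Or.inr (Or.inr (Or.inl ((Nat.prime_dvd_prime_iff_eq hp p7).1 h))))
  rcases (Nat.Prime.dvd_mul hp).1 h with h | h
  · exact Or.inr (Or.inr (Or.inr (Or.inr (Or.inl ((Nat.prime_dvd_prime_iff_eq hp p11).1 h)))))
  · exact Or.inr (Or.inr (Or.inr (Or.inr (Or.inr ((Nat.prime_dvd_prime_iff_eq hp p19).1 h)))))

/-- The Janko group `J₁` is simple. -/
theorem isSimpleGroup_J1 : IsSimpleGroup Γ := by
  have p7 : Nat.Prime 7 := by norm_num
  have p11 : Nat.Prime 11 := by norm_num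
  have p19 : Nat.Prime 19 := by norm_num
  apply isSimpleGroup_of_sylow_certs
  intro p hp hpd
  rw [card_Γ] at hpd
  rcases prime_dvd_card hp hpd with rfl | rfl | rfl | rfl | rfl | rfl
  · refine ⟨E2, ?_, ?_⟩
    · rw [card_E2, card_Γ,
        factorization_of_eq Nat.prime_two (by norm_num : 175560 = 2 ^ 3 * 21945) (by norm_num)]
      norm_num
    · intro u hu hou N hN huN
      have hu1 : (u : GL (Fin 7) (ZMod 11)) ≠ 1 := by
        intro h1
        have h2 : u = 1 := Subtype.ext h1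
        rw [h2, orderOf_one] at hou
        norm_num at hou
      obtain ⟨k, hk⟩ := exists_conj_of_mem_E u (Subgroup.mem_subgroupOf.1 hu) hu1
      apply eq_top_of_t N hN
      have h3 : elJ 1 = elJ k * u * (elJ k)⁻¹ := Subtype.ext hk.symm
      rw [h3]
      exact hN.conj_mem u huN (elJ k)
  · apply cert_cyclic 3 (elJ 4) (orderOf_elJ 4 3 Nat.prime_three ord_3)
    · rw [card_Γ]
      exact factorization_of_eq Nat.prime_three (by norm_num : 175560 = 3 ^ 1 * 58520)
        (by norm_num)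
    · intro N hN hg
      exact eq_top_of_t N hN (mem_of_mul_conj_inv hN hg (elJ_eq_mul_conj_inv 1 15 4 16 4 cert_3))
  · apply cert_cyclic 5 (elJ 8) (orderOf_elJ 8 5 Nat.prime_five ord_5)
    · rw [card_Γ]
      exact factorization_of_eq Nat.prime_five (by norm_num : 175560 = 5 ^ 1 * 35112)
        (by norm_num)
    · intro N hN hg
      exact eq_top_of_t N hN (mem_of_mul_conj_inv hN hg (elJ_eq_mul_conj_inv 1 17 8 18 8 cert_5))
  · apply cert_cyclic 7 (elJ 7) (orderOf_elJ 7 7 p7 ord_7)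
    · rw [card_Γ]
      exact factorization_of_eq p7 (by norm_num : 175560 = 7 ^ 1 * 25080) (by norm_num)
    · intro N hN hg
      exact eq_top_of_t N hN (mem_of_mul_conj_inv hN hg (elJ_eq_mul_conj_inv 1 19 7 20 7 cert_7))
  · apply cert_cyclic 11 (elJ 5) (orderOf_elJ 5 11 p11 ord_11)
    · rw [card_Γ]
      exact factorization_of_eq p11 (by norm_num : 175560 = 11 ^ 1 * 15960) (by norm_num)
    · intro N hN hg
      exact eq_top_of_t N hN (mem_of_mul_conj hN hg (elJ_eq_mul_conj 1 21 5 22 5 cert_11))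
  · apply cert_cyclic 19 (elJ 6) (orderOf_elJ 6 19 p19 ord_19)
    · rw [card_Γ]
      exact factorization_of_eq p19 (by norm_num : 175560 = 19 ^ 1 * 9240) (by norm_num)
    · intro N hN hg
      exact eq_top_of_t N hN (mem_of_mul_conj hN hg (elJ_eq_mul_conj 1 23 6 24 6 cert_19))

end Cfsg.Agent.Lib.Helper57.J1
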