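import Mathlib.GroupTheory.Transfer
import Mathlib.GroupTheory.Abelianization.Defs
import Mathlib.GroupTheory.SpecificGroups.Cyclic
import Mathlib.Tactic

set_option autoImplicit false

/-!
# Central extensions: transfer into abelian subgroups

* `pow_index_eq_one_of_comm`: a central element in the commutator subgroup is killed by the index of
  every abelian subgroup (of finite index).
* `comm_comap_of_isCyclic`: the preimage of a cyclic subgroup under a homomorphism with central
  kernel is abelian.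
* `comm_of_singer`: if `s⁷` is central, the commutators of the conjugates `bᵢ = sⁱ a s⁻ⁱ` are
  central and `b₀ b₁ = b₃ z` with `z` central, then the `bᵢ` commute (an alternating form on `𝔽₈`
  invariant under a Singer cycle is zero).
-/

namespace Cfsg.Agent.Lib.Helper57

open scoped commutatorElement

variable {G : Type*} [Group G]

/-- A central element in the commutator subgroup is killed by the index of an abelian subgroup. -/
theorem pow_index_eq_one_of_comm (H : Subgroup G) [H.FiniteIndex] (hH : ∀ a b : H, a * b = b * a)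
    (z : G) (hz : z ∈ Subgroup.center G) (hz' : z ∈ commutator G) : z ^ H.index = 1 := by
  have key : ∀ (k : ℕ) (g₀ : G), g₀⁻¹ * z ^ k * g₀ ∈ H → g₀⁻¹ * z ^ k * g₀ = z ^ k := by
    intro k g₀ _
    have h1 : z ^ k ∈ Subgroup.center G := Subgroup.pow_mem _ hz k
    rw [Subgroup.mem_center_iff] at h1
    rw [mul_assoc, ← h1 g₀, inv_mul_cancel_left]
  have h2 := MonoidHom.transfer_eq_pow (Abelianization.of : H →* Abelianization H) z key
  have h3 : MonoidHom.transfer (Abelianization.of : H →* Abelianization H) z = 1 :=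
    MonoidHom.mem_ker.1 (Abelianization.commutator_subset_ker _ hz')
  rw [h3] at h2
  have h4 : (⟨z ^ H.index, MonoidHom.transfer_eq_pow_aux z key⟩ : H) ∈ commutator H := by
    rw [← Abelianization.ker_of, MonoidHom.mem_ker]
    exact h2.symm
  have h5 : commutator H = ⊥ := by
    rw [commutator_def, Subgroup.commutator_eq_bot_iff_le_centralizer]
    intro a _
    rw [Subgroup.mem_centralizer_iff]
    intro b _
    exact hH b a
  rw [h5, Subgroup.mem_bot] at h4
  exact congrArg Subtype.val h4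

/-- The preimage of a cyclic subgroup under a homomorphism with central kernel is abelian. -/
theorem comm_comap_of_isCyclic {G' : Type*} [Group G'] (σ : G →* G')
    (hσ : σ.ker ≤ Subgroup.center G) (A : Subgroup G') [IsCyclic A] (a b : A.comap σ) :
    a * b = b * a := by
  have hcomm : IsMulCommutative (A.comap σ) := by
    apply MonoidHom.isMulCommutative_of_isCyclic_of_ker_le_center (σ.subgroupComap A)
    intro x hx
    rw [Subgroup.mem_center_iff]
    intro y
    apply Subtype.ext
    have h1 : (x : G) ∈ σ.ker := by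
      rw [MonoidHom.mem_ker] at hx ⊢
      exact congrArg Subtype.val hx
    have h2 := Subgroup.mem_center_iff.1 (hσ h1) (y : G)
    exact h2
  exact hcomm.is_comm.comm a b

/-! ### The Singer cycle argument -/

/-- The conjugate of `a` by `sⁱ`. -/
def cj (s a : G) (i : ℕ) : G := s ^ i * a * (s ^ i)⁻¹

lemma cj_zero (s a : G) : cj s a 0 = a := by
  rw [cj, pow_zero, one_mul, inv_one, mul_one]

lemma cj_succ (s a : G) (i : ℕ) : cj s a (i + 1) = s * cj s a i * s⁻¹ := by
  rw [cj, cj, pow_succ']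
  group

lemma map_cj {G' : Type*} [Group G'] (σ : G →* G') (s a : G) (i : ℕ) :
    σ (cj s a i) = cj (σ s) (σ a) i := by
  rw [cj, cj, map_mul, map_mul, map_inv, map_pow]

lemma cj_add_of_central (s a : G) (n : ℕ) (hn : s ^ n ∈ Subgroup.center G) (i : ℕ) :
    cj s a (i + n) = cj s a i := by
  rw [Subgroup.mem_center_iff] at hn
  have h1 : s ^ n * a * (s ^ n)⁻¹ = a := by rw [← hn a, mul_inv_cancel_right]
  rw [cj, cj, pow_add, mul_inv_rev]
  calc s ^ i * s ^ n * a * ((s ^ n)⁻¹ * (s ^ i)⁻¹)
      = s ^ i * (s ^ n * a * (s ^ n)⁻¹) * (s ^ i)⁻¹ := by group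
    _ = s ^ i * a * (s ^ i)⁻¹ := by rw [h1]

lemma conj_of_central {z : G} (hz : z ∈ Subgroup.center G) (s : G) : s * z * s⁻¹ = z := by
  rw [Subgroup.mem_center_iff] at hz
  rw [hz s, mul_inv_cancel_right]

lemma commutator_mul_right_of_central (x y w : G) (h : ⁅x, w⁆ ∈ Subgroup.center G) :
    ⁅x, y * w⁆ = ⁅x, y⁆ * ⁅x, w⁆ := by
  have h1 : ⁅x, y * w⁆ = ⁅x, y⁆ * (y * ⁅x, w⁆ * y⁻¹) := by
    simp only [commutatorElement_def]
    group
  rw [h1, conj_of_central h]

lemma commutator_mul_central (x y z : G) (h : z ∈ Subgroup.center G) : ⁅x, y * z⁆ = ⁅x, y⁆ := by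
  have h1 : ⁅x, z⁆ = 1 :=
    commutatorElement_eq_one_iff_mul_comm.2 ((Subgroup.mem_center_iff.1 h) x)
  have h2 : ⁅x, z⁆ ∈ Subgroup.center G := by
    rw [h1]
    exact one_mem _
  rw [commutator_mul_right_of_central x y z h2, h1, mul_one]

/-- If `s⁷` is central, the commutators of the conjugates `bᵢ = sⁱ a s⁻ⁱ` are central and
`b₀ b₁ = b₃ z` with `z` central, then the `bᵢ` commute. -/
theorem comm_of_singer (s a : G) (h7 : s ^ 7 ∈ Subgroup.center G)
    (hc : ∀ i j : ℕ, ⁅cj s a i, cj s a j⁆ ∈ Subgroup.center G)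
    (hr : ∃ z ∈ Subgroup.center G, cj s a 0 * cj s a 1 = cj s a 3 * z) (i j : ℕ) :
    cj s a i * cj s a j = cj s a j * cj s a i := by
  set b := cj s a with hb
  -- the relation at all places
  have hrel : ∀ i : ℕ, ∃ z ∈ Subgroup.center G, b i * b (i + 1) = b (i + 3) * z := by
    intro i
    induction i with
    | zero => exact hr
    | succ i ih =>
      obtain ⟨z, hz, h1⟩ := ih
      refine ⟨z, hz, ?_⟩
      have h2 : b (i + 1) * b (i + 1 + 1) = s * (b i * b (i + 1)) * s⁻¹ := by
        rw [hb, cj_succ s a (i + 1), cj_succ s a i]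
        group
      have h3 : b (i + 1 + 3) * z = s * (b (i + 3) * z) * s⁻¹ := by
        have : i + 1 + 3 = (i + 3) + 1 := by ring
        rw [this, hb, cj_succ s a (i + 3)]
        have h4 : s * (cj s a (i + 3) * z) * s⁻¹ = s * cj s a (i + 3) * s⁻¹ * (s * z * s⁻¹) := by
          group
        rw [h4, conj_of_central hz]
      rw [h2, h1, h3]
  -- invariance under the shift
  have hshift : ∀ i j : ℕ, ⁅b (i + 1), b (j + 1)⁆ = ⁅b i, b j⁆ := by
    intro i j
    have h1 : ⁅b (i + 1), b (j + 1)⁆ = s * ⁅b i, b j⁆ * s⁻¹ := by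
      rw [hb, cj_succ, cj_succ]
      simp only [commutatorElement_def]
      group
    rw [h1, conj_of_central (hc i j)]
  have hshift' : ∀ k i j : ℕ, ⁅b (i + k), b (j + k)⁆ = ⁅b i, b j⁆ := by
    intro k
    induction k with
    | zero => intro i j; rfl
    | succ k ih =>
      intro i j
      rw [← add_assoc, ← add_assoc, hshift, ih]
  have hper : ∀ i : ℕ, b (i + 7) = b i := cj_add_of_central s a 7 h7
  -- bilinearity
  have hbil : ∀ i j : ℕ, ⁅b i, b (j + 3)⁆ = ⁅b i, b j⁆ * ⁅b i, b (j + 1)⁆ := by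
    intro i j
    obtain ⟨z, hz, h1⟩ := hrel j
    rw [← commutator_mul_central (b i) (b (j + 3)) z hz, ← h1,
      commutator_mul_right_of_central _ _ _ (hc i (j + 1))]
  have f0 : ⁅b 0, b 0⁆ = 1 := commutatorElement_self _
  have f3 : ⁅b 0, b 3⁆ = ⁅b 0, b 1⁆ := by
    have := hbil 0 0
    rwa [f0, one_mul] at this
  have f4 : ⁅b 0, b 4⁆ = ⁅b 0, b 3⁆⁻¹ := by
    rw [commutatorElement_inv, ← hshift' 3 0 4, hper 0]
  have f6 : ⁅b 0, b 6⁆ = 1 := by
    have := hbil 0 3
    rwa [f4, mul_inv_cancel] at this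
  have f1 : ⁅b 0, b 1⁆ = 1 := by
    have h1 : ⁅b 0, b 6⁆ = ⁅b 0, b 1⁆⁻¹ := by
      rw [commutatorElement_inv, ← hshift' 1 0 6, hper 0]
    rw [f6] at h1
    exact inv_eq_one.1 h1.symm
  have f3' : ⁅b 0, b 3⁆ = 1 := f3.trans f1
  have f4' : ⁅b 0, b 4⁆ = 1 := by rw [f4, f3', inv_one]
  have f2 : ⁅b 0, b 2⁆ = 1 := by
    have := hbil 0 1
    rwa [f4', f1, one_mul, eq_comm] at this
  have f5 : ⁅b 0, b 5⁆ = 1 := by
    have := hbil 0 2
    rwa [f2, f3', one_mul] at this
  have hf : ∀ d : ℕ, ⁅b 0, b d⁆ = 1 := by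
    intro d
    induction d using Nat.strong_induction_on with
    | _ d ih =>
      by_cases hd : d < 7
      · interval_cases d
        exacts [f0, f1, f2, f3', f4', f5, f6]
      · obtain ⟨e, rfl⟩ : ∃ e, d = e + 7 := ⟨d - 7, by omega⟩
        rw [hper e]
        exact ih e (by omega)
  have hF : ∀ i j : ℕ, i ≤ j → ⁅b i, b j⁆ = 1 := by
    intro i j hij
    obtain ⟨d, rfl⟩ : ∃ d, j = d + i := ⟨j - i, by omega⟩
    have := hshift' i 0 d
    rw [zero_add] at this
    rw [this]
    exact hf d
  rcases le_total i j with hij | hij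
  · exact commutatorElement_eq_one_iff_mul_comm.1 (hF i j hij)
  · exact (commutatorElement_eq_one_iff_mul_comm.1 (hF j i hij)).symm

end Cfsg.Agent.Lib.Helper57
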