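import Cfsg.Agent.Lib.Helper57.SpecPSL33

set_option autoImplicit false

/-!
# Ring isomorphisms induce isomorphisms of projective special linear groups
-/

namespace Cfsg.Agent.Lib.Helper57

open Matrix

lemma map_center_eq_center {G H : Type*} [Group G] [Group H] (e : G ≃* H) :
    (Subgroup.center G).map (e : G →* H) = Subgroup.center H := by
  ext x
  constructor
  · rintro ⟨y, hy, rfl⟩
    rw [SetLike.mem_coe] at hy
    rw [Subgroup.mem_center_iff] at hy ⊢
    intro g
    obtain ⟨g', rfl⟩ := e.surjective g
    change e g' * e y = e y * e g'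
    rw [← map_mul, ← map_mul, hy g']
  · intro hx
    refine ⟨e.symm x, ?_, by simp⟩
    rw [SetLike.mem_coe]
    rw [Subgroup.mem_center_iff] at hx ⊢
    intro g
    apply e.injective
    rw [map_mul, map_mul, e.apply_symm_apply]
    exact hx (e g)

/-- Ring isomorphisms induce isomorphisms of projective special linear groups. -/
noncomputable def pslMapEquiv {n : Type*} [Fintype n] [DecidableEq n] {R S : Type*} [CommRing R]
    [CommRing S] (e : R ≃+* S) :
    ProjectiveSpecialLinearGroup n R ≃* ProjectiveSpecialLinearGroup n S :=
  QuotientGroup.congr _ _ (slMapEquiv e) (map_center_eq_center _)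

end Cfsg.Agent.Lib.Helper57
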