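import Cfsg.Agent.S3973
import Cfsg.Agent.Lib.Helper66.Hopf
import Cfsg.Agent.Lib.Helper66.SchurBasic

/-!
# A finite group with a balanced presentation has trivial Schur multiplier

Consequence of `Cfsg.Agent.S3973.result` (multiplier rank at most relators minus generators) and
helper66's Hopf formula.
-/

set_option autoImplicit false

namespace Cfsg.Agent.Lib.Helper57.Balanced

open Cfsg.Agent.Lib.Helper66

/-- If a finite group is presented by `n` generators and at most `n` relators, its Schur
multiplier is trivial. -/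
theorem trivial_multiplier_of_balanced (n : ℕ) (rels : Finset (FreeGroup (Fin n)))
    [Finite (PresentedGroup (rels : Set (FreeGroup (Fin n))))] (hcard : rels.card ≤ n) :
    Cfsg.HasCyclicSchurMultiplier (PresentedGroup (rels : Set (FreeGroup (Fin n)))) 1 := by
  set Q := PresentedGroup (rels : Set (FreeGroup (Fin n))) with hQ
  have hρ : Function.Surjective (stdPres Q) := stdPres_surjective
  letI : CommGroup ↥(hopfM (stdPres Q)) :=
    { (inferInstance : Group ↥(hopfM (stdPres Q))) with
      mul_comm := fun a b => by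
        apply Subtype.ext
        have := Subgroup.mem_center_iff.1 (hopfM_le_center (stdPres Q) a.2) (b : _)
        exact this.symm }
  haveI : Finite ↥(hopfM (stdPres Q)) := finite_hopfM (stdPres Q)
  have hA : Cfsg.HasSchurMultiplier Q ↥(hopfM (stdPres Q)) :=
    (hasSchurMultiplier_iff (stdPres Q) hρ ↥(hopfM (stdPres Q))).2 ⟨MulEquiv.refl _⟩
  have hr := Cfsg.Agent.S3973.result n rels hA
  have hr0 : Group.rank ↥(hopfM (stdPres Q)) = 0 := by omega
  have hsub : Subsingleton ↥(hopfM (stdPres Q)) := Group.rank_eq_zero_iff.1 hr0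
  apply hasCyclicSchurMultiplier_one_of
  intro Γ _ _ σ hσ
  obtain ⟨p, hp⟩ := hopfM_surj_ker_of_stem (stdPres Q) hρ σ hσ
  rw [Subgroup.eq_bot_iff_forall]
  intro x hx
  obtain ⟨y, hy⟩ := hp ⟨x, hx⟩
  have hy1 : y = 1 := Subsingleton.elim _ _
  rw [hy1, map_one] at hy
  exact (congrArg Subtype.val hy).symm

end Cfsg.Agent.Lib.Helper57.Balanced
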