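import Cfsg.Agent.Lib.Helper57.QuadMat2

set_option autoImplicit false

namespace Cfsg.Agent.Lib.Helper57.BinIco9

open Cfsg.Agent.Lib.Helper57

/-! The binary icosahedral group `2.A₅` inside `SL₂(𝔽₉)`, `𝔽₉ = 𝔽₃[√-1]`, as a list of base 3
codes. -/

def CH : List ℕ :=
  [99, 100, 101, 171, 172, 173, 272, 275, 278, 541, 544, 547, 730, 739, 748, 811, 821, 828, 892, 900, 911, 999, 1011, 1023, 1083, 1096, 1100, 1167, 1172, 1183, 1460, 1469, 1478, 1541, 1549, 1557, 1622, 1629, 1639, 1998, 2010, 2022, 2082, 2096, 2098, 2166, 2170, 2183, 2211, 2238, 2265, 2355, 2384, 2410, 2456, 2477, 2507, 2598, 2621, 2650, 2698, 2722, 2746, 2841, 2867, 2890, 3103, 3111, 3149, 3183, 3186, 3225, 3509, 3513, 3547, 3833, 3850, 3867, 3994, 4007, 4026, 4155, 4170, 4185, 4386, 4413, 4440, 4458, 4487, 4513, 4631, 4655, 4688, 4701, 4727, 4759, 4873, 4903, 4924, 4944, 4976, 4996, 5197, 5214, 5261, 5358, 5373, 5424, 5765, 5784, 5824, 5927, 5962, 5970, 6250, 6284, 6297, 6330,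 6369, 6372]

/-- Conjugation `r⁻¹ c r` on codes. -/
def conjC (r c : ℕ) : ℕ := mulC 3 2 (mulC 3 2 (invC 3 r) c) r

set_option maxRecDepth 100000 in
lemma CH_group : IsCodeGroup 3 2 CH := by
  refine ⟨?_, ?_, ?_, ?_, ?_⟩ <;> decide +kernel

set_option maxRecDepth 100000 in
lemma CH_nodup : CH.Nodup := by decide +kernel

set_option maxRecDepth 100000 in
lemma CH_canon : ∀ c ∈ CH, NM2.enc 3 (NM2.dec 3 c) = c := by decide +kernel

set_option maxRecDepth 100000 in
lemma core_check : ∀ c ∈ CH, memB CH (conjC 270 c) = true → memB CH (conjC 387 c) = true →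
    memB CH (conjC 477 c) = true → c = 730 ∨ c = 1460 := by decide +kernel

lemma CH_length : CH.length = 120 := by decide +kernel

end Cfsg.Agent.Lib.Helper57.BinIco9
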