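import Mathlib.GroupTheory.OrderOfElement
import Mathlib.GroupTheory.Solvable
import Mathlib.Tactic

set_option autoImplicit false

/-!
# Finite groups of units given by an explicit list

A list `L` of elements of a monoid `M` containing `1`, closed under multiplication and under a
function `inv` computing two-sided inverses on `L`, defines a subgroup of `Mˣ`.  All hypotheses
are decidable for concrete data.
-/

namespace Cfsg.Agent.Lib.Helper57

open scoped commutatorElement

variable {M : Type*} [Monoid M]

/-- The decidable data making a list into a group of units; `inv` is any function computing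
inverses on the list. -/
structure IsListGroup (L : List M) (inv : M → M) : Prop where
  one_mem : (1 : M) ∈ L
  mul_mem : ∀ x ∈ L, ∀ y ∈ L, x * y ∈ L
  inv_mem : ∀ x ∈ L, inv x ∈ L
  mul_inv : ∀ x ∈ L, x * inv x = 1
  inv_mul : ∀ x ∈ L, inv x * x = 1

namespace IsListGroup

variable {L : List M} {inv : M → M}

lemma inv_val (h : IsListGroup L inv) (u : Mˣ) (hu : (u : M) ∈ L) :
    ((u⁻¹ : Mˣ) : M) = inv (u : M) := by
  have h1 : inv (u : M) * u = 1 := h.inv_mul _ hu
  have h2 : ((u⁻¹ : Mˣ) : M) = inv (u : M) * u * ((u⁻¹ : Mˣ) : M) := by rw [h1, one_mul]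
  rw [h2, mul_assoc, Units.mul_inv, mul_one]

/-- The subgroup of `Mˣ` defined by the list. -/
def subgroup (h : IsListGroup L inv) : Subgroup Mˣ where
  carrier := {u | (u : M) ∈ L}
  mul_mem' := fun {a b} ha hb => by
    change ((a * b : Mˣ) : M) ∈ L
    rw [Units.val_mul]
    exact h.mul_mem _ ha _ hb
  one_mem' := by
    change ((1 : Mˣ) : M) ∈ L
    rw [Units.val_one]
    exact h.one_mem
  inv_mem' := fun {u} hu => by
    change ((u⁻¹ : Mˣ) : M) ∈ L
    rw [h.inv_val u hu]
    exact h.inv_mem _ hu

lemma mem_subgroup (h : IsListGroup L inv) (u : Mˣ) : u ∈ h.subgroup ↔ (u : M) ∈ L := Iff.rfl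

/-- Every element of the list is (the value of) a unit in the subgroup. -/
def toUnit (h : IsListGroup L inv) (x : M) (hx : x ∈ L) : h.subgroup :=
  ⟨⟨x, inv x, h.mul_inv x hx, h.inv_mul x hx⟩, hx⟩

@[simp] lemma toUnit_val (h : IsListGroup L inv) (x : M) (hx : x ∈ L) :
    ((h.toUnit x hx : Mˣ) : M) = x := rfl

/-- The order of an element of the subgroup is the order of its value. -/
lemma orderOf_eq (h : IsListGroup L inv) (u : h.subgroup) :
    orderOf u = orderOf ((u : Mˣ) : M) := by
  rw [← Subgroup.orderOf_coe, orderOf_units]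

instance finite_subgroup (h : IsListGroup L inv) : Finite h.subgroup := by
  have hinj : Function.Injective
      (fun u : h.subgroup => (⟨((u : Mˣ) : M), u.2⟩ : {x : M // x ∈ L})) := by
    intro a b hab
    apply Subtype.ext
    apply Units.ext
    exact congrArg Subtype.val hab
  haveI : Finite {x : M // x ∈ L} := List.finite_toSet L
  exact Finite.of_injective _ hinj

/-- Commutator containment between list subgroups is decidable on the lists. -/
lemma commutator_le {L' : List M} {inv' : M → M} (h : IsListGroup L inv)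
    (h' : IsListGroup L' inv')
    (hc : ∀ x ∈ L, ∀ y ∈ L, x * y * inv x * inv y ∈ L') :
    ⁅h.subgroup, h.subgroup⁆ ≤ h'.subgroup := by
  rw [Subgroup.commutator_le]
  intro u hu v hv
  change ((⁅u, v⁆ : Mˣ) : M) ∈ L'
  rw [commutatorElement_def, Units.val_mul, Units.val_mul, Units.val_mul, h.inv_val u hu,
    h.inv_val v hv]
  exact hc _ hu _ hv

/-- If the list contains only `1`, the subgroup is trivial. -/
lemma subgroup_eq_bot (h : IsListGroup L inv) (hL : ∀ x ∈ L, x = 1) : h.subgroup = ⊥ := by
  rw [Subgroup.eq_bot_iff_forall]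
  intro u hu
  exact Units.ext (hL _ hu)

/-- A list containing `1`, closed under multiplication, all of whose elements have exponent
dividing `N`, is a group with inverse `x ↦ x ^ (N - 1)`. -/
lemma of_pow {L : List M} (N : ℕ) (hN : 0 < N) (one_mem : (1 : M) ∈ L)
    (mul_mem : ∀ x ∈ L, ∀ y ∈ L, x * y ∈ L) (hpow : ∀ x ∈ L, x ^ N = 1) :
    IsListGroup L (fun x => x ^ (N - 1)) := by
  have pow_mem : ∀ x ∈ L, ∀ k : ℕ, x ^ k ∈ L := by
    intro x hx k
    induction k with
    | zero => rw [pow_zero]; exact one_mem
    | succ k ih => rw [pow_succ]; exact mul_mem _ ih _ hx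
  refine ⟨one_mem, mul_mem, fun x hx => pow_mem x hx _, ?_, ?_⟩
  · intro x hx
    change x * x ^ (N - 1) = 1
    rw [← pow_succ', Nat.sub_add_cancel hN, hpow x hx]
  · intro x hx
    change x ^ (N - 1) * x = 1
    rw [← pow_succ, Nat.sub_add_cancel hN, hpow x hx]

end IsListGroup

/-- A subgroup with a chain of subgroups, each containing the commutator subgroup of the
previous one and ending in the trivial group, is solvable. -/
theorem isSolvable_of_chain {G : Type*} [Group G] (S : ℕ → Subgroup G) (k : ℕ)
    (hstep : ∀ i, ⁅S i, S i⁆ ≤ S (i + 1)) (hk : S k = ⊥) : Group.IsSolvable (S 0) := by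
  have key : ∀ i, (derivedSeries (S 0) i).map (S 0).subtype ≤ S i := by
    intro i
    induction i with
    | zero =>
      rw [derivedSeries_zero, ← MonoidHom.range_eq_map, Subgroup.range_subtype]
    | succ i ih =>
      rw [derivedSeries_succ, Subgroup.map_commutator]
      exact (Subgroup.commutator_mono ih ih).trans (hstep i)
  rw [Group.isSolvable_def]
  refine ⟨k, ?_⟩
  have h1 := key k
  rw [hk, le_bot_iff] at h1
  exact (Subgroup.map_eq_bot_iff_of_injective _ (S 0).subtype_injective).1 h1

end Cfsg.Agent.Lib.Helper57
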