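import Mathlib.Algebra.QuadraticAlgebra.Basic
import Mathlib.Data.ZMod.Basic
import Mathlib.LinearAlgebra.Matrix.Notation
import Mathlib.Tactic
import Cfsg.Agent.Lib.Helper57.ListGroup

set_option autoImplicit false

/-!
# Fast kernel computations with `2 × 2` matrices over `𝔽_p[√d]`

Matrices are encoded as natural numbers (base `p` digits), so that closure properties of explicit
finite matrix groups can be checked by `decide +kernel` using the kernel's fast arithmetic on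
natural number literals.
-/

namespace Cfsg.Agent.Lib.Helper57

/-- Evaluate the natural number `c` before passing it to `f` (under kernel reduction). -/
def natForce {α : Sort*} (c : ℕ) (f : ℕ → α) : α :=
  match c with
  | 0 => f 0
  | n + 1 => f (n + 1)

@[simp] lemma natForce_eq {α : Sort*} (c : ℕ) (f : ℕ → α) : natForce c f = f c := by
  cases c <;> rfl

/-- Membership in a list of natural numbers, evaluating the number first. -/
def memB (C : List ℕ) (c : ℕ) : Bool := natForce c (fun c => C.contains c)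

lemma memB_iff (C : List ℕ) (c : ℕ) : memB C c = true ↔ c ∈ C := by simp [memB]

/-- The quadratic algebra `𝔽_p[√d]`. -/
abbrev QF (p d : ℕ) : Type := QuadraticAlgebra (ZMod p) (d : ZMod p) 0

/-- The would-be inverse of a `2 × 2` matrix of determinant one. -/
def adj2 {R : Type*} [Neg R] (X : Matrix (Fin 2) (Fin 2) R) : Matrix (Fin 2) (Fin 2) R :=
  !![X 1 1, -X 0 1; -X 1 0, X 0 0]

/-- `2 × 2` matrices over `𝔽_p[√d]` with natural number coordinates. -/
structure NM2 where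
  a0 : ℕ
  a1 : ℕ
  b0 : ℕ
  b1 : ℕ
  c0 : ℕ
  c1 : ℕ
  d0 : ℕ
  d1 : ℕ
deriving DecidableEq

namespace NM2

variable (p d : ℕ)

/-- Matrix product, reduced modulo `p`. -/
def mul (x y : NM2) : NM2 :=
  ⟨(x.a0 * y.a0 + d * (x.a1 * y.a1) + (x.b0 * y.c0 + d * (x.b1 * y.c1))) % p,
   (x.a0 * y.a1 + x.a1 * y.a0 + (x.b0 * y.c1 + x.b1 * y.c0)) % p,
   (x.a0 * y.b0 + d * (x.a1 * y.b1) + (x.b0 * y.d0 + d * (x.b1 * y.d1))) % p,
   (x.a0 * y.b1 + x.a1 * y.b0 + (x.b0 * y.d1 + x.b1 * y.d0)) % p,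
   (x.c0 * y.a0 + d * (x.c1 * y.a1) + (x.d0 * y.c0 + d * (x.d1 * y.c1))) % p,
   (x.c0 * y.a1 + x.c1 * y.a0 + (x.d0 * y.c1 + x.d1 * y.c0)) % p,
   (x.c0 * y.b0 + d * (x.c1 * y.b1) + (x.d0 * y.d0 + d * (x.d1 * y.d1))) % p,
   (x.c0 * y.b1 + x.c1 * y.b0 + (x.d0 * y.d1 + x.d1 * y.d0)) % p⟩

/-- Adjugate, reduced modulo `p`. -/
def adj (x : NM2) : NM2 :=
  ⟨x.d0 % p, x.d1 % p, (p - x.b0 % p) % p, (p - x.b1 % p) % p,
   (p - x.c0 % p) % p, (p - x.c1 % p) % p, x.a0 % p, x.a1 % p⟩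

/-- The identity matrix. -/
def one : NM2 := ⟨1, 0, 0, 0, 0, 0, 1, 0⟩

/-- Base `p` encoding. -/
def enc (x : NM2) : ℕ :=
  x.a0 + p * (x.a1 + p * (x.b0 + p * (x.b1 + p * (x.c0 + p * (x.c1 + p * (x.d0 + p * x.d1))))))

/-- Base `p` decoding. -/
def dec (c : ℕ) : NM2 :=
  ⟨c % p, c / p % p, c / p / p % p, c / p / p / p % p, c / p / p / p / p % p,
   c / p / p / p / p / p % p, c / p / p / p / p / p / p % p, c / p / p / p / p / p / p / p % p⟩

/-- All coordinates are reduced modulo `p`. -/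
def Reduced (x : NM2) : Prop :=
  x.a0 < p ∧ x.a1 < p ∧ x.b0 < p ∧ x.b1 < p ∧ x.c0 < p ∧ x.c1 < p ∧ x.d0 < p ∧ x.d1 < p

lemma dec_enc (x : NM2) (hx : x.Reduced p) : dec p (enc p x) = x := by
  obtain ⟨h0, h1, h2, h3, h4, h5, h6, h7⟩ := hx
  have hp : 0 < p := lt_of_le_of_lt (Nat.zero_le _) h0
  have hm : ∀ a r : ℕ, a < p → (a + p * r) % p = a := fun a r ha => by
    rw [Nat.add_mul_mod_self_left, Nat.mod_eq_of_lt ha]
  have hd : ∀ a r : ℕ, a < p → (a + p * r) / p = r := fun a r ha => by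
    rw [Nat.add_mul_div_left _ _ hp, Nat.div_eq_of_lt ha, zero_add]
  cases x
  simp only [enc, dec] at *
  simp only [hm _ _ h0, hd _ _ h0, hm _ _ h1, hd _ _ h1, hm _ _ h2, hd _ _ h2, hm _ _ h3,
    hd _ _ h3, hm _ _ h4, hd _ _ h4, hm _ _ h5, hd _ _ h5, hm _ _ h6, hd _ _ h6,
    Nat.mod_eq_of_lt h7]

lemma mul_reduced (hp : 0 < p) (x y : NM2) : (mul p d x y).Reduced p :=
  ⟨Nat.mod_lt _ hp, Nat.mod_lt _ hp, Nat.mod_lt _ hp, Nat.mod_lt _ hp, Nat.mod_lt _ hp,
    Nat.mod_lt _ hp, Nat.mod_lt _ hp, Nat.mod_lt _ hp⟩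

lemma adj_reduced (hp : 0 < p) (x : NM2) : (adj p x).Reduced p :=
  ⟨Nat.mod_lt _ hp, Nat.mod_lt _ hp, Nat.mod_lt _ hp, Nat.mod_lt _ hp, Nat.mod_lt _ hp,
    Nat.mod_lt _ hp, Nat.mod_lt _ hp, Nat.mod_lt _ hp⟩

lemma one_reduced (hp : 1 < p) : one.Reduced p := by
  simp only [Reduced, one]
  omega

/-- The matrix over `𝔽_p[√d]` with the given coordinates. -/
def toM (x : NM2) : Matrix (Fin 2) (Fin 2) (QF p d) :=
  !![⟨(x.a0 : ZMod p), (x.a1 : ZMod p)⟩, ⟨(x.b0 : ZMod p), (x.b1 : ZMod p)⟩;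
     ⟨(x.c0 : ZMod p), (x.c1 : ZMod p)⟩, ⟨(x.d0 : ZMod p), (x.d1 : ZMod p)⟩]

lemma toM_mul (x y : NM2) : toM p d (mul p d x y) = toM p d x * toM p d y := by
  ext i j <;> fin_cases i <;> fin_cases j <;>
    simp [toM, mul, Matrix.mul_apply, Fin.sum_univ_two, ZMod.natCast_mod] <;> ring

lemma toM_one : toM p d one = 1 := by
  ext i j <;> fin_cases i <;> fin_cases j <;>
    simp [toM, one, QuadraticAlgebra.re_one, QuadraticAlgebra.im_one]

lemma natCast_sub_mod (hp : 0 < p) (b : ℕ) : (((p - b % p) % p : ℕ) : ZMod p) = -(b : ZMod p) := by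
  rw [ZMod.natCast_mod, Nat.cast_sub (Nat.mod_lt b hp).le, ZMod.natCast_self, ZMod.natCast_mod,
    zero_sub]

lemma toM_adj (hp : 0 < p) (x : NM2) : toM p d (adj p x) = adj2 (toM p d x) := by
  ext i j <;> fin_cases i <;> fin_cases j <;>
    simp [toM, adj, adj2, ZMod.natCast_mod, natCast_sub_mod p hp]

end NM2

section Codes

variable (p d : ℕ)

/-- Product of codes. -/
def mulC (x y : ℕ) : ℕ :=
  natForce x fun x => natForce y fun y => NM2.enc p (NM2.mul p d (NM2.dec p x) (NM2.dec p y))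

/-- Inverse (adjugate) of a code. -/
def invC (x : ℕ) : ℕ := natForce x fun x => NM2.enc p (NM2.adj p (NM2.dec p x))

/-- The code of the identity matrix. -/
def oneC : ℕ := NM2.enc p NM2.one

/-- Powers of codes. -/
def powC (x : ℕ) : ℕ → ℕ
  | 0 => oneC p
  | n + 1 => mulC p d (powC x n) x

/-- The matrix with a given code. -/
def fC (c : ℕ) : Matrix (Fin 2) (Fin 2) (QF p d) := NM2.toM p d (NM2.dec p c)

lemma fC_mulC (hp : 0 < p) (x y : ℕ) : fC p d (mulC p d x y) = fC p d x * fC p d y := by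
  simp only [fC, mulC, natForce_eq]
  rw [NM2.dec_enc p _ (NM2.mul_reduced p d hp _ _), NM2.toM_mul]

lemma fC_invC (hp : 0 < p) (x : ℕ) : fC p d (invC p x) = adj2 (fC p d x) := by
  simp only [fC, invC, natForce_eq]
  rw [NM2.dec_enc p _ (NM2.adj_reduced p hp _), NM2.toM_adj p d hp]

lemma fC_oneC (hp : 1 < p) : fC p d (oneC p) = 1 := by
  simp only [fC, oneC]
  rw [NM2.dec_enc p _ (NM2.one_reduced p hp), NM2.toM_one]

lemma fC_powC (hp : 1 < p) (x : ℕ) (n : ℕ) : fC p d (powC p d x n) = fC p d x ^ n := by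
  induction n with
  | zero => rw [powC, fC_oneC p d hp, pow_zero]
  | succ n ih => rw [powC, fC_mulC p d (by omega), ih, pow_succ]

/-- The decidable conditions making a list of codes into a matrix group. -/
structure IsCodeGroup (C : List ℕ) : Prop where
  one_mem : memB C (oneC p) = true
  mul_mem : ∀ x ∈ C, ∀ y ∈ C, memB C (mulC p d x y) = true
  inv_mem : ∀ x ∈ C, memB C (invC p x) = true
  mul_inv : ∀ x ∈ C, mulC p d x (invC p x) = oneC p
  inv_mul : ∀ x ∈ C, mulC p d (invC p x) x = oneC p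

variable {p d}

lemma IsCodeGroup.isListGroup {C : List ℕ} (h : IsCodeGroup p d C) (hp : 1 < p) :
    IsListGroup (C.map (fC p d)) adj2 := by
  have hp0 : 0 < p := by omega
  refine ⟨?_, ?_, ?_, ?_, ?_⟩
  · rw [← fC_oneC p d hp]
    exact List.mem_map_of_mem ((memB_iff _ _).1 h.one_mem)
  · intro x hx y hy
    obtain ⟨a, ha, rfl⟩ := List.mem_map.1 hx
    obtain ⟨b, hb, rfl⟩ := List.mem_map.1 hy
    rw [← fC_mulC p d hp0]
    exact List.mem_map_of_mem ((memB_iff _ _).1 (h.mul_mem a ha b hb))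
  · intro x hx
    obtain ⟨a, ha, rfl⟩ := List.mem_map.1 hx
    rw [← fC_invC p d hp0]
    exact List.mem_map_of_mem ((memB_iff _ _).1 (h.inv_mem a ha))
  · intro x hx
    obtain ⟨a, ha, rfl⟩ := List.mem_map.1 hx
    rw [← fC_invC p d hp0, ← fC_mulC p d hp0, h.mul_inv a ha, fC_oneC p d hp]
  · intro x hx
    obtain ⟨a, ha, rfl⟩ := List.mem_map.1 hx
    rw [← fC_invC p d hp0, ← fC_mulC p d hp0, h.inv_mul a ha, fC_oneC p d hp]

/-- Commutator containment from a computation with codes. -/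
lemma IsCodeGroup.commutator_le {C C' : List ℕ} (h : IsCodeGroup p d C) (h' : IsCodeGroup p d C')
    (hp : 1 < p)
    (hc : ∀ x ∈ C, ∀ y ∈ C,
      memB C' (mulC p d (mulC p d x y) (mulC p d (invC p x) (invC p y))) = true) :
    ⁅(h.isListGroup hp).subgroup, (h.isListGroup hp).subgroup⁆ ≤ (h'.isListGroup hp).subgroup := by
  have hp0 : 0 < p := by omega
  apply IsListGroup.commutator_le
  intro x hx y hy
  obtain ⟨a, ha, rfl⟩ := List.mem_map.1 hx
  obtain ⟨b, hb, rfl⟩ := List.mem_map.1 hy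
  have := (memB_iff _ _).1 (hc a ha b hb)
  have h2 : fC p d a * fC p d b * adj2 (fC p d a) * adj2 (fC p d b) =
      fC p d (mulC p d (mulC p d a b) (mulC p d (invC p a) (invC p b))) := by
    rw [fC_mulC p d hp0, fC_mulC p d hp0, fC_mulC p d hp0, fC_invC p d hp0, fC_invC p d hp0,
      mul_assoc (fC p d a * fC p d b)]
  rw [h2]
  exact List.mem_map_of_mem this

/-- Decoding always gives reduced coordinates. -/
lemma NM2.dec_reduced (p : ℕ) (hp : 0 < p) (c : ℕ) : (NM2.dec p c).Reduced p :=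
  ⟨Nat.mod_lt _ hp, Nat.mod_lt _ hp, Nat.mod_lt _ hp, Nat.mod_lt _ hp, Nat.mod_lt _ hp,
    Nat.mod_lt _ hp, Nat.mod_lt _ hp, Nat.mod_lt _ hp⟩

lemma NM2.toM_injOn (p d : ℕ) (x y : NM2) (hx : x.Reduced p) (hy : y.Reduced p)
    (h : NM2.toM p d x = NM2.toM p d y) : x = y := by
  obtain ⟨h0, h1, h2, h3, h4, h5, h6, h7⟩ := hx
  obtain ⟨k0, k1, k2, k3, k4, k5, k6, k7⟩ := hy
  have key : ∀ a b : ℕ, a < p → b < p → (a : ZMod p) = (b : ZMod p) → a = b := by
    intro a b ha hb hab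
    have := (ZMod.natCast_eq_natCast_iff' a b p).1 hab
    rwa [Nat.mod_eq_of_lt ha, Nat.mod_eq_of_lt hb] at this
  have e00 := congrFun (congrFun h 0) 0
  have e01 := congrFun (congrFun h 0) 1
  have e10 := congrFun (congrFun h 1) 0
  have e11 := congrFun (congrFun h 1) 1
  simp only [NM2.toM, Matrix.of_apply, Matrix.cons_val', Matrix.cons_val_zero,
    Matrix.cons_val_one, Matrix.cons_val_fin_one, QuadraticAlgebra.mk.injEq] at e00 e01 e10 e11
  cases x
  cases y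
  simp only [NM2.mk.injEq]
  exact ⟨key _ _ h0 k0 e00.1, key _ _ h1 k1 e00.2, key _ _ h2 k2 e01.1, key _ _ h3 k3 e01.2,
    key _ _ h4 k4 e10.1, key _ _ h5 k5 e10.2, key _ _ h6 k6 e11.1, key _ _ h7 k7 e11.2⟩

lemma fC_eq_one_iff (hp : 1 < p) (c : ℕ) : fC p d c = 1 ↔ NM2.dec p c = NM2.one := by
  constructor
  · intro h
    rw [← NM2.toM_one p d] at h
    exact NM2.toM_injOn p d _ _ (NM2.dec_reduced p (by omega) c) (NM2.one_reduced p hp) h
  · intro h
    rw [fC, h, NM2.toM_one]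

lemma fC_pow_eq_one_iff (hp : 1 < p) (c n : ℕ) :
    fC p d c ^ n = 1 ↔ NM2.dec p (powC p d c n) = NM2.one := by
  rw [← fC_powC p d hp, fC_eq_one_iff hp]

/-- `det (X - 1)` as a pair of natural numbers (real and imaginary part). -/
def NM2.detSubOne (p d : ℕ) (x : NM2) : ℕ × ℕ :=
  (((x.a0 + (p - 1)) * (x.d0 + (p - 1)) + d * (x.a1 * x.d1) +
      (p - (x.b0 * x.c0 + d * (x.b1 * x.c1)) % p)) % p,
   ((x.a0 + (p - 1)) * x.d1 + x.a1 * (x.d0 + (p - 1)) +
      (p - (x.b0 * x.c1 + x.b1 * x.c0) % p)) % p)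

lemma NM2.det_toM_sub_one (hp : 0 < p) (x : NM2) :
    (NM2.toM p d x - 1).det =
      ⟨((NM2.detSubOne p d x).1 : ZMod p), ((NM2.detSubOne p d x).2 : ZMod p)⟩ := by
  have h1 : ((p - 1 : ℕ) : ZMod p) = -1 := by
    rw [Nat.cast_sub hp, ZMod.natCast_self, Nat.cast_one, zero_sub]
  have h2 : ∀ b : ℕ, ((p - b % p : ℕ) : ZMod p) = -(b : ZMod p) := by
    intro b
    rw [Nat.cast_sub (Nat.mod_lt b hp).le, ZMod.natCast_self, ZMod.natCast_mod, zero_sub]
  rw [Matrix.det_fin_two]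
  ext
  · simp [NM2.toM, NM2.detSubOne, ZMod.natCast_mod, h1, h2, QuadraticAlgebra.re_one,
      QuadraticAlgebra.im_one]
    ring
  · simp [NM2.toM, NM2.detSubOne, ZMod.natCast_mod, h1, h2, QuadraticAlgebra.re_one,
      QuadraticAlgebra.im_one]
    ring

/-- Boolean test for `det (X - 1) ≠ 0`. -/
def fpfB (p d : ℕ) (c : ℕ) : Bool :=
  natForce c fun c => decide (NM2.detSubOne p d (NM2.dec p c) ≠ (0, 0))

lemma det_fC_sub_one_ne_zero (hp : 0 < p) (c : ℕ) (h : fpfB p d c = true) :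
    (fC p d c - 1).det ≠ 0 := by
  simp only [fpfB, natForce_eq, decide_eq_true_eq] at h
  rw [fC, NM2.det_toM_sub_one hp]
  intro h0
  apply h
  have hre := congrArg QuadraticAlgebra.re h0
  have him := congrArg QuadraticAlgebra.im h0
  simp only [QuadraticAlgebra.re_zero, QuadraticAlgebra.im_zero] at hre him
  rw [ZMod.natCast_eq_zero_iff] at hre him
  have l1 : (NM2.detSubOne p d (NM2.dec p c)).1 < p := Nat.mod_lt _ hp
  have l2 : (NM2.detSubOne p d (NM2.dec p c)).2 < p := Nat.mod_lt _ hp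
  exact Prod.ext (Nat.eq_zero_of_dvd_of_lt hre l1) (Nat.eq_zero_of_dvd_of_lt him l2)

/-- The decidable conditions making a list of codes into a matrix group of exponent dividing
`N` (no condition on determinants). -/
structure IsCodePowGroup (p d N : ℕ) (C : List ℕ) : Prop where
  one_mem : memB C (oneC p) = true
  mul_mem : ∀ x ∈ C, ∀ y ∈ C, memB C (mulC p d x y) = true
  pow_eq : ∀ x ∈ C, powC p d x N = oneC p

lemma IsCodePowGroup.isListGroup {N : ℕ} {C : List ℕ} (h : IsCodePowGroup p d N C) (hp : 1 < p)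
    (hN : 0 < N) : IsListGroup (C.map (fC p d)) (fun X => X ^ (N - 1)) := by
  have hp0 : 0 < p := by omega
  apply IsListGroup.of_pow N hN
  · rw [← fC_oneC p d hp]
    exact List.mem_map_of_mem ((memB_iff _ _).1 h.one_mem)
  · intro x hx y hy
    obtain ⟨a, ha, rfl⟩ := List.mem_map.1 hx
    obtain ⟨b, hb, rfl⟩ := List.mem_map.1 hy
    rw [← fC_mulC p d hp0]
    exact List.mem_map_of_mem ((memB_iff _ _).1 (h.mul_mem a ha b hb))
  · intro x hx
    obtain ⟨a, ha, rfl⟩ := List.mem_map.1 hx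
    rw [← fC_powC p d hp, h.pow_eq a ha, fC_oneC p d hp]

/-- Commutator containment from a computation with codes. -/
lemma IsCodePowGroup.commutator_le {N N' : ℕ} {C C' : List ℕ} (h : IsCodePowGroup p d N C)
    (h' : IsCodePowGroup p d N' C') (hp : 1 < p) (hN : 0 < N) (hN' : 0 < N')
    (hc : ∀ x ∈ C, ∀ y ∈ C, memB C'
      (mulC p d (mulC p d x y) (mulC p d (powC p d x (N - 1)) (powC p d y (N - 1)))) = true) :
    ⁅(h.isListGroup hp hN).subgroup, (h.isListGroup hp hN).subgroup⁆ ≤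
      (h'.isListGroup hp hN').subgroup := by
  have hp0 : 0 < p := by omega
  apply IsListGroup.commutator_le
  intro x hx y hy
  obtain ⟨a, ha, rfl⟩ := List.mem_map.1 hx
  obtain ⟨b, hb, rfl⟩ := List.mem_map.1 hy
  have := (memB_iff _ _).1 (hc a ha b hb)
  have h2 : fC p d a * fC p d b * fC p d a ^ (N - 1) * fC p d b ^ (N - 1) =
      fC p d (mulC p d (mulC p d a b) (mulC p d (powC p d a (N - 1)) (powC p d b (N - 1)))) := by
    rw [fC_mulC p d hp0, fC_mulC p d hp0, fC_mulC p d hp0, fC_powC p d hp, fC_powC p d hp,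
      mul_assoc (fC p d a * fC p d b)]
  change fC p d a * fC p d b * fC p d a ^ (N - 1) * fC p d b ^ (N - 1) ∈ _
  rw [h2]
  exact List.mem_map_of_mem this

end Codes

end Cfsg.Agent.Lib.Helper57
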