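import Mathlib.Tactic
import Mathlib.Data.Nat.Bitwise
import Mathlib.LinearAlgebra.Matrix.Notation
import Cfsg.Agent.Lib.Helper57.QuadMat2

set_option autoImplicit false

/-!
# Square matrices over a ring of characteristic two coded by the bits of a natural number

The matrix with code `c` has entry `(i, j)` equal to bit `n * i + j` of `c`.  The product of codes
is computed bitwise; it is compatible with the matrix product over any commutative ring in which
`2 = 0`.
-/

namespace Cfsg.Agent.Lib.Helper57

/-- The parity of the number of `m < N` with `b m`. -/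
def parityBelow (b : ℕ → Bool) : ℕ → Bool
  | 0 => false
  | N + 1 => xor (parityBelow b N) (b N)

/-- The number whose bits below `N` are given by `p`. -/
def ofBitsBelow (p : ℕ → Bool) : ℕ → ℕ
  | 0 => 0
  | N + 1 => ofBitsBelow p N ||| (if p N then 2 ^ N else 0)

lemma testBit_ofBitsBelow (p : ℕ → Bool) (N i : ℕ) :
    (ofBitsBelow p N).testBit i = (decide (i < N) && p i) := by
  induction N with
  | zero => simp [ofBitsBelow]
  | succ N ih =>
    rw [ofBitsBelow, Nat.testBit_or, ih]
    by_cases hp : p N
    · rw [if_pos hp, Nat.testBit_two_pow]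
      by_cases hi : N = i
      · subst hi
        simp [hp]
      · have : (i < N + 1) = (i < N) := by
          apply propext
          constructor
          · intro h; omega
          · intro h; omega
        simp [hi, this]
    · rw [if_neg hp, Nat.zero_testBit, Bool.or_false]
      by_cases hi : N = i
      · subst hi
        simp [hp]
      · have : (i < N + 1) = (i < N) := by
          apply propext
          constructor
          · intro h; omega
          · intro h; omega
        simp [this]

/-- Row `k` of the `n × n` bit matrix `y`. -/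
def rowB (n y k : ℕ) : ℕ := (y >>> (n * k)) % 2 ^ n

/-- The sum (xor) of the rows `k < N` of `y` for which bit `s + k` of `x` is set. -/
def xorRows (x s : ℕ) (rows : ℕ → ℕ) : ℕ → ℕ
  | 0 => 0
  | N + 1 => (if x.testBit (s + N) then rows N else 0) ^^^ xorRows x s rows N

/-- Concatenation of the `n`-bit rows `R i`, `i < N`. -/
def asmRows (n : ℕ) (R : ℕ → ℕ) : ℕ → ℕ
  | 0 => 0
  | N + 1 => asmRows n R N ||| (R N <<< (n * N))

lemma testBit_rowB (n y k j : ℕ) (hj : j < n) : (rowB n y k).testBit j = y.testBit (n * k + j) := by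
  rw [rowB, Nat.testBit_mod_two_pow, Nat.testBit_shiftRight]
  simp [hj]

lemma rowB_lt (n y k : ℕ) : rowB n y k < 2 ^ n := Nat.mod_lt _ (by positivity)

lemma testBit_xorRows (x s : ℕ) (rows : ℕ → ℕ) (N j : ℕ) :
    (xorRows x s rows N).testBit j =
      parityBelow (fun k => x.testBit (s + k) && (rows k).testBit j) N := by
  induction N with
  | zero => simp [xorRows, parityBelow]
  | succ N ih =>
    rw [xorRows, Nat.testBit_xor, ih, parityBelow, Bool.xor_comm]
    congr 1
    by_cases h : x.testBit (s + N) <;> simp [h]

lemma xorRows_lt (x s : ℕ) (rows : ℕ → ℕ) (n : ℕ) (h : ∀ k, rows k < 2 ^ n) (N : ℕ) :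
    xorRows x s rows N < 2 ^ n := by
  induction N with
  | zero => simp [xorRows]
  | succ N ih =>
    rw [xorRows]
    apply Nat.xor_lt_two_pow _ ih
    split_ifs
    · exact h N
    · positivity

lemma testBit_asmRows (n : ℕ) (R : ℕ → ℕ) (hR : ∀ i, R i < 2 ^ n) (N i j : ℕ) (hj : j < n) :
    (asmRows n R N).testBit (n * i + j) = (decide (i < N) && (R i).testBit j) := by
  induction N with
  | zero => simp [asmRows]
  | succ N ih =>
    rw [asmRows, Nat.testBit_or, ih, Nat.testBit_shiftLeft]
    rcases Nat.lt_trichotomy i N with h | h | h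
    · have h1 : ¬ (n * i + j ≥ n * N) := by
        have : n * (i + 1) ≤ n * N := Nat.mul_le_mul_left _ h
        rw [Nat.mul_add, Nat.mul_one] at this
        omega
      have h2 : i < N + 1 := by omega
      simp [h, h1, h2]
    · subst h
      have h1 : n * i + j ≥ n * i := by omega
      have h2 : n * i + j - n * i = j := by omega
      simp [h1, h2]
    · have h1 : n * i + j ≥ n * N := by
        have : n * N ≤ n * i := Nat.mul_le_mul_left _ h.le
        omega
      have h3 : ¬ i < N := by omega
      have h4 : ¬ i < N + 1 := by omega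
      have h5 : (R N).testBit (n * i + j - n * N) = false := by
        apply Nat.testBit_lt_two_pow
        apply lt_of_lt_of_le (hR N)
        apply Nat.pow_le_pow_right (by norm_num)
        have : n * (N + 1) ≤ n * i := Nat.mul_le_mul_left _ h
        rw [Nat.mul_add, Nat.mul_one] at this
        omega
      simp [h3, h4, h5]

/-- Fast product of codes of `n × n` bit matrices. -/
def mulB (n x y : ℕ) : ℕ :=
  natForce x fun x => natForce y fun y =>
    asmRows n (fun i => xorRows x (n * i) (rowB n y) n) n

lemma testBit_mulB (n x y i j : ℕ) (hi : i < n) (hj : j < n) :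
    (mulB n x y).testBit (n * i + j) =
      parityBelow (fun k => x.testBit (n * i + k) && y.testBit (n * k + j)) n := by
  simp only [mulB, natForce_eq]
  rw [testBit_asmRows n _ (fun i => xorRows_lt x (n * i) (rowB n y) n (rowB_lt n y) n) n i j hj,
    testBit_xorRows]
  simp only [hi, decide_true, Bool.true_and, testBit_rowB n y _ j hj]

/-- The code of the identity matrix. -/
def oneB (n : ℕ) : ℕ := ofBitsBelow (fun pos => decide (pos / n = pos % n)) (n * n)

/-- The code `c` is the code of the identity matrix, up to bits beyond `n * n`. -/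
def eqOneB (n c : ℕ) : Bool :=
  natForce c fun c => (List.range (n * n)).all fun pos => c.testBit pos == decide (pos / n = pos % n)

section Ring

variable {n : ℕ} {ι : Type*} (e : ι ≃ Fin n) (R : Type*) [CommRing R]

/-- The matrix with code `c`. -/
def fB (c : ℕ) : Matrix ι ι R :=
  Matrix.of fun i j => if c.testBit (n * (e i : ℕ) + (e j : ℕ)) then 1 else 0

lemma fB_apply (c : ℕ) (i j : ι) :
    fB e R c i j = if c.testBit (n * (e i : ℕ) + (e j : ℕ)) then 1 else 0 := rfl

lemma pos_lt (i j : ι) : n * (e i : ℕ) + (e j : ℕ) < n * n := by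
  have h1 := (e i).2
  have h2 := (e j).2
  calc n * (e i : ℕ) + (e j : ℕ) < n * (e i : ℕ) + n := by omega
    _ = n * ((e i : ℕ) + 1) := by ring
    _ ≤ n * n := Nat.mul_le_mul_left _ h1

lemma pos_div (i j : ι) : (n * (e i : ℕ) + (e j : ℕ)) / n = (e i : ℕ) := by
  have h2 := (e j).2
  have hn : 0 < n := lt_of_le_of_lt (Nat.zero_le _) h2
  rw [Nat.mul_add_div hn, Nat.div_eq_of_lt h2, add_zero]

lemma pos_mod (i j : ι) : (n * (e i : ℕ) + (e j : ℕ)) % n = (e j : ℕ) := by
  have h2 := (e j).2
  rw [Nat.mul_add_mod, Nat.mod_eq_of_lt h2]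

lemma sum_ite_parity (h2 : (2 : R) = 0) (b : ℕ → Bool) (N : ℕ) :
    (∑ m ∈ Finset.range N, if b m then (1 : R) else 0) = if parityBelow b N then 1 else 0 := by
  induction N with
  | zero => simp [parityBelow]
  | succ N ih =>
    rw [Finset.sum_range_succ, ih, parityBelow]
    have h11 : (1 : R) + 1 = 0 := by rw [one_add_one_eq_two, h2]
    cases parityBelow b N <;> cases b N <;> simp [h11]

lemma fB_mulB [Fintype ι] (h2 : (2 : R) = 0) (x y : ℕ) :
    fB e R (mulB n x y) = fB e R x * fB e R y := by
  ext i j
  rw [fB_apply, Matrix.mul_apply, testBit_mulB n x y _ _ (e i).2 (e j).2]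
  simp only [fB_apply]
  rw [← sum_ite_parity R h2, ← Fin.sum_univ_eq_sum_range
    (fun m => if (x.testBit (n * (e i : ℕ) + m) && y.testBit (n * m + (e j : ℕ))) then (1 : R) else 0),
    ← Equiv.sum_comp e]
  apply Finset.sum_congr rfl
  intro k _
  cases x.testBit (n * (e i : ℕ) + (e k : ℕ)) <;> cases y.testBit (n * (e k : ℕ) + (e j : ℕ)) <;> simp

lemma fB_oneB [DecidableEq ι] : fB e R (oneB n) = 1 := by
  ext i j
  rw [fB_apply, oneB, testBit_ofBitsBelow, Matrix.one_apply]
  simp only [pos_lt e i j, decide_true, Bool.true_and, pos_div, pos_mod, decide_eq_true_eq]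
  by_cases h : i = j
  · subst h
    simp
  · have : (e i : ℕ) ≠ (e j : ℕ) := fun h' => h (e.injective (Fin.ext h'))
    simp [h, this]

lemma eqOneB_of_fB_eq_one [DecidableEq ι] [Nontrivial R] (c : ℕ) (h : fB e R c = 1) : eqOneB n c = true := by
  rw [eqOneB, natForce_eq, List.all_eq_true]
  intro pos hpos
  rw [List.mem_range] at hpos
  have hn : 0 < n := by
    rcases Nat.eq_zero_or_pos n with h0 | h0
    · subst h0; simp at hpos
    · exact h0
  have ha : pos / n < n := Nat.div_lt_of_lt_mul hpos
  have hb : pos % n < n := Nat.mod_lt _ hn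
  have hij := congrFun (congrFun h (e.symm ⟨pos / n, ha⟩)) (e.symm ⟨pos % n, hb⟩)
  rw [fB_apply, Matrix.one_apply] at hij
  simp only [Equiv.apply_symm_apply, Nat.div_add_mod, EmbeddingLike.apply_eq_iff_eq,
    Fin.mk.injEq] at hij
  by_cases hd : pos / n = pos % n
  · rw [if_pos hd] at hij
    have : c.testBit pos = true := by
      by_contra hc
      rw [if_neg hc] at hij
      exact zero_ne_one hij
    simp [this, hd]
  · rw [if_neg hd] at hij
    have : c.testBit pos = false := by
      by_contra hc
      rw [Bool.not_eq_false] at hc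
      rw [if_pos hc] at hij
      exact one_ne_zero hij
    simp [this, hd]

lemma fB_map {S : Type*} [CommRing S] (φ : R →+* S) (c : ℕ) :
    (fB e R c).map φ = fB e S c := by
  ext i j
  rw [Matrix.map_apply, fB_apply, fB_apply]
  split_ifs <;> simp

end Ring

end Cfsg.Agent.Lib.Helper57
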