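import Cfsg.Agent.Lib.Helper57.BitMat

set_option autoImplicit false

/-!
# Bit matrices: a faster product and injectivity of the coding

The product of two `n × n` bit matrices is computed with `n` multiplications of natural numbers:
the column `k` of `x`, as a number with bits at the multiples of `n`, times the row `k` of `y`
puts a copy of that row in every row of the result selected by the column.
-/

namespace Cfsg.Agent.Lib.Helper57

/-- The set bits of `c` are at multiples of `n`. -/
def SpacedBits (n c : ℕ) : Prop := ∀ pos, c.testBit pos = true → n ∣ pos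

lemma SpacedBits.div (n c : ℕ) (h : SpacedBits n c) : SpacedBits n (c / 2 ^ n) := by
  intro pos hpos
  rw [Nat.testBit_div_two_pow] at hpos
  have := h _ hpos
  exact (Nat.dvd_add_left (dvd_refl n)).1 this

lemma SpacedBits.mod_eq (n c : ℕ) (hn : 0 < n) (h : SpacedBits n c) :
    c % 2 ^ n = if c.testBit 0 then 1 else 0 := by
  apply Nat.eq_of_testBit_eq
  intro pos
  rw [Nat.testBit_mod_two_pow]
  by_cases h0 : pos = 0
  · subst h0
    by_cases hc : c.testBit 0 = true
    · simp [hc, hn]
    · simp [hc]
  · have h1 : (if c.testBit 0 = true then 1 else 0 : ℕ).testBit pos = false := by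
      split_ifs
      · rw [Bool.eq_false_iff]
        intro h1
        exact h0 (Nat.testBit_one_eq_true_iff_self_eq_zero.1 h1)
      · exact Nat.zero_testBit pos
    rw [h1]
    by_cases hlt : pos < n
    · have h2 : c.testBit pos = false := by
        by_contra hc
        rw [Bool.not_eq_false] at hc
        have := Nat.le_of_dvd (Nat.pos_of_ne_zero h0) (h pos hc)
        omega
      simp [h2]
    · simp [hlt]

lemma testBit_spaced_mul (n : ℕ) (hn : 0 < n) (R : ℕ) (hR : R < 2 ^ n) :
    ∀ (i c : ℕ), SpacedBits n c → ∀ j < n,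
      (c * R).testBit (n * i + j) = (c.testBit (n * i) && R.testBit j) := by
  intro i
  induction i with
  | zero =>
    intro c hc j hj
    have hdecomp : c * R = 2 ^ n * (c / 2 ^ n * R) + c % 2 ^ n * R := by
      conv_lhs => rw [← Nat.div_add_mod c (2 ^ n)]
      ring
    have hlt : c % 2 ^ n * R < 2 ^ n := by
      rw [hc.mod_eq n c hn]
      split_ifs
      · simpa using hR
      · simp
    rw [hdecomp, Nat.testBit_two_pow_mul_add _ hlt, Nat.mul_zero, Nat.zero_add, if_pos hj,
      hc.mod_eq n c hn]
    by_cases h0 : c.testBit 0 = true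
    · simp [h0]
    · simp [h0]
  | succ i ih =>
    intro c hc j hj
    have hdecomp : c * R = 2 ^ n * (c / 2 ^ n * R) + c % 2 ^ n * R := by
      conv_lhs => rw [← Nat.div_add_mod c (2 ^ n)]
      ring
    have hlt : c % 2 ^ n * R < 2 ^ n := by
      rw [hc.mod_eq n c hn]
      split_ifs
      · simpa using hR
      · simp
    have hge : ¬ (n * (i + 1) + j < n) := by
      rw [Nat.mul_add, Nat.mul_one]
      omega
    have hsub : n * (i + 1) + j - n = n * i + j := by
      rw [Nat.mul_add, Nat.mul_one]
      omega
    rw [hdecomp, Nat.testBit_two_pow_mul_add _ hlt, if_neg hge, hsub, ih _ (hc.div n c) j hj,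
      Nat.testBit_div_two_pow, Nat.mul_add, Nat.mul_one]

/-- The mask with the bits `n * i`, `i < n`. -/
def maskCol (n : ℕ) : ℕ := ofBitsBelow (fun pos => decide (pos % n = 0)) (n * n)

lemma spacedBits_and_maskCol (n c : ℕ) : SpacedBits n (c &&& maskCol n) := by
  intro pos hpos
  rw [Nat.testBit_and, maskCol, testBit_ofBitsBelow] at hpos
  simp only [Bool.and_eq_true, decide_eq_true_eq] at hpos
  exact Nat.dvd_of_mod_eq_zero hpos.2.2

lemma testBit_maskCol (n i : ℕ) (hi : i < n) : (maskCol n).testBit (n * i) = true := by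
  rw [maskCol, testBit_ofBitsBelow]
  have h1 : n * i < n * n := Nat.mul_lt_mul_of_pos_left hi (by omega)
  simp [h1]

/-- The loop of the fast product. -/
def mulB2Go (n mask m x y : ℕ) : ℕ → ℕ → ℕ
  | 0, acc => acc
  | k + 1, acc =>
    natForce (Nat.xor acc (Nat.mul (Nat.land (Nat.shiftRight x k) mask)
        (Nat.mod (Nat.shiftRight y (Nat.mul n k)) m))) fun acc' =>
      mulB2Go n mask m x y k acc'

/-- Fast product of codes of `n × n` bit matrices; `mask` must be `maskCol n`. -/
def mulB2 (n mask x y : ℕ) : ℕ :=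
  natForce x fun x => natForce y fun y => natForce (Nat.pow 2 n) fun m => mulB2Go n mask m x y n 0

lemma testBit_mulB2Go (n mask m x y : ℕ) (K acc p : ℕ) :
    (mulB2Go n mask m x y K acc).testBit p =
      xor (acc.testBit p)
        (parityBelow (fun k => (((x >>> k) &&& mask) * ((y >>> (n * k)) % m)).testBit p) K) := by
  induction K generalizing acc with
  | zero => simp [mulB2Go, parityBelow]
  | succ K ih =>
    rw [mulB2Go, natForce_eq, ih]
    have hraw : Nat.xor acc (Nat.mul (Nat.land (Nat.shiftRight x K) mask)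
        (Nat.mod (Nat.shiftRight y (Nat.mul n K)) m)) =
        acc ^^^ ((x >>> K) &&& mask) * ((y >>> (n * K)) % m) := rfl
    rw [hraw, Nat.testBit_xor, parityBelow]
    cases acc.testBit p <;> cases parityBelow _ K <;> cases Nat.testBit _ p <;> rfl

lemma testBit_mulB2 (n x y i j : ℕ) (hi : i < n) (hj : j < n) :
    (mulB2 n (maskCol n) x y).testBit (n * i + j) =
      parityBelow (fun k => x.testBit (n * i + k) && y.testBit (n * k + j)) n := by
  have hn : 0 < n := by omega
  simp only [mulB2, natForce_eq]
  show (mulB2Go n (maskCol n) (2 ^ n) x y n 0).testBit (n * i + j) = _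
  rw [testBit_mulB2Go, Nat.zero_testBit, Bool.false_xor]
  congr 1
  funext k
  have hR : (y >>> (n * k)) % 2 ^ n < 2 ^ n := Nat.mod_lt _ (by positivity)
  rw [testBit_spaced_mul n hn _ hR i _ (spacedBits_and_maskCol n _) j hj, Nat.testBit_and,
    testBit_maskCol n i hi, Bool.and_true, Nat.testBit_shiftRight, Nat.testBit_mod_two_pow,
    Nat.testBit_shiftRight, Nat.add_comm k]
  simp [hj]

section Ring

variable {n : ℕ} {ι : Type*} (e : ι ≃ Fin n) (R : Type*) [CommRing R]

lemma fB_mulB2 [Fintype ι] (h2 : (2 : R) = 0) (mask : ℕ) (hmask : mask = maskCol n) (x y : ℕ) :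
    fB e R (mulB2 n mask x y) = fB e R x * fB e R y := by
  subst hmask
  ext i j
  rw [fB_apply, Matrix.mul_apply, testBit_mulB2 n x y _ _ (e i).2 (e j).2]
  simp only [fB_apply]
  rw [← sum_ite_parity R h2, ← Fin.sum_univ_eq_sum_range
    (fun m => if (x.testBit (n * (e i : ℕ) + m) && y.testBit (n * m + (e j : ℕ))) then (1 : R) else 0),
    ← Equiv.sum_comp e]
  apply Finset.sum_congr rfl
  intro k _
  cases x.testBit (n * (e i : ℕ) + (e k : ℕ)) <;> cases y.testBit (n * (e k : ℕ) + (e j : ℕ)) <;> simp

/-- The coding is injective on codes below `2 ^ (n * n)`. -/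
lemma fB_inj_of_lt [Nontrivial R] (c c' : ℕ) (hc : c < 2 ^ (n * n)) (hc' : c' < 2 ^ (n * n))
    (h : fB e R c = fB e R c') : c = c' := by
  apply Nat.eq_of_testBit_eq
  intro pos
  by_cases hpos : pos < n * n
  · have hn : 0 < n := by
      rcases Nat.eq_zero_or_pos n with h0 | h0
      · subst h0; simp at hpos
      · exact h0
    have ha : pos / n < n := Nat.div_lt_of_lt_mul hpos
    have hb : pos % n < n := Nat.mod_lt _ hn
    have hij := congrFun (congrFun h (e.symm ⟨pos / n, ha⟩)) (e.symm ⟨pos % n, hb⟩)
    rw [fB_apply, fB_apply] at hij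
    simp only [Equiv.apply_symm_apply, Nat.div_add_mod] at hij
    cases h1 : c.testBit pos <;> cases h2 : c'.testBit pos
    · rfl
    · rw [h1, h2] at hij
      simp at hij
    · rw [h1, h2] at hij
      simp at hij
    · rfl
  · have h1 : c.testBit pos = false :=
      Nat.testBit_lt_two_pow (lt_of_lt_of_le hc (Nat.pow_le_pow_right (by norm_num) (by omega)))
    have h2 : c'.testBit pos = false :=
      Nat.testBit_lt_two_pow (lt_of_lt_of_le hc' (Nat.pow_le_pow_right (by norm_num) (by omega)))
    rw [h1, h2]

end Ring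

end Cfsg.Agent.Lib.Helper57
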