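import Mathlib.Tactic

set_option autoImplicit false

/-!
# Homomorphisms checked on generators

A map `φ` from a group to a monoid with `φ 1 = 1` and `φ (g * s) = φ g * φ s` for all `g` and all
`s` in a generating set is multiplicative.  Generation is certified by a depth function.
-/

namespace Cfsg.Agent.Lib.Helper57

/-- Generation certified by a depth function: every non-identity element gets shallower when
multiplied on the right by the inverse of some generator. -/
theorem submonoid_closure_eq_top_of_dep {G : Type*} [Group G] (S : Set G) (dep : G → ℕ)
    (h : ∀ g : G, g = 1 ∨ ∃ s ∈ S, dep (g * s⁻¹) < dep g) : Submonoid.closure S = ⊤ := by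
  have key : ∀ n : ℕ, ∀ g : G, dep g = n → g ∈ Submonoid.closure S := by
    intro n
    induction n using Nat.strong_induction_on with
    | _ n ih =>
      intro g hn
      rcases h g with rfl | ⟨s, hs, hlt⟩
      · exact one_mem _
      · have h1 := ih _ (hn ▸ hlt) (g * s⁻¹) rfl
        have h2 : g = g * s⁻¹ * s := by group
        rw [h2]
        exact mul_mem h1 (Submonoid.subset_closure hs)
  rw [eq_top_iff]
  intro g _
  exact key _ g rfl

/-- A map compatible with right multiplication by generators is multiplicative. -/
theorem map_mul_of_closure_eq_top {G M : Type*} [Monoid G] [Monoid M] (φ : G → M) (S : Set G)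
    (hS : Submonoid.closure S = ⊤) (h1 : φ 1 = 1)
    (h : ∀ g : G, ∀ s ∈ S, φ (g * s) = φ g * φ s) (g k : G) : φ (g * k) = φ g * φ k := by
  induction k using Submonoid.induction_of_closure_eq_top_right hS generalizing g with
  | one => rw [mul_one, h1, mul_one]
  | mul_right x s hs ih =>
    rw [← mul_assoc, h _ s hs, ih, h x s hs, mul_assoc]

/-- The homomorphism defined by a map compatible with right multiplication by generators. -/
def homOfClosure {G M : Type*} [Monoid G] [Monoid M] (φ : G → M) (S : Set G)
    (hS : Submonoid.closure S = ⊤) (h1 : φ 1 = 1)
    (h : ∀ g : G, ∀ s ∈ S, φ (g * s) = φ g * φ s) : G →* M where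
  toFun := φ
  map_one' := h1
  map_mul' := map_mul_of_closure_eq_top φ S hS h1 h

/-- A property holding at the generators and stable under products holds everywhere. -/
theorem forall_of_closure_eq_top {G : Type*} [Monoid G] (S : Set G)
    (hS : Submonoid.closure S = ⊤) (P : G → Prop) (h1 : P 1) (hS' : ∀ s ∈ S, P s)
    (hmul : ∀ x y, P x → P y → P (x * y)) (g : G) : P g := by
  induction g using Submonoid.induction_of_closure_eq_top_right hS with
  | one => exact h1
  | mul_right x s hs ih => exact hmul x s ih (hS' s hs)

end Cfsg.Agent.Lib.Helper57
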