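import Mathlib.GroupTheory.SpecificGroups.Alternating
import Mathlib.GroupTheory.GroupAction.Quotient
import Mathlib.GroupTheory.QuotientGroup.Basic
import Mathlib.GroupTheory.Index
import Mathlib.Data.Finite.Perm
import Mathlib.Tactic

set_option autoImplicit false

/-!
# Recognising alternating groups from a coset action
-/

namespace Cfsg.Agent.Lib.Helper57

/-- If `H` has index `n` in `G`, its normal core is `N` and `|G/N| = n!/2`, then `G/N` is
isomorphic to the alternating group of degree `n`. -/
theorem quotient_core_equiv_alternating {G : Type*} [Group G] [Finite G] (H : Subgroup G) (n : ℕ)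
    (h2 : 2 ≤ n) (hn : H.index = n) (N : Subgroup G) [N.Normal] (hN : H.normalCore = N)
    (hcard : 2 * Nat.card (G ⧸ N) = n.factorial) :
    Nonempty (G ⧸ N ≃* alternatingGroup (Fin n)) := by
  classical
  haveI : Nontrivial (Fin n) := Fin.nontrivial_iff_two_le.2 h2
  let ψ := MulAction.toPermHom G (G ⧸ H)
  have hker : N = ψ.ker := by rw [← hN, Subgroup.normalCore_eq_ker]
  let e1 : G ⧸ N ≃* G ⧸ ψ.ker := QuotientGroup.quotientMulEquivOfEq hker
  let e2 : G ⧸ ψ.ker ≃* ψ.range := QuotientGroup.quotientKerEquivRange ψ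
  have hcardQ : Nat.card (G ⧸ H) = n := by rw [← hn]; rfl
  haveI : Fintype (G ⧸ H) := Fintype.ofFinite _
  let ε : G ⧸ H ≃ Fin n := Fintype.equivFinOfCardEq (by rw [← Nat.card_eq_fintype_card, hcardQ])
  let E : Equiv.Perm (G ⧸ H) ≃* Equiv.Perm (Fin n) := ε.permCongrHom
  let R : Subgroup (Equiv.Perm (Fin n)) := ψ.range.map E.toMonoidHom
  let e3 : ψ.range ≃* R := E.subgroupMap ψ.range
  have hcardR : Nat.card ψ.range = Nat.card (G ⧸ N) := Nat.card_congr (e1.trans e2).symm.toEquiv
  have hidx : R.index = 2 := by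
    have h1 : R.index = ψ.range.index := Subgroup.index_map_equiv ψ.range E
    have h3 := Subgroup.card_mul_index ψ.range
    rw [Nat.card_perm, hcardQ, hcardR] at h3
    rw [h1]
    have hpos : 0 < Nat.card (G ⧸ N) := Nat.card_pos
    have : Nat.card (G ⧸ N) * ψ.range.index = Nat.card (G ⧸ N) * 2 := by
      rw [h3, ← hcard, mul_comm]
    exact Nat.eq_of_mul_eq_mul_left hpos this
  have hR : R = alternatingGroup (Fin n) := Equiv.Perm.eq_alternatingGroup_of_index_eq_two hidx
  exact ⟨((e1.trans e2).trans e3).trans (MulEquiv.subgroupCongr hR)⟩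

end Cfsg.Agent.Lib.Helper57
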