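import Cfsg.Agent.Lib.Helper57.DataG22

set_option autoImplicit false
set_option maxHeartbeats 4000000

/-!
# The derived subgroup of `G₂(2)`: checks of the table and of the generators
-/

namespace Cfsg.Agent.Lib.Helper57.G22

open Cfsg.Lie Cfsg.Agent.Lib.Helper57

theorem xMat_one_eq : ∀ r : Fin 12,
    chevG2.xMat (ZMod 2) r 1 = fB eIdx (ZMod 2) (gC r.val) := by
  decide +kernel

theorem xMat_zero_eq : ∀ r : Fin 12, chevG2.xMat (ZMod 2) r 0 = 1 := by
  decide +kernel

theorem MASK_eq : MASK = maskCol 14 := by decide +kernel

theorem D_sorted : D.chkSorted = true := by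
  have h : natForce BIG (fun b => (mkD b).chkSorted) = true := by decide +kernel
  rwa [natForce_eq] at h

theorem D_one : D.chkOne (oneB 14) = true := by
  have h : natForce BIG (fun b => (mkD b).chkOne (oneB 14)) = true := by decide +kernel
  rwa [natForce_eq] at h

theorem D_par : D.chkPar = true := by
  have h : natForce BIG (fun b => (mkD b).chkPar) = true := by decide +kernel
  rwa [natForce_eq] at h

theorem ca_eq : ca = commC (gC 0) (gC 8) := by decide +kernel

theorem cb_eq : cb = commC (gC 3) (gC 11) := by decide +kernel

theorem gens_sq : ∀ r : Fin 12, mulG (gC r.val) (gC r.val) = oneB 14 := by decide +kernel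

theorem chk_comm : ∀ r s : Fin 12, D.memB (commC (gC r.val) (gC s.val)) = true := by
  have h : natForce BIG (fun b => decide (∀ r s : Fin 12,
      (mkD b).memB (commC (gC r.val) (gC s.val)) = true)) = true := by decide +kernel
  rw [natForce_eq, decide_eq_true_eq] at h
  exact h

theorem chk_conj : ∀ r : Fin 12, ∀ k : Fin 2, D.memB (conjC (gC r.val) (gc k.val)) = true := by
  have h : natForce BIG (fun b => decide (∀ r : Fin 12, ∀ k : Fin 2,
      (mkD b).memB (conjC (gC r.val) (gc k.val)) = true)) = true := by decide +kernel
  rw [natForce_eq, decide_eq_true_eq] at h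
  exact h

theorem T_ia : D.T 4534 = ca := by decide +kernel

theorem T_ib : D.T 3632 = cb := by decide +kernel

end Cfsg.Agent.Lib.Helper57.G22
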