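import Cfsg.Agent.Lib.Helper57.DataG22

set_option autoImplicit false
set_option maxHeartbeats 4000000

/-!
# The derived subgroup of `G₂(2)` and `SU₃(3)`: checks of the homomorphism
-/

namespace Cfsg.Agent.Lib.Helper57.G22

open Cfsg.Lie Cfsg.Agent.Lib.Helper57

theorem U_one : U 2992 = 43053283 := by decide +kernel

theorem U_a : U 4534 = cA := by decide +kernel

theorem U_b : U 3632 = cB := by decide +kernel

theorem vA_spec : ∀ v < 9 ^ 3, vA v < 9 ^ 3 ∧
    rowVec 9 3 dig9 (vA v) = Matrix.vecMul (rowVec 9 3 dig9 v) (f9 cA) := by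
  decide +kernel

theorem vB_spec : ∀ v < 9 ^ 3, vB v < 9 ^ 3 ∧
    rowVec 9 3 dig9 (vB v) = Matrix.vecMul (rowVec 9 3 dig9 v) (f9 cB) := by
  decide +kernel

theorem f9_one : f9 43053283 = 1 := by decide +kernel

theorem det_A : (f9 cA).det = 1 := by rw [Matrix.det_fin_three]; decide +kernel

theorem det_B : (f9 cB).det = 1 := by rw [Matrix.det_fin_three]; decide +kernel

theorem unitary_A : (f9 cA).transpose * (f9 cA).map (· ^ 3) = 1 := by decide +kernel

theorem unitary_B : (f9 cB).transpose * (f9 cB).map (· ^ 3) = 1 := by decide +kernel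

theorem chk_hom : (List.range 6048).all (fun i =>
    U (nxt i 0) == mapRows 9 3 vA (U i) && U (nxt i 1) == mapRows 9 3 vB (U i)) = true := by
  decide +kernel

theorem chk_ker : (List.range 6048).all (fun i => i == 2992 || U i != 43053283) = true := by
  decide +kernel

theorem chk_U_lt : (List.range 6048).all (fun i => decide (U i < (9 ^ 3) ^ 3)) = true := by
  decide +kernel

end Cfsg.Agent.Lib.Helper57.G22
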