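import Cfsg.Agent.Lib.Helper57.DataG22

set_option autoImplicit false
set_option maxHeartbeats 4000000

/-!
# The derived subgroup of `G₂(2)`: check of the Cayley graph
-/

namespace Cfsg.Agent.Lib.Helper57.G22

open Cfsg.Lie Cfsg.Agent.Lib.Helper57

theorem D_next : D.chkNext mulG = true := by
  have h : natForce BIG (fun b => (mkD b).chkNext mulG) = true := by decide +kernel
  rwa [natForce_eq] at h

end Cfsg.Agent.Lib.Helper57.G22
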