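import Cfsg.Agent.Lib.Helper57.DataJ1Cent

set_option autoImplicit false
set_option maxHeartbeats 4000000

/-!
# The Janko group `J₁`: data for the Schur multiplier

An element `s` of order 7 normalising the elementary abelian subgroup `E` of order 8: the conjugates
`aᵢ = sⁱ t s⁻ⁱ`, `i < 7`, are the involutions of `E`, and `a₀ a₁ = a₃`.
-/

namespace Cfsg.Agent.Lib.Helper57.J1

open Cfsg.Agent.Lib.Helper57

/-- The code of `s`. -/
def cs : ℕ := 0xc060140701800018020080401c0200c0a01805014020080400c0401c0000c040280001004000050040801c0601008008060100401c080180901804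

/-- The code of the inverse of `s`. -/
def csi : ℕ := 0x180a00c0001c0400c02018040100601c060080501c04010080140401400000080180701c0200c05008090180200804004060180000c040280801004

/-- The code of `aᵢ = sⁱ t s⁻ⁱ`. -/
def aC (i : ℕ) : ℕ := conjC (powC cs i) (powC csi i) ct

theorem s_ok : okPair cs csi = true := by decide +kernel

theorem s_pow : powC cs 7 = oneC := by decide +kernel

theorem a_comm : ∀ i j : Fin 7, mulR (aC i.val) (aC j.val) = mulR (aC j.val) (aC i.val) := by
  decide +kernel

theorem a_rel : mulR (aC 0) (aC 1) = aC 3 := by decide +kernel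

theorem E_elems : ∀ k : Fin 8, DE.T k.val = oneC ∨ ∃ i : Fin 7, DE.T k.val = aC i.val := by
  decide +kernel

end Cfsg.Agent.Lib.Helper57.J1
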