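import Cfsg.Agent.Lib.Helper57.DataJ1

set_option autoImplicit false
set_option maxHeartbeats 4000000

/-!
# The Janko group `J₁`: the table of codes is increasing
-/

namespace Cfsg.Agent.Lib.Helper57.J1

open Cfsg.Agent.Lib.Helper57

theorem sorted_0 : allFrom 0 43890 D.sortedAt = true := by decide +kernel

theorem sorted_1 : allFrom 43890 43890 D.sortedAt = true := by decide +kernel

theorem sorted_2 : allFrom 87780 43890 D.sortedAt = true := by decide +kernel

theorem sorted_3 : allFrom 131670 43889 D.sortedAt = true := by decide +kernel

theorem D_sorted : D.chkSorted = true := by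
  apply CayleyData.chkSorted_of_forall
  intro i hi
  have hi' : i < 175559 := hi
  by_cases h0 : i < 43890
  · exact allFrom_spec sorted_0 i (by omega) (by omega)
  by_cases h1 : i < 87780
  · exact allFrom_spec sorted_1 i (by omega) (by omega)
  by_cases h2 : i < 131670
  · exact allFrom_spec sorted_2 i (by omega) (by omega)
  exact allFrom_spec sorted_3 i (by omega) (by omega)

end Cfsg.Agent.Lib.Helper57.J1
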