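import Cfsg.Agent.Lib.Helper57.DataRee3

set_option autoImplicit false
set_option maxHeartbeats 4000000

/-!
# The Ree group `²G₂(3)`: checks of the table of the group
-/

namespace Cfsg.Agent.Lib.Helper57.Ree3

open Cfsg.Lie Cfsg.Agent.Lib.Helper57

theorem DG_sorted : DG.chkSorted = true := by decide +kernel

theorem DG_one : DG.chkOne oneC = true := by decide +kernel

theorem DG_par : DG.chkPar = true := by decide +kernel

theorem DG_next_0 : allFrom 0 252 (DG.nextAt mulR) = true := by decide +kernel

theorem DG_next_1 : allFrom 252 252 (DG.nextAt mulR) = true := by decide +kernel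

theorem DG_next_2 : allFrom 504 252 (DG.nextAt mulR) = true := by decide +kernel

theorem DG_next_3 : allFrom 756 252 (DG.nextAt mulR) = true := by decide +kernel

theorem DG_next_4 : allFrom 1008 252 (DG.nextAt mulR) = true := by decide +kernel

theorem DG_next_5 : allFrom 1260 252 (DG.nextAt mulR) = true := by decide +kernel

theorem DG_next : DG.chkNext mulR = true := by
  apply CayleyData.chkNext_of_forall
  intro i hi
  have hi' : i < 1512 := hi
  by_cases h0 : i < 252
  · exact allFrom_spec DG_next_0 i (by omega) (by omega)
  by_cases h1 : i < 504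
  · exact allFrom_spec DG_next_1 i (by omega) (by omega)
  by_cases h2 : i < 756
  · exact allFrom_spec DG_next_2 i (by omega) (by omega)
  by_cases h3 : i < 1008
  · exact allFrom_spec DG_next_3 i (by omega) (by omega)
  by_cases h4 : i < 1260
  · exact allFrom_spec DG_next_4 i (by omega) (by omega)
  exact allFrom_spec DG_next_5 i (by omega) (by omega)

theorem TG_valid_0 : allFrom 0 756 (fun i => validB 3 64 14 (TG i)) = true := by decide +kernel

theorem TG_valid_1 : allFrom 756 756 (fun i => validB 3 64 14 (TG i)) = true := by decide +kernel

theorem TG_valid : ∀ i < 1512, validB 3 64 14 (TG i) = true := by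
  intro i hi
  by_cases h0 : i < 756
  · exact allFrom_spec TG_valid_0 i (by omega) (by omega)
  exact allFrom_spec TG_valid_1 i (by omega) (by omega)

theorem TG_ix : DG.T 432 = cx := by decide +kernel

theorem TG_iy : DG.T 58 = cy := by decide +kernel

end Cfsg.Agent.Lib.Helper57.Ree3
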