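import Cfsg.Agent.Lib.Helper57.DataRee3

set_option autoImplicit false
set_option maxHeartbeats 4000000

/-!
# The Ree group `²G₂(3)`: checks of the table of the derived subgroup and of the homomorphism
-/

namespace Cfsg.Agent.Lib.Helper57.Ree3

open Cfsg.Lie Cfsg.Agent.Lib.Helper57

theorem DN_sorted : DN.chkSorted = true := by decide +kernel

theorem DN_one : DN.chkOne oneC = true := by decide +kernel

theorem DN_par : DN.chkPar = true := by decide +kernel

theorem DN_next_0 : allFrom 0 252 (DN.nextAt mulR) = true := by decide +kernel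

theorem DN_next_1 : allFrom 252 252 (DN.nextAt mulR) = true := by decide +kernel

theorem DN_next : DN.chkNext mulR = true := by
  apply CayleyData.chkNext_of_forall
  intro i hi
  have hi' : i < 504 := hi
  by_cases h0 : i < 252
  · exact allFrom_spec DN_next_0 i (by omega) (by omega)
  exact allFrom_spec DN_next_1 i (by omega) (by omega)

theorem TN_valid : ∀ i < 504, validB 3 64 14 (TN i) = true := by
  intro i hi
  have h : allFrom 0 504 (fun i => validB 3 64 14 (TN i)) = true := by decide +kernel
  exact allFrom_spec h i (by omega) (by omega)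

theorem TN_ia : DN.T 4 = ca := by decide +kernel

theorem TN_ib : DN.T 257 = cb := by decide +kernel

theorem U_one : U 18 = oneC8 := by decide +kernel

theorem U_a : U 4 = cA := by decide +kernel

theorem U_b : U 257 = cB := by decide +kernel

theorem vA8_spec : ∀ v < 8 ^ 2, vA8 v < 8 ^ 2 ∧
    rowVec 8 2 dig8 (vA8 v) = Matrix.vecMul (rowVec 8 2 dig8 v) (f8 cA) := by
  decide +kernel

theorem vB8_spec : ∀ v < 8 ^ 2, vB8 v < 8 ^ 2 ∧
    rowVec 8 2 dig8 (vB8 v) = Matrix.vecMul (rowVec 8 2 dig8 v) (f8 cB) := by
  decide +kernel

theorem f8_one : f8 oneC8 = 1 := by decide +kernel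

theorem det_A : (f8 cA).det = 1 := by rw [Matrix.det_fin_two]; decide +kernel

theorem det_B : (f8 cB).det = 1 := by rw [Matrix.det_fin_two]; decide +kernel

theorem chk_hom : ∀ i < 504, homAt i = true := by
  intro i hi
  have h : allFrom 0 504 homAt = true := by decide +kernel
  exact allFrom_spec h i (by omega) (by omega)

theorem chk_ker : (List.range 504).all (fun i => i == 18 || U i != oneC8) = true := by
  decide +kernel

end Cfsg.Agent.Lib.Helper57.Ree3
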