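import Cfsg.Agent.Lib.Helper57.DataRee3

set_option autoImplicit false
set_option maxHeartbeats 4000000

/-!
# The Ree group `²G₂(3)`: checks of the generators
-/

namespace Cfsg.Agent.Lib.Helper57.Ree3

open Cfsg.Lie Cfsg.Agent.Lib.Helper57

theorem xMat_eq : ∀ c : ZMod 3, ∀ r : Fin 12,
    chevG2.xMat (ZMod 3) r c = f14 (xCode r.val c.val) := by
  decide +kernel

theorem xCode_valid : ∀ c : ZMod 3, ∀ r : Fin 12, validB 3 64 14 (xCode r.val c.val) = true := by
  decide +kernel

theorem f14_one : f14 oneC = 1 := by decide +kernel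

theorem oneC_valid : validB 3 64 14 oneC = true := by decide +kernel

theorem cx_eq : cx = wordC (reeWordU 1 (1 : ZMod 3) 2 1) := by decide +kernel

theorem cy_eq : cy = wordC (reeWordV 1 (0 : ZMod 3) 2 1) := by decide +kernel

theorem cx_valid : validB 3 64 14 cx = true := by decide +kernel

theorem cy_valid : validB 3 64 14 cy = true := by decide +kernel

theorem cxi_valid : validB 3 64 14 cxi = true := by decide +kernel

theorem cyi_valid : validB 3 64 14 cyi = true := by decide +kernel

theorem ca_valid : validB 3 64 14 ca = true := by decide +kernel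

theorem cb_valid : validB 3 64 14 cb = true := by decide +kernel

theorem cx_inv : mulR cx cxi = oneC ∧ mulR cxi cx = oneC := by decide +kernel

theorem cy_inv : mulR cy cyi = oneC ∧ mulR cyi cy = oneC := by decide +kernel

theorem ca_eq : ca = mulR (mulR (mulR cx cy) cxi) cyi := by decide +kernel

theorem cb_eq : cb = mulR (mulR cy ca) cyi := by decide +kernel

theorem words_mem : ∀ t u v : ZMod 3, DG.memB (wordC (reeWordU 1 t u v)) = true ∧
    DG.memB (wordC (reeWordV 1 t u v)) = true := by
  decide +kernel

theorem conj_mem : ∀ k : Fin 2, DN.memB (conjC cx cxi (gcN k.val)) = true ∧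
    DN.memB (conjC cxi cx (gcN k.val)) = true ∧ DN.memB (conjC cy cyi (gcN k.val)) = true ∧
    DN.memB (conjC cyi cy (gcN k.val)) = true := by
  decide +kernel

end Cfsg.Agent.Lib.Helper57.Ree3
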