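import Cfsg.Agent.Lib.Helper57.DataS43

set_option autoImplicit false
set_option maxHeartbeats 4000000

/-!
# `Sp₄(3)`: checks of the table
-/

namespace Cfsg.Agent.Lib.Helper57.S43

open Cfsg.Agent.Lib.Helper57

theorem D_sorted : D.chkSorted = true := by decide +kernel

theorem D_one : D.chkOne oneC = true := by decide +kernel

theorem D_par : D.chkPar = true := by decide +kernel

theorem T_ia : D.T 8134 = ca := by decide +kernel

theorem T_ib : D.T 40839 = cb := by decide +kernel

theorem T_neg : D.T 34479 = negC := by decide +kernel

theorem T_last : D.T 51839 < 43046721 := by decide +kernel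

theorem ca_ne_cb : cb ≠ ca := by decide

end Cfsg.Agent.Lib.Helper57.S43
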