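import Cfsg.Agent.Lib.Helper57.DataS43

set_option autoImplicit false
set_option maxHeartbeats 4000000

/-!
# `Sp₄(3)`: check of the Cayley graph
-/

namespace Cfsg.Agent.Lib.Helper57.S43

open Cfsg.Agent.Lib.Helper57

theorem D_next_0 : allFrom 0 6480 (D.nextAt mulC) = true := by decide +kernel

theorem D_next_1 : allFrom 6480 6480 (D.nextAt mulC) = true := by decide +kernel

theorem D_next_2 : allFrom 12960 6480 (D.nextAt mulC) = true := by decide +kernel

theorem D_next_3 : allFrom 19440 6480 (D.nextAt mulC) = true := by decide +kernel

theorem D_next_4 : allFrom 25920 6480 (D.nextAt mulC) = true := by decide +kernel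

theorem D_next_5 : allFrom 32400 6480 (D.nextAt mulC) = true := by decide +kernel

theorem D_next_6 : allFrom 38880 6480 (D.nextAt mulC) = true := by decide +kernel

theorem D_next_7 : allFrom 45360 6480 (D.nextAt mulC) = true := by decide +kernel

theorem D_next : D.chkNext mulC = true := by
  apply CayleyData.chkNext_of_forall
  intro i hi
  have hi' : i < 51840 := hi
  by_cases h0 : i < 6480
  · exact allFrom_spec D_next_0 i (by omega) (by omega)
  by_cases h1 : i < 12960
  · exact allFrom_spec D_next_1 i (by omega) (by omega)
  by_cases h2 : i < 19440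
  · exact allFrom_spec D_next_2 i (by omega) (by omega)
  by_cases h3 : i < 25920
  · exact allFrom_spec D_next_3 i (by omega) (by omega)
  by_cases h4 : i < 32400
  · exact allFrom_spec D_next_4 i (by omega) (by omega)
  by_cases h5 : i < 38880
  · exact allFrom_spec D_next_5 i (by omega) (by omega)
  by_cases h6 : i < 45360
  · exact allFrom_spec D_next_6 i (by omega) (by omega)
  exact allFrom_spec D_next_7 i (by omega) (by omega)

end Cfsg.Agent.Lib.Helper57.S43
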