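import Cfsg.Agent.Lib.Helper57.DataS43

set_option autoImplicit false
set_option maxHeartbeats 4000000

/-!
# `Sp₄(3)` and `SU₄(2)`: checks of the homomorphism
-/

namespace Cfsg.Agent.Lib.Helper57.S43

open Cfsg.Agent.Lib.Helper57

theorem U_one : U 16902 = oneC4 := by decide +kernel

theorem U_a : U 8134 = cA := by decide +kernel

theorem U_b : U 40839 = cB := by decide +kernel

/-- The check of the homomorphism at the index `i`. -/
def homAt (i : ℕ) : Bool :=
  U (nxt i 0) == mapRows 4 4 vA4 (U i) && U (nxt i 1) == mapRows 4 4 vB4 (U i)

theorem chk_hom_0 : allFrom 0 6480 homAt = true := by decide +kernel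

theorem chk_hom_1 : allFrom 6480 6480 homAt = true := by decide +kernel

theorem chk_hom_2 : allFrom 12960 6480 homAt = true := by decide +kernel

theorem chk_hom_3 : allFrom 19440 6480 homAt = true := by decide +kernel

theorem chk_hom_4 : allFrom 25920 6480 homAt = true := by decide +kernel

theorem chk_hom_5 : allFrom 32400 6480 homAt = true := by decide +kernel

theorem chk_hom_6 : allFrom 38880 6480 homAt = true := by decide +kernel

theorem chk_hom_7 : allFrom 45360 6480 homAt = true := by decide +kernel

theorem chk_hom : ∀ i < 51840, homAt i = true := by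
  intro i hi
  by_cases h0 : i < 6480
  · exact allFrom_spec chk_hom_0 i (by omega) (by omega)
  by_cases h1 : i < 12960
  · exact allFrom_spec chk_hom_1 i (by omega) (by omega)
  by_cases h2 : i < 19440
  · exact allFrom_spec chk_hom_2 i (by omega) (by omega)
  by_cases h3 : i < 25920
  · exact allFrom_spec chk_hom_3 i (by omega) (by omega)
  by_cases h4 : i < 32400
  · exact allFrom_spec chk_hom_4 i (by omega) (by omega)
  by_cases h5 : i < 38880
  · exact allFrom_spec chk_hom_5 i (by omega) (by omega)
  by_cases h6 : i < 45360
  · exact allFrom_spec chk_hom_6 i (by omega) (by omega)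
  exact allFrom_spec chk_hom_7 i (by omega) (by omega)

theorem chk_ker : (List.range 51840).all (fun i => i == 16902 || i == 34479 || U i != oneC4) = true := by
  decide +kernel

end Cfsg.Agent.Lib.Helper57.S43
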