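import Cfsg.Agent.Lib.Helper57.DataS43

set_option autoImplicit false
set_option maxHeartbeats 4000000

/-!
# `Sp₄(3)` and `SU₄(2)`: checks of the generators and of the tables of right multiplications
-/

namespace Cfsg.Agent.Lib.Helper57.S43

open Cfsg.Agent.Lib.Helper57

theorem vA3_spec : ∀ v < 3 ^ 4, vA3 v < 3 ^ 4 ∧
    rowVec 3 4 (Nat.cast : ℕ → ZMod 3) (vA3 v) =
      Matrix.vecMul (rowVec 3 4 (Nat.cast : ℕ → ZMod 3) v) (f3 (ZMod 3) ca) := by
  decide +kernel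

theorem vB3_spec : ∀ v < 3 ^ 4, vB3 v < 3 ^ 4 ∧
    rowVec 3 4 (Nat.cast : ℕ → ZMod 3) (vB3 v) =
      Matrix.vecMul (rowVec 3 4 (Nat.cast : ℕ → ZMod 3) v) (f3 (ZMod 3) cb) := by
  decide +kernel

theorem vA4_spec : ∀ v < 4 ^ 4, vA4 v < 4 ^ 4 ∧
    rowVec 4 4 dig4 (vA4 v) = Matrix.vecMul (rowVec 4 4 dig4 v) (f4 cA) := by
  decide +kernel

theorem vB4_spec : ∀ v < 4 ^ 4, vB4 v < 4 ^ 4 ∧
    rowVec 4 4 dig4 (vB4 v) = Matrix.vecMul (rowVec 4 4 dig4 v) (f4 cB) := by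
  decide +kernel

theorem f3_one : f3 (ZMod 3) oneC = 1 := by decide +kernel

theorem f3_neg : f3 (ZMod 3) negC = -1 := by decide +kernel

theorem f4_one : f4 oneC4 = 1 := by decide +kernel

theorem det_A : (f4 cA).det = 1 := by
  rw [Matrix.det_apply']
  decide +kernel

theorem det_B : (f4 cB).det = 1 := by
  rw [Matrix.det_apply']
  decide +kernel

theorem unitary_A : (f4 cA).transpose * (f4 cA).map (· ^ 2) = 1 := by decide +kernel

theorem unitary_B : (f4 cB).transpose * (f4 cB).map (· ^ 2) = 1 := by decide +kernel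

/-- The numbering of the coordinates. -/
def eIdx : Fin 2 ⊕ Fin 2 ≃ Fin 4 := finSumFinEquiv

theorem sp_a : (f3 (ZMod 3) ca).submatrix eIdx eIdx ∈ Matrix.symplecticGroup (Fin 2) (ZMod 3) := by
  rw [SymplecticGroup.mem_iff]
  decide +kernel

theorem sp_b : (f3 (ZMod 3) cb).submatrix eIdx eIdx ∈ Matrix.symplecticGroup (Fin 2) (ZMod 3) := by
  rw [SymplecticGroup.mem_iff]
  decide +kernel

end Cfsg.Agent.Lib.Helper57.S43
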