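import Mathlib.Tactic
import Mathlib.FieldTheory.Finite.Basic
import Mathlib.Algebra.Field.Basic

set_option autoImplicit false

/-!
# The field with eight elements

A computable model of the field with eight elements, `𝔽₂[z]/(z³ + z + 1)`: the element
`c₀ + c₁ z + c₂ z²` is coded by the number `c₀ + 2 c₁ + 4 c₂`.  All the axioms are checked by
`decide`.
-/

namespace Cfsg.Agent.Lib.Helper57

/-- The field with eight elements. -/
structure F8 where
  /-- the code of the element -/
  val : Fin 8
deriving DecidableEq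

namespace F8

/-- The equivalence with `Fin 8`. -/
def equivFin : F8 ≃ Fin 8 := ⟨F8.val, F8.mk, fun _ => rfl, fun _ => rfl⟩

instance : Fintype F8 := Fintype.ofEquiv (Fin 8) equivFin.symm

lemma card : Fintype.card F8 = 8 := by
  rw [Fintype.card_congr equivFin, Fintype.card_fin]

/-- The multiplication table. -/
def mulTab : List ℕ :=
  [0, 0, 0, 0, 0, 0, 0, 0, 0, 1, 2, 3, 4, 5, 6, 7, 0, 2, 4, 6, 3, 1, 7, 5, 0, 3, 6, 5, 7, 4, 1, 2,
   0, 4, 3, 7, 6, 2, 5, 1, 0, 5, 1, 4, 2, 7, 3, 6, 0, 6, 7, 1, 5, 3, 2, 4, 0, 7, 5, 2, 1, 6, 4, 3]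

/-- The table of inverses. -/
def invTab : List ℕ := [0, 1, 5, 6, 7, 2, 3, 4]

/-- The element with a given code. -/
def ofNat (d : ℕ) : F8 := ⟨Fin.ofNat 8 d⟩

instance : Add F8 := ⟨fun a b => ofNat (Nat.xor a.val.val b.val.val)⟩
instance : Mul F8 := ⟨fun a b => ofNat (mulTab.getD (8 * a.val.val + b.val.val) 0)⟩
instance : Zero F8 := ⟨ofNat 0⟩
instance : One F8 := ⟨ofNat 1⟩
instance : Neg F8 := ⟨fun a => a⟩
instance : Inv F8 := ⟨fun a => ofNat (invTab.getD a.val.val 0)⟩

instance : Field F8 where
  add_assoc := by decide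
  zero_add := by decide
  add_zero := by decide
  nsmul := nsmulRec
  neg_add_cancel := by decide
  zsmul := zsmulRec
  add_comm := by decide
  left_distrib := by decide
  right_distrib := by decide
  zero_mul := by decide
  mul_zero := by decide
  mul_assoc := by decide
  one_mul := by decide
  mul_one := by decide
  mul_comm := by decide
  exists_pair_ne := ⟨0, 1, by decide⟩
  mul_inv_cancel := by decide
  inv_zero := by decide
  nnqsmul := _
  qsmul := _

end F8

/-- The element of `F8` with a given base `8` digit. -/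
def dig8 (d : ℕ) : F8 := F8.ofNat d

lemma dig8_injOn : ∀ a < 8, ∀ b < 8, dig8 a = dig8 b → a = b := by decide

end Cfsg.Agent.Lib.Helper57
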