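import Mathlib

set_option autoImplicit false

/-!
# The field with sixteen elements as an enumerated type

`N16` has the sixteen constructors `e0, …, e15`; `e k` stands for the class of the polynomial over
`𝔽₂` whose coefficients are the binary digits of `k`, modulo `X ^ 4 + X + 1`.  The operations are
given by their tables, so that the kernel evaluates them quickly; the field axioms are checked by
`decide`.
-/

namespace Cfsg.Agent.Lib.Helper57

/-- The field with sixteen elements: `e k` is the class of the polynomial with the binary digits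
of `k` modulo `X ^ 4 + X + 1`. -/
inductive N16 : Type
  | e0 | e1 | e2 | e3 | e4 | e5 | e6 | e7 | e8 | e9 | e10 | e11 | e12 | e13 | e14 | e15
  deriving DecidableEq

namespace N16

/-- The table of `add`. -/
def add : N16 → N16 → N16
  | e0, e0 => e0
  | e0, e1 => e1
  | e0, e2 => e2
  | e0, e3 => e3
  | e0, e4 => e4
  | e0, e5 => e5
  | e0, e6 => e6
  | e0, e7 => e7
  | e0, e8 => e8
  | e0, e9 => e9
  | e0, e10 => e10
  | e0, e11 => e11
  | e0, e12 => e12
  | e0, e13 => e13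
  | e0, e14 => e14
  | e0, e15 => e15
  | e1, e0 => e1
  | e1, e1 => e0
  | e1, e2 => e3
  | e1, e3 => e2
  | e1, e4 => e5
  | e1, e5 => e4
  | e1, e6 => e7
  | e1, e7 => e6
  | e1, e8 => e9
  | e1, e9 => e8
  | e1, e10 => e11
  | e1, e11 => e10
  | e1, e12 => e13
  | e1, e13 => e12
  | e1, e14 => e15
  | e1, e15 => e14
  | e2, e0 => e2
  | e2, e1 => e3
  | e2, e2 => e0
  | e2, e3 => e1
  | e2, e4 => e6
  | e2, e5 => e7
  | e2, e6 => e4
  | e2, e7 => e5
  | e2, e8 => e10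
  | e2, e9 => e11
  | e2, e10 => e8
  | e2, e11 => e9
  | e2, e12 => e14
  | e2, e13 => e15
  | e2, e14 => e12
  | e2, e15 => e13
  | e3, e0 => e3
  | e3, e1 => e2
  | e3, e2 => e1
  | e3, e3 => e0
  | e3, e4 => e7
  | e3, e5 => e6
  | e3, e6 => e5
  | e3, e7 => e4
  | e3, e8 => e11
  | e3, e9 => e10
  | e3, e10 => e9
  | e3, e11 => e8
  | e3, e12 => e15
  | e3, e13 => e14
  | e3, e14 => e13
  | e3, e15 => e12
  | e4, e0 => e4
  | e4, e1 => e5
  | e4, e2 => e6
  | e4, e3 => e7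
  | e4, e4 => e0
  | e4, e5 => e1
  | e4, e6 => e2
  | e4, e7 => e3
  | e4, e8 => e12
  | e4, e9 => e13
  | e4, e10 => e14
  | e4, e11 => e15
  | e4, e12 => e8
  | e4, e13 => e9
  | e4, e14 => e10
  | e4, e15 => e11
  | e5, e0 => e5
  | e5, e1 => e4
  | e5, e2 => e7
  | e5, e3 => e6
  | e5, e4 => e1
  | e5, e5 => e0
  | e5, e6 => e3
  | e5, e7 => e2
  | e5, e8 => e13
  | e5, e9 => e12
  | e5, e10 => e15
  | e5, e11 => e14
  | e5, e12 => e9
  | e5, e13 => e8
  | e5, e14 => e11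
  | e5, e15 => e10
  | e6, e0 => e6
  | e6, e1 => e7
  | e6, e2 => e4
  | e6, e3 => e5
  | e6, e4 => e2
  | e6, e5 => e3
  | e6, e6 => e0
  | e6, e7 => e1
  | e6, e8 => e14
  | e6, e9 => e15
  | e6, e10 => e12
  | e6, e11 => e13
  | e6, e12 => e10
  | e6, e13 => e11
  | e6, e14 => e8
  | e6, e15 => e9
  | e7, e0 => e7
  | e7, e1 => e6
  | e7, e2 => e5
  | e7, e3 => e4
  | e7, e4 => e3
  | e7, e5 => e2
  | e7, e6 => e1
  | e7, e7 => e0
  | e7, e8 => e15
  | e7, e9 => e14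
  | e7, e10 => e13
  | e7, e11 => e12
  | e7, e12 => e11
  | e7, e13 => e10
  | e7, e14 => e9
  | e7, e15 => e8
  | e8, e0 => e8
  | e8, e1 => e9
  | e8, e2 => e10
  | e8, e3 => e11
  | e8, e4 => e12
  | e8, e5 => e13
  | e8, e6 => e14
  | e8, e7 => e15
  | e8, e8 => e0
  | e8, e9 => e1
  | e8, e10 => e2
  | e8, e11 => e3
  | e8, e12 => e4
  | e8, e13 => e5
  | e8, e14 => e6
  | e8, e15 => e7
  | e9, e0 => e9
  | e9, e1 => e8
  | e9, e2 => e11
  | e9, e3 => e10
  | e9, e4 => e13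
  | e9, e5 => e12
  | e9, e6 => e15
  | e9, e7 => e14
  | e9, e8 => e1
  | e9, e9 => e0
  | e9, e10 => e3
  | e9, e11 => e2
  | e9, e12 => e5
  | e9, e13 => e4
  | e9, e14 => e7
  | e9, e15 => e6
  | e10, e0 => e10
  | e10, e1 => e11
  | e10, e2 => e8
  | e10, e3 => e9
  | e10, e4 => e14
  | e10, e5 => e15
  | e10, e6 => e12
  | e10, e7 => e13
  | e10, e8 => e2
  | e10, e9 => e3
  | e10, e10 => e0
  | e10, e11 => e1
  | e10, e12 => e6
  | e10, e13 => e7
  | e10, e14 => e4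
  | e10, e15 => e5
  | e11, e0 => e11
  | e11, e1 => e10
  | e11, e2 => e9
  | e11, e3 => e8
  | e11, e4 => e15
  | e11, e5 => e14
  | e11, e6 => e13
  | e11, e7 => e12
  | e11, e8 => e3
  | e11, e9 => e2
  | e11, e10 => e1
  | e11, e11 => e0
  | e11, e12 => e7
  | e11, e13 => e6
  | e11, e14 => e5
  | e11, e15 => e4
  | e12, e0 => e12
  | e12, e1 => e13
  | e12, e2 => e14
  | e12, e3 => e15
  | e12, e4 => e8
  | e12, e5 => e9
  | e12, e6 => e10
  | e12, e7 => e11
  | e12, e8 => e4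
  | e12, e9 => e5
  | e12, e10 => e6
  | e12, e11 => e7
  | e12, e12 => e0
  | e12, e13 => e1
  | e12, e14 => e2
  | e12, e15 => e3
  | e13, e0 => e13
  | e13, e1 => e12
  | e13, e2 => e15
  | e13, e3 => e14
  | e13, e4 => e9
  | e13, e5 => e8
  | e13, e6 => e11
  | e13, e7 => e10
  | e13, e8 => e5
  | e13, e9 => e4
  | e13, e10 => e7
  | e13, e11 => e6
  | e13, e12 => e1
  | e13, e13 => e0
  | e13, e14 => e3
  | e13, e15 => e2
  | e14, e0 => e14
  | e14, e1 => e15
  | e14, e2 => e12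
  | e14, e3 => e13
  | e14, e4 => e10
  | e14, e5 => e11
  | e14, e6 => e8
  | e14, e7 => e9
  | e14, e8 => e6
  | e14, e9 => e7
  | e14, e10 => e4
  | e14, e11 => e5
  | e14, e12 => e2
  | e14, e13 => e3
  | e14, e14 => e0
  | e14, e15 => e1
  | e15, e0 => e15
  | e15, e1 => e14
  | e15, e2 => e13
  | e15, e3 => e12
  | e15, e4 => e11
  | e15, e5 => e10
  | e15, e6 => e9
  | e15, e7 => e8
  | e15, e8 => e7
  | e15, e9 => e6
  | e15, e10 => e5
  | e15, e11 => e4
  | e15, e12 => e3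
  | e15, e13 => e2
  | e15, e14 => e1
  | e15, e15 => e0

/-- The table of `mul`. -/
def mul : N16 → N16 → N16
  | e0, e0 => e0
  | e0, e1 => e0
  | e0, e2 => e0
  | e0, e3 => e0
  | e0, e4 => e0
  | e0, e5 => e0
  | e0, e6 => e0
  | e0, e7 => e0
  | e0, e8 => e0
  | e0, e9 => e0
  | e0, e10 => e0
  | e0, e11 => e0
  | e0, e12 => e0
  | e0, e13 => e0
  | e0, e14 => e0
  | e0, e15 => e0
  | e1, e0 => e0
  | e1, e1 => e1
  | e1, e2 => e2
  | e1, e3 => e3
  | e1, e4 => e4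
  | e1, e5 => e5
  | e1, e6 => e6
  | e1, e7 => e7
  | e1, e8 => e8
  | e1, e9 => e9
  | e1, e10 => e10
  | e1, e11 => e11
  | e1, e12 => e12
  | e1, e13 => e13
  | e1, e14 => e14
  | e1, e15 => e15
  | e2, e0 => e0
  | e2, e1 => e2
  | e2, e2 => e4
  | e2, e3 => e6
  | e2, e4 => e8
  | e2, e5 => e10
  | e2, e6 => e12
  | e2, e7 => e14
  | e2, e8 => e3
  | e2, e9 => e1
  | e2, e10 => e7
  | e2, e11 => e5
  | e2, e12 => e11
  | e2, e13 => e9
  | e2, e14 => e15
  | e2, e15 => e13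
  | e3, e0 => e0
  | e3, e1 => e3
  | e3, e2 => e6
  | e3, e3 => e5
  | e3, e4 => e12
  | e3, e5 => e15
  | e3, e6 => e10
  | e3, e7 => e9
  | e3, e8 => e11
  | e3, e9 => e8
  | e3, e10 => e13
  | e3, e11 => e14
  | e3, e12 => e7
  | e3, e13 => e4
  | e3, e14 => e1
  | e3, e15 => e2
  | e4, e0 => e0
  | e4, e1 => e4
  | e4, e2 => e8
  | e4, e3 => e12
  | e4, e4 => e3
  | e4, e5 => e7
  | e4, e6 => e11
  | e4, e7 => e15
  | e4, e8 => e6
  | e4, e9 => e2
  | e4, e10 => e14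
  | e4, e11 => e10
  | e4, e12 => e5
  | e4, e13 => e1
  | e4, e14 => e13
  | e4, e15 => e9
  | e5, e0 => e0
  | e5, e1 => e5
  | e5, e2 => e10
  | e5, e3 => e15
  | e5, e4 => e7
  | e5, e5 => e2
  | e5, e6 => e13
  | e5, e7 => e8
  | e5, e8 => e14
  | e5, e9 => e11
  | e5, e10 => e4
  | e5, e11 => e1
  | e5, e12 => e9
  | e5, e13 => e12
  | e5, e14 => e3
  | e5, e15 => e6
  | e6, e0 => e0
  | e6, e1 => e6
  | e6, e2 => e12
  | e6, e3 => e10
  | e6, e4 => e11
  | e6, e5 => e13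
  | e6, e6 => e7
  | e6, e7 => e1
  | e6, e8 => e5
  | e6, e9 => e3
  | e6, e10 => e9
  | e6, e11 => e15
  | e6, e12 => e14
  | e6, e13 => e8
  | e6, e14 => e2
  | e6, e15 => e4
  | e7, e0 => e0
  | e7, e1 => e7
  | e7, e2 => e14
  | e7, e3 => e9
  | e7, e4 => e15
  | e7, e5 => e8
  | e7, e6 => e1
  | e7, e7 => e6
  | e7, e8 => e13
  | e7, e9 => e10
  | e7, e10 => e3
  | e7, e11 => e4
  | e7, e12 => e2
  | e7, e13 => e5
  | e7, e14 => e12
  | e7, e15 => e11
  | e8, e0 => e0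
  | e8, e1 => e8
  | e8, e2 => e3
  | e8, e3 => e11
  | e8, e4 => e6
  | e8, e5 => e14
  | e8, e6 => e5
  | e8, e7 => e13
  | e8, e8 => e12
  | e8, e9 => e4
  | e8, e10 => e15
  | e8, e11 => e7
  | e8, e12 => e10
  | e8, e13 => e2
  | e8, e14 => e9
  | e8, e15 => e1
  | e9, e0 => e0
  | e9, e1 => e9
  | e9, e2 => e1
  | e9, e3 => e8
  | e9, e4 => e2
  | e9, e5 => e11
  | e9, e6 => e3
  | e9, e7 => e10
  | e9, e8 => e4
  | e9, e9 => e13
  | e9, e10 => e5
  | e9, e11 => e12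
  | e9, e12 => e6
  | e9, e13 => e15
  | e9, e14 => e7
  | e9, e15 => e14
  | e10, e0 => e0
  | e10, e1 => e10
  | e10, e2 => e7
  | e10, e3 => e13
  | e10, e4 => e14
  | e10, e5 => e4
  | e10, e6 => e9
  | e10, e7 => e3
  | e10, e8 => e15
  | e10, e9 => e5
  | e10, e10 => e8
  | e10, e11 => e2
  | e10, e12 => e1
  | e10, e13 => e11
  | e10, e14 => e6
  | e10, e15 => e12
  | e11, e0 => e0
  | e11, e1 => e11
  | e11, e2 => e5
  | e11, e3 => e14
  | e11, e4 => e10
  | e11, e5 => e1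
  | e11, e6 => e15
  | e11, e7 => e4
  | e11, e8 => e7
  | e11, e9 => e12
  | e11, e10 => e2
  | e11, e11 => e9
  | e11, e12 => e13
  | e11, e13 => e6
  | e11, e14 => e8
  | e11, e15 => e3
  | e12, e0 => e0
  | e12, e1 => e12
  | e12, e2 => e11
  | e12, e3 => e7
  | e12, e4 => e5
  | e12, e5 => e9
  | e12, e6 => e14
  | e12, e7 => e2
  | e12, e8 => e10
  | e12, e9 => e6
  | e12, e10 => e1
  | e12, e11 => e13
  | e12, e12 => e15
  | e12, e13 => e3
  | e12, e14 => e4
  | e12, e15 => e8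
  | e13, e0 => e0
  | e13, e1 => e13
  | e13, e2 => e9
  | e13, e3 => e4
  | e13, e4 => e1
  | e13, e5 => e12
  | e13, e6 => e8
  | e13, e7 => e5
  | e13, e8 => e2
  | e13, e9 => e15
  | e13, e10 => e11
  | e13, e11 => e6
  | e13, e12 => e3
  | e13, e13 => e14
  | e13, e14 => e10
  | e13, e15 => e7
  | e14, e0 => e0
  | e14, e1 => e14
  | e14, e2 => e15
  | e14, e3 => e1
  | e14, e4 => e13
  | e14, e5 => e3
  | e14, e6 => e2
  | e14, e7 => e12
  | e14, e8 => e9
  | e14, e9 => e7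
  | e14, e10 => e6
  | e14, e11 => e8
  | e14, e12 => e4
  | e14, e13 => e10
  | e14, e14 => e11
  | e14, e15 => e5
  | e15, e0 => e0
  | e15, e1 => e15
  | e15, e2 => e13
  | e15, e3 => e2
  | e15, e4 => e9
  | e15, e5 => e6
  | e15, e6 => e4
  | e15, e7 => e11
  | e15, e8 => e1
  | e15, e9 => e14
  | e15, e10 => e12
  | e15, e11 => e3
  | e15, e12 => e8
  | e15, e13 => e7
  | e15, e14 => e5
  | e15, e15 => e10

/-- The table of `inv`. -/
def inv : N16 → N16
  | e0 => e0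
  | e1 => e1
  | e2 => e9
  | e3 => e14
  | e4 => e13
  | e5 => e11
  | e6 => e7
  | e7 => e6
  | e8 => e15
  | e9 => e2
  | e10 => e12
  | e11 => e5
  | e12 => e10
  | e13 => e4
  | e14 => e3
  | e15 => e8

/-- The table of `x ↦ x ^ 4`. -/
def frob : N16 → N16
  | e0 => e0
  | e1 => e1
  | e2 => e3
  | e3 => e2
  | e4 => e5
  | e5 => e4
  | e6 => e6
  | e7 => e7
  | e8 => e15
  | e9 => e14
  | e10 => e12
  | e11 => e13
  | e12 => e10
  | e13 => e11
  | e14 => e9
  | e15 => e8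

instance : Fintype N16 :=
  ⟨⟨↑[e0, e1, e2, e3, e4, e5, e6, e7, e8, e9, e10, e11, e12, e13, e14, e15], by decide⟩, fun x => by cases x <;> decide⟩

instance : Add N16 := ⟨add⟩
instance : Mul N16 := ⟨mul⟩
instance : Neg N16 := ⟨id⟩
instance : Inv N16 := ⟨inv⟩
instance : Zero N16 := ⟨e0⟩
instance : One N16 := ⟨e1⟩

instance : Field N16 where
  add_assoc := by decide +kernel
  zero_add := by decide +kernel
  add_zero := by decide +kernel
  nsmul := nsmulRec
  zsmul := zsmulRec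
  neg_add_cancel := by decide +kernel
  add_comm := by decide +kernel
  left_distrib := by decide +kernel
  right_distrib := by decide +kernel
  zero_mul := by decide +kernel
  mul_zero := by decide +kernel
  mul_assoc := by decide +kernel
  one_mul := by decide +kernel
  mul_one := by decide +kernel
  mul_comm := by decide +kernel
  exists_pair_ne := ⟨e0, e1, by decide⟩
  mul_inv_cancel := by decide +kernel
  inv_zero := rfl
  nnqsmul := _
  nnqsmul_def := fun _ _ => rfl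
  qsmul := _
  qsmul_def := fun _ _ => rfl

lemma card_eq : Fintype.card N16 = 16 := rfl

lemma frob_eq : ∀ x : N16, x ^ 4 = frob x := by decide +kernel

lemma neg_eq : ∀ x : N16, -x = x := fun _ => rfl

instance : CharP N16 2 := by
  have h : ((2 : ℕ) : N16) = 0 := by decide
  exact (CharP.charP_iff_prime_eq_zero Nat.prime_two).2 h

end N16

end Cfsg.Agent.Lib.Helper57
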