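import Cfsg.Agent.Lib.Helper57.DataG22a
import Cfsg.Agent.Lib.Helper57.DataG22b
import Cfsg.Agent.Lib.Helper57.DataG22c
import Cfsg.Agent.Lib.Helper57.DataB22
import Cfsg.Agent.S0278

set_option autoImplicit false

/-!
# The derived subgroup of `G₂(2)` is isomorphic to `SU₃(3)`

From the checked tables of `DataG22`: the subgroup `N` of `G₂(2)` generated by the commutators
`a = [x₀, x₈]`, `b = [x₃, x₁₁]` has 6048 elements, it is the derived subgroup, and the tabulated
map is an isomorphism onto `SU₃(F')`, `|F'| = 9`.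
-/

namespace Cfsg.Agent.Lib.Helper57.G22

open Cfsg.Lie Cfsg.Agent.Lib.Helper57
open scoped commutatorElement

theorem D_valid : D.Valid mulG (oneB 14) := ⟨D_sorted, D_one, D_next, D_par⟩

lemma D_n : D.n = 6048 := rfl

lemma D_nxt : D.nxt = nxt := rfl

lemma D_gc0 : D.gc 0 = ca := rfl

lemma D_gc1 : D.gc 1 = cb := rfl


lemma T_lt (i : ℕ) : D.T i < 2 ^ (14 * 14) := by
  show natForce i (fun i => Nat.mod (Nat.shiftRight BIG (Nat.mul 196 i))
    100433627766186892221372630771322662657637687111424552206336) < _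
  rw [natForce_eq]
  exact lt_of_lt_of_le (Nat.mod_lt _ (by norm_num)) (by norm_num)

attribute [local irreducible] nxt U par pg dep vA vB BIG NXT PAR UT LA LB TCH

section Field

variable {F : Type*} [Field F]

/-- The matrix with a given code. -/
abbrev fG (F : Type*) [Field F] (c : ℕ) : Matrix chevG2.Idx chevG2.Idx F := fB eIdx F c

lemma fG_mul (h2 : (2 : F) = 0) (x y : ℕ) : fG F (mulG x y) = fG F x * fG F y :=
  fB_mulB2 eIdx F h2 MASK MASK_eq x y

lemma fG_one : fG F (oneB 14) = 1 := fB_oneB eIdx F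

lemma fG_sq (h2 : (2 : F) = 0) (r : Fin 12) : fG F (gC r.val) * fG F (gC r.val) = 1 := by
  rw [← fG_mul h2, gens_sq r, fG_one]

/-- The root elements as units. -/
def X (h2 : (2 : F) = 0) (r : Fin 12) : GL chevG2.Idx F :=
  ⟨fG F (gC r.val), fG F (gC r.val), fG_sq h2 r, fG_sq h2 r⟩

lemma X_val (h2 : (2 : F) = 0) (r : Fin 12) :
    ((X h2 r : GL chevG2.Idx F) : Matrix chevG2.Idx chevG2.Idx F) = fG F (gC r.val) := rfl

lemma X_inv (h2 : (2 : F) = 0) (r : Fin 12) : (X h2 r)⁻¹ = X h2 r := Units.ext rfl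

lemma X_mul_self (h2 : (2 : F) = 0) (r : Fin 12) : X h2 r * X h2 r = 1 :=
  Units.ext (fG_sq h2 r)

lemma comm_val (h2 : (2 : F) = 0) (r s : Fin 12) :
    ((⁅X h2 r, X h2 s⁆ : GL chevG2.Idx F) : Matrix chevG2.Idx chevG2.Idx F) =
      fG F (commC (gC r.val) (gC s.val)) := by
  rw [commutatorElement_def, X_inv, X_inv, Units.val_mul, Units.val_mul, Units.val_mul, X_val,
    X_val, commC, fG_mul h2, fG_mul h2, fG_mul h2]

lemma conj_val (h2 : (2 : F) = 0) (r : Fin 12) (u : GL chevG2.Idx F) (c : ℕ)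
    (hu : (u : Matrix chevG2.Idx chevG2.Idx F) = fG F c) :
    ((X h2 r * u * X h2 r : GL chevG2.Idx F) : Matrix chevG2.Idx chevG2.Idx F) =
      fG F (conjC (gC r.val) c) := by
  rw [Units.val_mul, Units.val_mul, X_val, hu, conjC, fG_mul h2, fG_mul h2]

/-- The first generator. -/
def ga (h2 : (2 : F) = 0) : GL chevG2.Idx F := ⁅X h2 0, X h2 8⁆

/-- The second generator. -/
def gb (h2 : (2 : F) = 0) : GL chevG2.Idx F := ⁅X h2 3, X h2 11⁆

lemma ga_val (h2 : (2 : F) = 0) :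
    ((ga h2 : GL chevG2.Idx F) : Matrix chevG2.Idx chevG2.Idx F) = fG F ca := by
  rw [ga, comm_val, ca_eq]
  rfl

lemma gb_val (h2 : (2 : F) = 0) :
    ((gb h2 : GL chevG2.Idx F) : Matrix chevG2.Idx chevG2.Idx F) = fG F cb := by
  rw [gb, comm_val, cb_eq]
  rfl

/-- The subgroup generated by the two commutators. -/
def N (h2 : (2 : F) = 0) : Subgroup (GL chevG2.Idx F) := Subgroup.closure {ga h2, gb h2}

lemma genSet_eq (h2 : (2 : F) = 0) :
    Units.val '' ({ga h2, gb h2} : Set (GL chevG2.Idx F)) = D.genSet (fG F) := by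
  ext y
  constructor
  · rintro ⟨u, hu, rfl⟩
    rcases hu with rfl | rfl
    · exact ⟨0, by decide, ga_val h2⟩
    · exact ⟨1, by decide, gb_val h2⟩
  · rintro ⟨k, hk, rfl⟩
    have hk' : k < 2 := hk
    interval_cases k
    · exact ⟨ga h2, Or.inl rfl, ga_val h2⟩
    · exact ⟨gb h2, Or.inr rfl, gb_val h2⟩

lemma fG_T_inj : ∀ i < D.n, ∀ j < D.n, fG F (D.T i) = fG F (D.T j) → i = j := by
  intro i hi j hj h
  exact D_valid.T_inj i j hi hj (fB_inj_of_lt eIdx F _ _ (T_lt i) (T_lt j) h)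

variable [Fintype F]

lemma mem_N_iff (h2 : (2 : F) = 0) (u : GL chevG2.Idx F) :
    u ∈ N h2 ↔ ∃ i, i < D.n ∧ (u : Matrix chevG2.Idx chevG2.Idx F) = fG F (D.T i) :=
  D_valid.mem_closure_units_iff (fG F) (fG_mul h2) fG_one _ (genSet_eq h2) u

lemma mem_N_of_memB (h2 : (2 : F) = 0) (u : GL chevG2.Idx F) (c : ℕ)
    (hu : (u : Matrix chevG2.Idx chevG2.Idx F) = fG F c) (hc : D.memB c = true) : u ∈ N h2 := by
  obtain ⟨i, hi, hTi⟩ := D.memB_spec c hc
  exact (mem_N_iff h2 u).2 ⟨i, hi, by rw [hu, hTi]⟩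

lemma card_N (h2 : (2 : F) = 0) : Nat.card (N h2) = 6048 :=
  D_valid.card_closure (fG F) (fG_mul h2) fG_one _ (genSet_eq h2) fG_T_inj

lemma conj_mem_N (h2 : (2 : F) = 0) (r : Fin 12) (x : GL chevG2.Idx F) (hx : x ∈ N h2) :
    X h2 r * x * X h2 r ∈ N h2 := by
  induction hx using Subgroup.closure_induction with
  | mem x hx =>
    rcases hx with rfl | rfl
    · exact mem_N_of_memB h2 _ _ (conj_val h2 r _ _ (ga_val h2)) (chk_conj r 0)
    · exact mem_N_of_memB h2 _ _ (conj_val h2 r _ _ (gb_val h2)) (chk_conj r 1)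
  | one =>
    rw [mul_one, X_mul_self]
    exact one_mem _
  | mul x y _ _ ihx ihy =>
    have : X h2 r * (x * y) * X h2 r = (X h2 r * x * X h2 r) * (X h2 r * y * X h2 r) := by
      calc X h2 r * (x * y) * X h2 r = X h2 r * x * 1 * y * X h2 r := by group
        _ = X h2 r * x * (X h2 r * X h2 r) * y * X h2 r := by rw [X_mul_self]
        _ = _ := by group
    rw [this]
    exact mul_mem ihx ihy
  | inv x _ ih =>
    have : X h2 r * x⁻¹ * X h2 r = (X h2 r * x * X h2 r)⁻¹ := by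
      rw [mul_inv_rev, mul_inv_rev, X_inv, mul_assoc]
    rw [this]
    exact inv_mem ih

lemma comm_mem_N (h2 : (2 : F) = 0) (r s : Fin 12) : ⁅X h2 r, X h2 s⁆ ∈ N h2 :=
  mem_N_of_memB h2 _ _ (comm_val h2 r s) (chk_comm r s)

/-- The commutator subgroup of the subgroup generated by the root elements. -/
theorem commutator_closure_X (h2 : (2 : F) = 0) :
    ⁅Subgroup.closure (Set.range (X h2)), Subgroup.closure (Set.range (X h2))⁆ = N h2 := by
  apply le_antisymm
  · apply commutator_closure_le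
    · rintro _ ⟨r, rfl⟩ x hx
      rw [X_inv]
      exact ⟨conj_mem_N h2 r x hx, conj_mem_N h2 r x hx⟩
    · rintro _ ⟨r, rfl⟩ _ ⟨s, rfl⟩
      exact comm_mem_N h2 r s
  · rw [N, Subgroup.closure_le]
    rintro x (rfl | rfl)
    · exact Subgroup.commutator_mem_commutator (Subgroup.subset_closure ⟨0, rfl⟩)
        (Subgroup.subset_closure ⟨8, rfl⟩)
    · exact Subgroup.commutator_mem_commutator (Subgroup.subset_closure ⟨3, rfl⟩)
        (Subgroup.subset_closure ⟨11, rfl⟩)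

/-! ### The homomorphism to matrices over `𝔽₉` -/

/-- The generators, in the subgroup. -/
def gens' (h2 : (2 : F) = 0) : Set (N h2) :=
  {x | (x : GL chevG2.Idx F) ∈ ({ga h2, gb h2} : Set (GL chevG2.Idx F))}

lemma closure_gens' (h2 : (2 : F) = 0) : Submonoid.closure (gens' h2) = ⊤ :=
  mclosure_subgroup_closure_eq_top _

lemma idx_spec' (h2 : (2 : F) = 0) (u : N h2) :
    D.idx (fG F) (u : GL chevG2.Idx F) < D.n ∧
      ((u : GL chevG2.Idx F) : Matrix chevG2.Idx chevG2.Idx F) =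
        fG F (D.T (D.idx (fG F) (u : GL chevG2.Idx F))) :=
  D.idx_spec (fG F) _ ((mem_N_iff h2 _).1 u.2)

omit [Fintype F] in
lemma idx_eq (u : GL chevG2.Idx F) (j : ℕ) (hj : j < D.n)
    (hu : (u : Matrix chevG2.Idx chevG2.Idx F) = fG F (D.T j)) : D.idx (fG F) u = j :=
  D.idx_unique (fG F) fG_T_inj u j hj hu

/-- The map to matrices over `𝔽₉`. -/
noncomputable def phi0 (h2 : (2 : F) = 0) (u : N h2) : Matrix (Fin 3) (Fin 3) K9 :=
  f9 (U (D.idx (fG F) (u : GL chevG2.Idx F)))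

lemma idx_one : D.idx (fG F) (1 : GL chevG2.Idx F) = 2992 := by
  apply idx_eq _ 2992 (by decide)
  rw [Units.val_one]
  have : D.T 2992 = oneB 14 := D_valid.T_i0
  rw [this, fG_one]

lemma idx_ga (h2 : (2 : F) = 0) : D.idx (fG F) (ga h2) = 4534 := by
  apply idx_eq _ 4534 (by decide)
  rw [ga_val, T_ia]

lemma idx_gb (h2 : (2 : F) = 0) : D.idx (fG F) (gb h2) = 3632 := by
  apply idx_eq _ 3632 (by decide)
  rw [gb_val, T_ib]

lemma phi0_one (h2 : (2 : F) = 0) : phi0 h2 1 = 1 := by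
  rw [phi0]
  show f9 (U (D.idx (fG F) (1 : GL chevG2.Idx F))) = 1
  rw [idx_one, U_one, f9_one]

lemma f9_mapRows_vA (c : ℕ) : f9 (mapRows 9 3 vA c) = f9 c * f9 cA :=
  fR_mapRows 9 3 dig9 (by norm_num) (f9 cA) vA vA_spec c

lemma f9_mapRows_vB (c : ℕ) : f9 (mapRows 9 3 vB c) = f9 c * f9 cB :=
  fR_mapRows 9 3 dig9 (by norm_num) (f9 cB) vB vB_spec c

lemma chk_hom_spec (i : ℕ) (hi : i < 6048) :
    U (nxt i 0) = mapRows 9 3 vA (U i) ∧ U (nxt i 1) = mapRows 9 3 vB (U i) := by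
  have h := chk_hom
  rw [List.all_eq_true] at h
  have := h i (List.mem_range.2 hi)
  rw [Bool.and_eq_true, beq_iff_eq, beq_iff_eq] at this
  exact this

lemma phi0_gen (h2 : (2 : F) = 0) (s : N h2) (hs : s ∈ gens' h2) :
    (((s : GL chevG2.Idx F) = ga h2) ∧ phi0 h2 s = f9 cA) ∨
      (((s : GL chevG2.Idx F) = gb h2) ∧ phi0 h2 s = f9 cB) := by
  rcases hs with hs | hs
  · left
    refine ⟨hs, ?_⟩
    rw [phi0, hs, idx_ga, U_a]
  · right
    have hs' : (s : GL chevG2.Idx F) = gb h2 := hs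
    refine ⟨hs', ?_⟩
    rw [phi0, hs', idx_gb, U_b]

lemma phi0_mul_gen (h2 : (2 : F) = 0) (g s : N h2) (hs : s ∈ gens' h2) :
    phi0 h2 (g * s) = phi0 h2 g * phi0 h2 s := by
  obtain ⟨hi, hg⟩ := idx_spec' h2 g
  have hi' : D.idx (fG F) (g : GL chevG2.Idx F) < 6048 := hi
  rcases phi0_gen h2 s hs with ⟨hs1, hs2⟩ | ⟨hs1, hs2⟩
  · obtain ⟨h1, h3⟩ := D_valid.nxt_spec _ 0 hi (by decide)
    rw [D_nxt] at h1 h3
    rw [D_gc0] at h3
    have hidx : D.idx (fG F) ((g * s : N h2) : GL chevG2.Idx F) =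
        nxt (D.idx (fG F) (g : GL chevG2.Idx F)) 0 := by
      apply idx_eq _ _ h1
      rw [Subgroup.coe_mul, Units.val_mul, hg, hs1, ga_val, ← h3, fG_mul h2]
    rw [hs2]
    show f9 (U (D.idx (fG F) ((g * s : N h2) : GL chevG2.Idx F))) =
      f9 (U (D.idx (fG F) (g : GL chevG2.Idx F))) * f9 cA
    rw [hidx, (chk_hom_spec _ hi').1, f9_mapRows_vA]
  · obtain ⟨h1, h3⟩ := D_valid.nxt_spec _ 1 hi (by decide)
    rw [D_nxt] at h1 h3
    rw [D_gc1] at h3
    have hidx : D.idx (fG F) ((g * s : N h2) : GL chevG2.Idx F) =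
        nxt (D.idx (fG F) (g : GL chevG2.Idx F)) 1 := by
      apply idx_eq _ _ h1
      rw [Subgroup.coe_mul, Units.val_mul, hg, hs1, gb_val, ← h3, fG_mul h2]
    rw [hs2]
    show f9 (U (D.idx (fG F) ((g * s : N h2) : GL chevG2.Idx F))) =
      f9 (U (D.idx (fG F) (g : GL chevG2.Idx F))) * f9 cB
    rw [hidx, (chk_hom_spec _ hi').2, f9_mapRows_vB]

/-- The homomorphism to matrices over `𝔽₉`. -/
noncomputable def phiM (h2 : (2 : F) = 0) : N h2 →* Matrix (Fin 3) (Fin 3) K9 :=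
  homOfClosure (phi0 h2) (gens' h2) (closure_gens' h2) (phi0_one h2) (phi0_mul_gen h2)

lemma phiM_apply (h2 : (2 : F) = 0) (u : N h2) : phiM h2 u = phi0 h2 u := rfl

lemma phiM_eq_one (h2 : (2 : F) = 0) (u : N h2) (hu : phiM h2 u = 1) : u = 1 := by
  rw [phiM_apply, phi0, ← f9_one] at hu
  obtain ⟨hi, hg⟩ := idx_spec' h2 u
  set i := D.idx (fG F) (u : GL chevG2.Idx F) with hidef
  have hi' : i < 6048 := hi
  have hlt := chk_U_lt
  rw [List.all_eq_true] at hlt
  have hlt' := hlt i (List.mem_range.2 hi')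
  rw [decide_eq_true_eq] at hlt'
  have hU : U i = 43053283 :=
    fR_injOn 9 3 dig9 (by norm_num) dig9_injOn _ _ hlt' (by norm_num) hu
  have hker := chk_ker
  rw [List.all_eq_true] at hker
  have hk := hker i (List.mem_range.2 hi')
  rw [Bool.or_eq_true, beq_iff_eq, bne_iff_ne] at hk
  rcases hk with hk | hk
  · apply Subtype.ext
    apply Units.ext
    rw [hg, hk]
    have : D.T 2992 = oneB 14 := D_valid.T_i0
    rw [this, fG_one]
    rfl
  · exact absurd hU hk

end Field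

/-- The derived subgroup of `G₂(2)` is isomorphic to `SU₃(3)`. -/
theorem exists_equiv_SU33 {F K : Type*} [Field F] [Fintype F] [Field K] [Fintype K]
    (h2 : (2 : F) = 0) (hK : Fintype.card K = 9) :
    Nonempty (N h2 ≃* Cfsg.SU 3 K 3) := by
  obtain ⟨Φ, hΦ⟩ := exists_hom_SU33 (gens' h2) (closure_gens' h2) (phiM h2)
    (by
      intro s hs
      rcases phi0_gen h2 s hs with ⟨_, hs2⟩ | ⟨_, hs2⟩
      · rw [phiM_apply, hs2]; exact det_A
      · rw [phiM_apply, hs2]; exact det_B)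
    (by
      intro s hs
      rcases phi0_gen h2 s hs with ⟨_, hs2⟩ | ⟨_, hs2⟩
      · rw [phiM_apply, hs2]; exact unitary_A
      · rw [phiM_apply, hs2]; exact unitary_B)
    hK
  have hinj : Function.Injective Φ := by
    rw [injective_iff_map_eq_one]
    intro u hu
    exact phiM_eq_one h2 u ((hΦ u).1 hu)
  have hcard : Nat.card (Cfsg.SU 3 K 3) = 6048 := by
    have h := Cfsg.Agent.S0278.result (F := K) (q := 3) (by rw [hK]; norm_num) 3 (by norm_num)
    have h3 : (3 : ℕ) ^ (3 * (3 - 1) / 2) * ∏ i ∈ Finset.range 3,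
        (if Even i then 3 ^ (i + 1) + 1 else 3 ^ (i + 1) - 1) = 24192 := by decide
    rw [h3] at h
    omega
  have : Finite (Cfsg.SU 3 K 3) := inferInstance
  have hbij : Function.Bijective Φ :=
    hinj.bijective_of_nat_card_le (by rw [hcard, card_N])
  exact ⟨MulEquiv.ofBijective Φ hbij⟩

end Cfsg.Agent.Lib.Helper57.G22
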