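import Mathlib.Tactic
import Mathlib.Data.Nat.Bitwise
import Cfsg.Agent.Lib.Helper57.ListGroup

set_option autoImplicit false

/-!
# Certificates for finite groups generated by explicit elements

Elements of a monoid `M` are coded by natural numbers through `f : ℕ → M`, compatible with a
product `mulC` on codes.  A list `L` of codes is certified to be (the set of codes of) a group by:
words in the generators evaluating to the elements of `L`, and closure of `L` under right
multiplication by the generators.  This needs only `|L| · |gens|` products.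
-/

namespace Cfsg.Agent.Lib.Helper57

/-- The product of a word of codes. -/
def wordC (mulC : ℕ → ℕ → ℕ) (oneC : ℕ) (w : List ℕ) : ℕ := w.foldl mulC oneC

/-- The bit mask of a list of natural numbers. -/
def maskOf (L : List ℕ) : ℕ := L.foldl (fun m c => m ||| 2 ^ c) 0

lemma testBit_foldl_mask (L : List ℕ) (m c : ℕ)
    (h : Nat.testBit (L.foldl (fun m c => m ||| 2 ^ c) m) c = true) :
    c ∈ L ∨ Nat.testBit m c = true := by
  induction L generalizing m with
  | nil => exact Or.inr h
  | cons a t ih =>
    rw [List.foldl_cons] at h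
    rcases ih _ h with h1 | h1
    · exact Or.inl (List.mem_cons_of_mem _ h1)
    · rw [Nat.testBit_or, Bool.or_eq_true] at h1
      rcases h1 with h1 | h1
      · exact Or.inr h1
      · rw [Nat.testBit_two_pow] at h1
        have : a = c := by simpa using h1
        exact Or.inl (this ▸ List.mem_cons_self)

lemma mem_of_testBit_maskOf (L : List ℕ) (c : ℕ) (h : Nat.testBit (maskOf L) c = true) :
    c ∈ L := by
  rcases testBit_foldl_mask L 0 c h with h1 | h1
  · exact h1
  · simp at h1

lemma testBit_foldl_mask_of (L : List ℕ) (m c : ℕ) (h : c ∈ L ∨ Nat.testBit m c = true) :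
    Nat.testBit (L.foldl (fun m c => m ||| 2 ^ c) m) c = true := by
  induction L generalizing m with
  | nil =>
    rcases h with h | h
    · exact absurd h List.not_mem_nil
    · exact h
  | cons a t ih =>
    rw [List.foldl_cons]
    apply ih
    rcases h with h | h
    · rcases List.mem_cons.1 h with h | h
      · right
        rw [Nat.testBit_or, Bool.or_eq_true, Nat.testBit_two_pow]
        right
        simp [h]
      · exact Or.inl h
    · right
      rw [Nat.testBit_or, Bool.or_eq_true]
      exact Or.inl h

lemma testBit_maskOf_of_mem (L : List ℕ) (c : ℕ) (h : c ∈ L) :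
    Nat.testBit (maskOf L) c = true :=
  testBit_foldl_mask_of L 0 c (Or.inl h)

/-- The decidable data certifying that a list of codes is a group generated by `gens`. -/
structure GenCert (mulC : ℕ → ℕ → ℕ) (oneC : ℕ) (gens : List ℕ) (W : List (List ℕ))
    (L : List ℕ) (mask : ℕ) : Prop where
  words : W.map (wordC mulC oneC) = L
  letters : ∀ w ∈ W, ∀ a ∈ w, a ∈ gens
  one_mem : oneC ∈ L
  mask_eq : mask = maskOf L
  step : ∀ x ∈ L, ∀ g ∈ gens, Nat.testBit mask (mulC x g) = true
  inv : ∀ g ∈ gens, ∃ g' ∈ gens, mulC g g' = oneC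

namespace GenCert

variable {mulC : ℕ → ℕ → ℕ} {oneC : ℕ} {gens : List ℕ} {W : List (List ℕ)} {L : List ℕ}
  {mask : ℕ} {M : Type*} [Monoid M] (f : ℕ → M)

lemma f_foldl (hmul : ∀ x y, f (mulC x y) = f x * f y) (w : List ℕ) (x : ℕ) :
    f (w.foldl mulC x) = f x * (w.map f).prod := by
  induction w generalizing x with
  | nil => simp
  | cons a t ih => rw [List.foldl_cons, ih, hmul, List.map_cons, List.prod_cons, mul_assoc]

lemma foldl_mem (h : GenCert mulC oneC gens W L mask) (w : List ℕ) (hw : ∀ a ∈ w, a ∈ gens)
    (x : ℕ) (hx : x ∈ L) : w.foldl mulC x ∈ L := by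
  induction w generalizing x with
  | nil => exact hx
  | cons a t ih =>
    rw [List.foldl_cons]
    apply ih (fun b hb => hw b (List.mem_cons_of_mem _ hb))
    apply mem_of_testBit_maskOf
    rw [← h.mask_eq]
    exact h.step x hx a (hw a List.mem_cons_self)

lemma exists_word (h : GenCert mulC oneC gens W L mask) (y : ℕ) (hy : y ∈ L) :
    ∃ w : List ℕ, (∀ a ∈ w, a ∈ gens) ∧ y = w.foldl mulC oneC := by
  rw [← h.words] at hy
  obtain ⟨w, hw, rfl⟩ := List.mem_map.1 hy
  exact ⟨w, h.letters w hw, rfl⟩

lemma mul_mem (hmul : ∀ x y, f (mulC x y) = f x * f y) (hone : f oneC = 1)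
    (h : GenCert mulC oneC gens W L mask) (x : ℕ) (hx : x ∈ L) (y : ℕ) (hy : y ∈ L) :
    f x * f y ∈ L.map f := by
  obtain ⟨w, hw, rfl⟩ := h.exists_word y hy
  rw [f_foldl f hmul, hone, one_mul, ← f_foldl f hmul]
  exact List.mem_map_of_mem (h.foldl_mem w hw x hx)

lemma exists_right_inv_word (hmul : ∀ x y, f (mulC x y) = f x * f y) (hone : f oneC = 1)
    (h : GenCert mulC oneC gens W L mask) (w : List ℕ) (hw : ∀ a ∈ w, a ∈ gens) :
    ∃ w' : List ℕ, (∀ a ∈ w', a ∈ gens) ∧ (w.map f).prod * (w'.map f).prod = 1 := by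
  induction w with
  | nil => exact ⟨[], by simp, by simp⟩
  | cons a t ih =>
    obtain ⟨t', ht', hprod⟩ := ih (fun b hb => hw b (List.mem_cons_of_mem _ hb))
    obtain ⟨a', ha', haa'⟩ := h.inv a (hw a List.mem_cons_self)
    refine ⟨t' ++ [a'], ?_, ?_⟩
    · intro b hb
      rcases List.mem_append.1 hb with hb | hb
      · exact ht' b hb
      · rw [List.mem_singleton] at hb
        rw [hb]
        exact ha'
    · have h1 : f a * f a' = 1 := by rw [← hmul, haa', hone]
      rw [List.map_cons, List.prod_cons, List.map_append, List.prod_append, List.map_singleton,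
        List.prod_singleton]
      calc f a * (t.map f).prod * ((t'.map f).prod * f a')
          = f a * ((t.map f).prod * (t'.map f).prod) * f a' := by simp only [mul_assoc]
        _ = 1 := by rw [hprod, mul_one, h1]

lemma exists_right_inv (hmul : ∀ x y, f (mulC x y) = f x * f y) (hone : f oneC = 1)
    (h : GenCert mulC oneC gens W L mask) (y : ℕ) (hy : y ∈ L) :
    ∃ z ∈ L, f y * f z = 1 := by
  obtain ⟨w, hw, rfl⟩ := h.exists_word y hy
  obtain ⟨w', hw', hprod⟩ := h.exists_right_inv_word f hmul hone w hw
  refine ⟨w'.foldl mulC oneC, h.foldl_mem w' hw' oneC h.one_mem, ?_⟩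
  rw [f_foldl f hmul, f_foldl f hmul, hone, one_mul, one_mul, hprod]

/-- A certified list of codes gives a list group. -/
theorem exists_isListGroup (hmul : ∀ x y, f (mulC x y) = f x * f y) (hone : f oneC = 1)
    (h : GenCert mulC oneC gens W L mask) : ∃ inv : M → M, IsListGroup (L.map f) inv := by
  classical
  have hinv : ∀ x ∈ L.map f, ∃ y ∈ L.map f, x * y = 1 ∧ y * x = 1 := by
    intro x hx
    obtain ⟨a, ha, rfl⟩ := List.mem_map.1 hx
    obtain ⟨b, hb, hab⟩ := h.exists_right_inv f hmul hone a ha
    obtain ⟨c, hc, hbc⟩ := h.exists_right_inv f hmul hone b hb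
    have hac : f a = f c := by
      calc f a = f a * (f b * f c) := by rw [hbc, mul_one]
        _ = (f a * f b) * f c := by rw [mul_assoc]
        _ = f c := by rw [hab, one_mul]
    exact ⟨f b, List.mem_map_of_mem hb, hab, by rw [hac, hbc]⟩
  refine ⟨fun x => if hx : x ∈ L.map f then Classical.choose (hinv x hx) else 1, ?_, ?_, ?_, ?_, ?_⟩
  · rw [← hone]
    exact List.mem_map_of_mem h.one_mem
  · intro x hx y hy
    obtain ⟨a, ha, rfl⟩ := List.mem_map.1 hx
    obtain ⟨b, hb, rfl⟩ := List.mem_map.1 hy
    exact h.mul_mem f hmul hone a ha b hb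
  · intro x hx
    simp only [dif_pos hx]
    exact (Classical.choose_spec (hinv x hx)).1
  · intro x hx
    simp only [dif_pos hx]
    exact (Classical.choose_spec (hinv x hx)).2.1
  · intro x hx
    simp only [dif_pos hx]
    exact (Classical.choose_spec (hinv x hx)).2.2

end GenCert

end Cfsg.Agent.Lib.Helper57
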