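import Mathlib.GroupTheory.SemidirectProduct
import Mathlib.GroupTheory.OrderOfElement
import Mathlib.GroupTheory.Solvable
import Mathlib.Tactic

set_option autoImplicit false

namespace Cfsg.Agent.Lib.Helper57

open SemidirectProduct

variable {N H : Type*} [CommGroup N] [Group H] (φ : H →* MulAut N)

/-- In a semidirect product `N ⋊ H` with `N` abelian on which every nontrivial element of `H`
acts fixed-point-freely, an element with nontrivial `H`-component has the order of that
component. -/
theorem orderOf_sdp_of_fpf (hfpf : ∀ h : H, h ≠ 1 → ∀ n : N, φ h n = n → n = 1)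
    (x : N ⋊[φ] H) (hx : x.right ≠ 1) : orderOf x = orderOf x.right := by
  set m := orderOf x.right with hm
  have hr : (x ^ m).right = 1 := by
    have : (x ^ m).right = x.right ^ m := map_pow (rightHom : N ⋊[φ] H →* H) x m
    rw [this, hm, pow_orderOf_eq_one]
  have hcomm : x * x ^ m = x ^ m * x := (pow_mul_comm' x m).symm
  have hl := congrArg SemidirectProduct.left hcomm
  rw [mul_left, mul_left, hr, map_one, MulAut.one_apply, mul_comm (x ^ m).left x.left] at hl
  have hfix : φ x.right (x ^ m).left = (x ^ m).left := mul_left_cancel hl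
  have hl1 : (x ^ m).left = 1 := hfpf x.right hx _ hfix
  have hpow : x ^ m = 1 := SemidirectProduct.ext (by simpa using hl1) (by simpa using hr)
  apply Nat.dvd_antisymm
  · exact orderOf_dvd_of_pow_eq_one hpow
  · exact orderOf_map_dvd (rightHom : N ⋊[φ] H →* H) x

/-- The spectrum of a "Frobenius-like" semidirect product is the union of the spectra. -/
theorem range_orderOf_sdp_of_fpf (hfpf : ∀ h : H, h ≠ 1 → ∀ n : N, φ h n = n → n = 1) :
    Set.range (orderOf : N ⋊[φ] H → ℕ) =
      Set.range (orderOf : N → ℕ) ∪ Set.range (orderOf : H → ℕ) := by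
  apply Set.eq_of_subset_of_subset
  · rintro k ⟨x, rfl⟩
    by_cases hx : x.right = 1
    · left
      refine ⟨x.left, ?_⟩
      have hxe : x = inl x.left := SemidirectProduct.ext (by simp) (by simpa using hx)
      conv_rhs => rw [hxe]
      exact (orderOf_injective (inl : N →* N ⋊[φ] H) inl_injective x.left).symm
    · right
      exact ⟨x.right, (orderOf_sdp_of_fpf φ hfpf x hx).symm⟩
  · rintro k (⟨n, rfl⟩ | ⟨h, rfl⟩)
    · exact ⟨inl n, orderOf_injective (inl : N →* N ⋊[φ] H) inl_injective n⟩
    · exact ⟨inr h, orderOf_injective (inr : H →* N ⋊[φ] H) inr_injective h⟩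

/-- A semidirect product of an abelian group by a solvable group is solvable. -/
theorem isSolvable_sdp [Group.IsSolvable H] : Group.IsSolvable (N ⋊[φ] H) :=
  Group.isSolvable_of_ker_le_range (inl : N →* N ⋊[φ] H) (rightHom : N ⋊[φ] H →* H)
    (by rw [range_inl_eq_ker_rightHom])

end Cfsg.Agent.Lib.Helper57
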