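import Mathlib
import Cfsg.Agent.Lib.Helper57.CardSL

set_option autoImplicit false

namespace Cfsg.Agent.Lib.Helper57

open Matrix

/-- Cayley–Hamilton for `3 × 3` matrices, explicitly. -/
lemma cayley_hamilton_three {R : Type*} [CommRing R] (M : Matrix (Fin 3) (Fin 3) R) :
    M * M * M = (M 0 0 + M 1 1 + M 2 2) • (M * M)
      - (M 0 0 * M 1 1 - M 0 1 * M 1 0 + (M 0 0 * M 2 2 - M 0 2 * M 2 0)
          + (M 1 1 * M 2 2 - M 1 2 * M 2 1)) • M + M.det • (1 : Matrix (Fin 3) (Fin 3) R) := by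
  ext i j
  fin_cases i <;> fin_cases j <;>
    simp [Matrix.mul_apply, Fin.sum_univ_three, Matrix.det_fin_three] <;> ring

/-- One step of the recursion computing `x^k` modulo `x^3 - t x^2 + s x - 1`. -/
def chStep {R : Type*} [CommRing R] (t s : R) (v : R × R × R) : R × R × R :=
  (v.1 * t + v.2.1, v.2.2 - v.1 * s, v.1)

/-- `x^k` modulo `x^3 - t x^2 + s x - 1`, as coefficients of `x^2, x, 1`. -/
def chIter {R : Type*} [CommRing R] (t s : R) : ℕ → R × R × R
  | 0 => (0, 0, 1)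
  | k + 1 => chStep t s (chIter t s k)

lemma pow_eq_chIter {R : Type*} [CommRing R] (M : Matrix (Fin 3) (Fin 3) R) (hM : M.det = 1)
    (k : ℕ) :
    M ^ k = (chIter (M 0 0 + M 1 1 + M 2 2)
        (M 0 0 * M 1 1 - M 0 1 * M 1 0 + (M 0 0 * M 2 2 - M 0 2 * M 2 0)
          + (M 1 1 * M 2 2 - M 1 2 * M 2 1)) k).1 • (M * M)
      + (chIter (M 0 0 + M 1 1 + M 2 2)
        (M 0 0 * M 1 1 - M 0 1 * M 1 0 + (M 0 0 * M 2 2 - M 0 2 * M 2 0)
          + (M 1 1 * M 2 2 - M 1 2 * M 2 1)) k).2.1 • M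
      + (chIter (M 0 0 + M 1 1 + M 2 2)
        (M 0 0 * M 1 1 - M 0 1 * M 1 0 + (M 0 0 * M 2 2 - M 0 2 * M 2 0)
          + (M 1 1 * M 2 2 - M 1 2 * M 2 1)) k).2.2 • (1 : Matrix (Fin 3) (Fin 3) R) := by
  induction k with
  | zero => simp [chIter]
  | succ k ih =>
    have hch := cayley_hamilton_three M
    rw [hM] at hch
    rw [pow_succ, ih]
    simp only [chIter, chStep]
    simp only [add_mul, smul_mul_assoc, one_mul, hch]
    module

lemma chIter_zmod3 : ∀ t s : ZMod 3,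
    chIter t s 13 = (0, 0, 1) ∨ chIter t s 8 = (0, 0, 1) ∨ chIter t s 6 = (0, 0, 1) := by
  decide


/-- Ring isomorphisms induce isomorphisms of special linear groups. -/
def slMapEquiv {n : Type*} [Fintype n] [DecidableEq n] {R S : Type*} [CommRing R] [CommRing S]
    (e : R ≃+* S) : SpecialLinearGroup n R ≃* SpecialLinearGroup n S where
  toFun := SpecialLinearGroup.map (e : R →+* S)
  invFun := SpecialLinearGroup.map (e.symm : S →+* R)
  left_inv := fun x => by
    ext i j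
    simp
  right_inv := fun x => by
    ext i j
    simp
  map_mul' := fun x y => map_mul _ x y

/-- If the centre is trivial, `PSL` is isomorphic to `SL`. -/
noncomputable def pslEquivSL {n : Type*} [Fintype n] [DecidableEq n] {R : Type*} [CommRing R]
    (h : Subgroup.center (SpecialLinearGroup n R) = ⊥) :
    ProjectiveSpecialLinearGroup n R ≃* SpecialLinearGroup n R :=
  (QuotientGroup.quotientMulEquivOfEq h).trans QuotientGroup.quotientBot

lemma range_orderOf_congr {G H : Type*} [Monoid G] [Monoid H] (e : G ≃* H) :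
    Set.range (orderOf : G → ℕ) = Set.range (orderOf : H → ℕ) := by
  apply Set.eq_of_subset_of_subset
  · rintro k ⟨x, rfl⟩
    exact ⟨e x, e.orderOf_eq x⟩
  · rintro k ⟨x, rfl⟩
    exact ⟨e.symm x, e.symm.orderOf_eq x⟩

lemma sl3_pow_cases (x : SpecialLinearGroup (Fin 3) (ZMod 3)) :
    x ^ 13 = 1 ∨ x ^ 8 = 1 ∨ x ^ 6 = 1 := by
  have key : ∀ k, chIter ((x : Matrix (Fin 3) (Fin 3) (ZMod 3)) 0 0 + x.1 1 1 + x.1 2 2)
        (x.1 0 0 * x.1 1 1 - x.1 0 1 * x.1 1 0 + (x.1 0 0 * x.1 2 2 - x.1 0 2 * x.1 2 0)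
          + (x.1 1 1 * x.1 2 2 - x.1 1 2 * x.1 2 1)) k = (0, 0, 1) → x ^ k = 1 := by
    intro k hk
    have h1 : ((x ^ k : SpecialLinearGroup (Fin 3) (ZMod 3)) :
        Matrix (Fin 3) (Fin 3) (ZMod 3)) = 1 := by
      have h2 := pow_eq_chIter x.1 x.2 k
      rw [hk] at h2
      rw [Matrix.SpecialLinearGroup.coe_pow x k]
      rw [h2]
      simp
    exact Subtype.ext h1
  rcases chIter_zmod3 _ _ with h | h | h
  · exact Or.inl (key _ h)
  · exact Or.inr (Or.inl (key _ h))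
  · exact Or.inr (Or.inr (key _ h))

def m13 : SpecialLinearGroup (Fin 3) (ZMod 3) := ⟨!![0,0,1;1,0,1;0,1,0], by decide⟩
def m8 : SpecialLinearGroup (Fin 3) (ZMod 3) := ⟨!![0,1,0;1,2,0;0,0,2], by decide⟩
def m6 : SpecialLinearGroup (Fin 3) (ZMod 3) := ⟨!![2,2,0;0,2,0;0,0,1], by decide⟩

lemma orderOf_m13 : orderOf m13 = 13 := by
  have : Fact (Nat.Prime 13) := ⟨by norm_num⟩
  apply orderOf_eq_prime
  · decide
  · decide

lemma orderOf_m8 : orderOf m8 = 8 := by
  have : Fact (Nat.Prime 2) := ⟨by norm_num⟩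
  apply orderOf_eq_prime_pow (p := 2) (n := 2)
  · decide
  · decide

lemma orderOf_m6 : orderOf m6 = 6 := by
  apply orderOf_eq_of_pow_and_pow_div_prime (by norm_num)
  · decide
  · intro p hp hd
    have hle : p ≤ 6 := Nat.le_of_dvd (by norm_num) hd
    interval_cases p
    · exact absurd hp (by norm_num)
    · exact absurd hp (by norm_num)
    · decide
    · decide
    · exact absurd hd (by norm_num)
    · exact absurd hd (by norm_num)
    · exact absurd hp (by norm_num)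


lemma dvd_13 : ∀ n : ℕ, n ∣ 13 → n = 1 ∨ n = 13 := by
  intro n hn
  have := Nat.le_of_dvd (by norm_num) hn
  interval_cases n <;> simp_all

lemma dvd_8 : ∀ n : ℕ, n ∣ 8 → n = 1 ∨ n = 2 ∨ n = 4 ∨ n = 8 := by
  intro n hn
  have := Nat.le_of_dvd (by norm_num) hn
  interval_cases n <;> simp_all

lemma dvd_6 : ∀ n : ℕ, n ∣ 6 → n = 1 ∨ n = 2 ∨ n = 3 ∨ n = 6 := by
  intro n hn
  have := Nat.le_of_dvd (by norm_num) hn
  interval_cases n <;> simp_all

theorem range_orderOf_SL33 :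
    Set.range (orderOf : SpecialLinearGroup (Fin 3) (ZMod 3) → ℕ) = {1, 2, 3, 4, 6, 8, 13} := by
  apply Set.eq_of_subset_of_subset
  · rintro k ⟨x, rfl⟩
    simp only [Set.mem_insert_iff, Set.mem_singleton_iff]
    rcases sl3_pow_cases x with h | h | h
    · rcases dvd_13 _ (orderOf_dvd_of_pow_eq_one h) with h | h <;> simp [h]
    · rcases dvd_8 _ (orderOf_dvd_of_pow_eq_one h) with h | h | h | h <;> simp [h]
    · rcases dvd_6 _ (orderOf_dvd_of_pow_eq_one h) with h | h | h | h <;> simp [h]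
  · intro k hk
    simp only [Set.mem_insert_iff, Set.mem_singleton_iff] at hk
    rcases hk with rfl | rfl | rfl | rfl | rfl | rfl | rfl
    · exact ⟨1, orderOf_one⟩
    · exact ⟨m8 ^ 4, by rw [orderOf_pow_of_dvd (by norm_num) (by rw [orderOf_m8]; norm_num), orderOf_m8]⟩
    · exact ⟨m6 ^ 2, by rw [orderOf_pow_of_dvd (by norm_num) (by rw [orderOf_m6]; norm_num), orderOf_m6]⟩
    · exact ⟨m8 ^ 2, by rw [orderOf_pow_of_dvd (by norm_num) (by rw [orderOf_m8]; norm_num), orderOf_m8]⟩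
    · exact ⟨m6, orderOf_m6⟩
    · exact ⟨m8, orderOf_m8⟩
    · exact ⟨m13, orderOf_m13⟩

theorem range_orderOf_PSL33 {F : Type*} [Field F] [Fintype F] (hF : Fintype.card F = 3) :
    Set.range (orderOf : ProjectiveSpecialLinearGroup (Fin 3) F → ℕ) = {1, 2, 3, 4, 6, 8, 13} := by
  classical
  have hc : Subgroup.center (SpecialLinearGroup (Fin 3) F) = ⊥ := by
    rw [← Subgroup.card_eq_one, card_center_SL 3 (by norm_num), hF]
    norm_num
  have : Fact (Nat.Prime 3) := ⟨by norm_num⟩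
  rw [range_orderOf_congr (pslEquivSL hc),
    range_orderOf_congr (slMapEquiv (ZMod.ringEquivOfPrime F (by norm_num) hF).symm),
    range_orderOf_SL33]

end Cfsg.Agent.Lib.Helper57
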