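import Cfsg.Agent.Lib.Helper57.DataL27
import Cfsg.Agent.Lib.Helper57.SpecPSU33

set_option autoImplicit false

/-!
# An embedding of `PSL₂(7)` in `SU₃(3)`

From the checked table of `DataL27` we build a homomorphism `SL₂(𝔽₇) → SU₃(F)`, `|F| = 9`, whose
kernel is the centre.
-/

namespace Cfsg.Agent.Lib.Helper57.L27

open Cfsg.Agent.Lib.Helper57 Matrix

local notation "G7" => Matrix.SpecialLinearGroup (Fin 2) (ZMod 7)

/-- The first generator of `SL₂(𝔽₇)`. -/
def ga : G7 := ⟨!![0, 6; 1, 0], by decide⟩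

/-- The second generator of `SL₂(𝔽₇)`. -/
def gb : G7 := ⟨!![0, 6; 1, 1], by decide⟩

/-- Minus the identity of `SL₂(𝔽₇)`. -/
def gm : G7 := ⟨!![6, 0; 0, 6], by decide⟩

lemma slCode_ga : slCode 7 ga = 91 := by decide
lemma slCode_gb : slCode 7 gb = 434 := by decide
lemma slCode_gm : slCode 7 gm = 2064 := by decide
lemma slCode_one : slCode 7 (1 : G7) = 344 := by decide
/-- The inverse of the first generator. -/
def gai : G7 := ⟨!![0, 1; 6, 0], by decide⟩

/-- The inverse of the second generator. -/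
def gbi : G7 := ⟨!![1, 1; 6, 0], by decide⟩

lemma slCode_ga_inv : slCode 7 ga⁻¹ = 301 := by
  have h : ga⁻¹ = gai := inv_eq_of_mul_eq_one_right (by decide)
  rw [h]
  decide

lemma slCode_gb_inv : slCode 7 gb⁻¹ = 302 := by
  have h : gb⁻¹ = gbi := inv_eq_of_mul_eq_one_right (by decide)
  rw [h]
  decide

/-- The generating set. -/
def gens : Set G7 := {ga, gb}

lemma closure_gens : Submonoid.closure gens = ⊤ := by
  apply submonoid_closure_eq_top_of_dep gens (fun g => dep (slCode 7 g))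
  intro g
  have h := forall_sl_of_all 7 depB check_dep g
  simp only [depB, Bool.or_eq_true, beq_iff_eq, decide_eq_true_eq] at h
  rcases h with (h | h) | h
  · left
    exact slCode_injective 7 (h.trans slCode_one.symm)
  · right
    refine ⟨ga, Or.inl rfl, ?_⟩
    show dep (slCode 7 (g * ga⁻¹)) < dep (slCode 7 g)
    rw [slCode_mul, slCode_ga_inv]
    exact h
  · right
    refine ⟨gb, Or.inr rfl, ?_⟩
    show dep (slCode 7 (g * gb⁻¹)) < dep (slCode 7 g)
    rw [slCode_mul, slCode_gb_inv]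
    exact h

/-- The map to matrices over `𝔽₉`. -/
def phi0 (g : G7) : Matrix (Fin 3) (Fin 3) K9 := fC3 3 2 (tab (slCode 7 g))

lemma phi0_one : phi0 1 = 1 := by
  rw [phi0, slCode_one, tab_one, ← oneC3_eq, fC3_oneC3 3 2 (by norm_num)]

lemma phi0_ga : phi0 ga = fC3 3 2 544644 := by rw [phi0, slCode_ga, tab_a]

lemma phi0_gb : phi0 gb = fC3 3 2 50090058 := by rw [phi0, slCode_gb, tab_b]

lemma phi0_mul_gen (g s : G7) (hs : s ∈ gens) : phi0 (g * s) = phi0 g * phi0 s := by
  have h := forall_sl_of_all 7 homB check_hom g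
  simp only [homB, Bool.and_eq_true, beq_iff_eq] at h
  rcases hs with rfl | rfl
  · rw [phi0_ga, phi0, slCode_mul, slCode_ga, h.1, fC3_mulC3 3 2 (by norm_num)]
    rfl
  · rw [phi0_gb, phi0, slCode_mul, slCode_gb, h.2, fC3_mulC3 3 2 (by norm_num)]
    rfl

/-- The homomorphism to matrices over `𝔽₉`. -/
def phiM : G7 →* Matrix (Fin 3) (Fin 3) K9 :=
  homOfClosure phi0 gens closure_gens phi0_one phi0_mul_gen

lemma phiM_apply (g : G7) : phiM g = phi0 g := rfl

lemma phiM_eq_one_iff (g : G7) : phiM g = 1 ↔ g = 1 ∨ g = gm := by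
  rw [phiM_apply, phi0, fC3_eq_one_iff 3 2 (by norm_num)]
  constructor
  · intro h
    have h2 := forall_sl_of_all 7 kerB check_ker g
    simp only [kerB, Bool.or_eq_true, Bool.not_eq_true', decide_eq_false_iff_not, beq_iff_eq] at h2
    rcases h2 with (h2 | h2) | h2
    · exact absurd h h2
    · left
      exact slCode_injective 7 (h2.trans slCode_one.symm)
    · right
      exact slCode_injective 7 (h2.trans slCode_gm.symm)
  · rintro (rfl | rfl)
    · rw [slCode_one, tab_one]
      decide +kernel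
    · rw [slCode_gm, tab_negOne]
      decide +kernel

lemma det_A : (fC3 3 2 544644).det = 1 := by rw [Matrix.det_fin_three]; decide +kernel
lemma det_B : (fC3 3 2 50090058).det = 1 := by rw [Matrix.det_fin_three]; decide +kernel
lemma unitary_A : (fC3 3 2 544644)ᵀ * (fC3 3 2 544644).map (· ^ 3) = 1 := by decide +kernel
lemma unitary_B : (fC3 3 2 50090058)ᵀ * (fC3 3 2 50090058).map (· ^ 3) = 1 := by decide +kernel

lemma mem_center_G7_iff (g : G7) : g ∈ Subgroup.center G7 ↔ g = 1 ∨ g = gm := by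
  rw [Matrix.SpecialLinearGroup.mem_center_iff]
  constructor
  · rintro ⟨r, hr, hg⟩
    have hall : ∀ r : ZMod 7, r ^ 2 = 1 → r = 1 ∨ r = 6 := by decide
    have hr' : r = 1 ∨ r = 6 := hall r (by simpa using hr)
    rcases hr' with rfl | rfl
    · left
      apply Subtype.ext
      rw [← hg]
      simp
    · right
      apply Subtype.ext
      rw [← hg]
      decide
  · rintro (rfl | rfl)
    · exact ⟨1, by simp, by simp⟩
    · exact ⟨6, by decide, by decide⟩

section Field

variable {F : Type*} [Field F]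

/-- The homomorphism to matrices over a field with nine elements. -/
noncomputable def phiF (e : K9 ≃+* F) : G7 →* Matrix (Fin 3) (Fin 3) F :=
  ((RingEquiv.mapMatrix e : Matrix (Fin 3) (Fin 3) K9 ≃+* Matrix (Fin 3) (Fin 3) F) :
    Matrix (Fin 3) (Fin 3) K9 →* Matrix (Fin 3) (Fin 3) F).comp phiM

lemma phiF_apply (e : K9 ≃+* F) (g : G7) : phiF e g = (phiM g).map e := rfl

lemma phiF_eq_one_iff (e : K9 ≃+* F) (g : G7) : phiF e g = 1 ↔ g = 1 ∨ g = gm := by
  rw [← phiM_eq_one_iff]
  show (RingEquiv.mapMatrix e) (phiM g) = 1 ↔ _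
  rw [map_eq_one_iff _ (RingEquiv.injective _)]

lemma det_map_of_det {N : Matrix (Fin 3) (Fin 3) K9} (e : K9 ≃+* F) (hdet : N.det = 1) :
    (N.map e).det = 1 := by
  have := RingHom.map_det (e : K9 →+* F) N
  rw [hdet, map_one] at this
  rw [this]
  rfl

lemma unitary_map_of_unitary {N : Matrix (Fin 3) (Fin 3) K9} (e : K9 ≃+* F)
    (hN : Nᵀ * N.map (· ^ 3) = 1) : (N.map e)ᵀ * (N.map e).map (· ^ 3) = 1 := by
  have h1 : (N.map e).map (· ^ 3) = (N.map (· ^ 3)).map e := by
    ext i j
    simp [map_pow]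
  rw [h1, ← Matrix.transpose_map, ← Matrix.map_mul, hN,
    Matrix.map_one _ (map_zero e) (map_one e)]

lemma det_phiF (e : K9 ≃+* F) (g : G7) : (phiF e g).det = 1 := by
  refine forall_of_closure_eq_top gens closure_gens (fun g => (phiF e g).det = 1) ?_ ?_ ?_ g
  · simp
  · rintro s (rfl | rfl)
    · rw [phiF_apply, phiM_apply, phi0_ga]
      exact det_map_of_det e det_A
    · rw [phiF_apply, phiM_apply, phi0_gb]
      exact det_map_of_det e det_B
  · intro x y hx hy
    rw [map_mul, Matrix.det_mul, hx, hy, one_mul]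

/-- The homomorphism to `SL₃`. -/
noncomputable def psiF (e : K9 ≃+* F) : G7 →* Matrix.SpecialLinearGroup (Fin 3) F where
  toFun g := ⟨phiF e g, det_phiF e g⟩
  map_one' := Subtype.ext (map_one (phiF e))
  map_mul' x y := Subtype.ext (map_mul (phiF e) x y)

lemma psiF_mem_SU [CharP F 3] (e : K9 ≃+* F) (g : G7) : psiF e g ∈ Cfsg.SU 3 F 3 := by
  refine forall_of_closure_eq_top gens closure_gens (fun g => psiF e g ∈ Cfsg.SU 3 F 3) ?_ ?_ ?_ g
  · simp only [map_one]
    exact one_mem _
  · rintro s (rfl | rfl)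
    · apply mem_SU_of_transpose_mul_map 3
      show (phiF e ga)ᵀ * (phiF e ga).map (· ^ 3) = 1
      rw [phiF_apply, phiM_apply, phi0_ga]
      exact unitary_map_of_unitary e unitary_A
    · apply mem_SU_of_transpose_mul_map 3
      show (phiF e gb)ᵀ * (phiF e gb).map (· ^ 3) = 1
      rw [phiF_apply, phiM_apply, phi0_gb]
      exact unitary_map_of_unitary e unitary_B
  · intro x y hx hy
    rw [map_mul]
    exact mul_mem hx hy

/-- The homomorphism `SL₂(𝔽₇) → SU₃(F)`. -/
noncomputable def PhiF [CharP F 3] (e : K9 ≃+* F) : G7 →* Cfsg.SU 3 F 3 :=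
  (psiF e).codRestrict (Cfsg.SU 3 F 3) (psiF_mem_SU e)

lemma PhiF_ker [CharP F 3] (e : K9 ≃+* F) : (PhiF e).ker = Subgroup.center G7 := by
  ext g
  rw [MonoidHom.mem_ker, mem_center_G7_iff, ← phiF_eq_one_iff e]
  constructor
  · intro h
    have := congrArg (fun x : Cfsg.SU 3 F 3 =>
      ((x : Matrix.SpecialLinearGroup (Fin 3) F) : Matrix (Fin 3) (Fin 3) F)) h
    exact this
  · intro h
    apply Subtype.ext
    apply Subtype.ext
    exact h

end Field

/-- `SL₂(𝔽₇)` maps to `SU₃(F)`, `|F| = 9`, with kernel the centre. -/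
theorem exists_hom_SL27_SU33 {F : Type*} [Field F] [Fintype F] (hF : Fintype.card F = 9) :
    ∃ Φ : G7 →* Cfsg.SU 3 F 3, Φ.ker = Subgroup.center G7 := by
  have := charP_three_of_card_nine hF
  have e : K9 ≃+* F := FiniteField.ringEquivOfCardEq (card_K9.trans hF.symm)
  exact ⟨PhiF e, PhiF_ker e⟩

end Cfsg.Agent.Lib.Helper57.L27
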