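import Mathlib.GroupTheory.Subgroup.Centralizer
import Mathlib.GroupTheory.OrderOfElement
import Mathlib.Algebra.Group.Conj
import Mathlib.Tactic

set_option autoImplicit false

namespace Cfsg.Agent.Lib.Helper57

variable {G : Type*} [Group G]

lemma orderOf_eq_two_iff' (t : G) : orderOf t = 2 ↔ t ^ 2 = 1 ∧ t ≠ 1 := by
  haveI : Fact (Nat.Prime 2) := ⟨Nat.prime_two⟩
  exact orderOf_eq_prime_iff

lemma inv_eq_self_of_orderOf_two {t : G} (h : orderOf t = 2) : t⁻¹ = t := by
  have h2 := ((orderOf_eq_two_iff' t).1 h).1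
  rw [pow_two] at h2
  exact inv_eq_of_mul_eq_one_left h2

lemma mul_self_of_orderOf_two {t : G} (h : orderOf t = 2) : t * t = 1 := by
  have h2 := ((orderOf_eq_two_iff' t).1 h).1
  rwa [pow_two] at h2

/-- Ordered pairs of involutions with product `x` correspond to involutions `t ≠ x`
inverting `x`. -/
def pairEquiv (x : G) :
    {p : G × G // orderOf p.1 = 2 ∧ orderOf p.2 = 2 ∧ p.1 * p.2 = x} ≃
      {t : G // orderOf t = 2 ∧ t * x * t⁻¹ = x⁻¹ ∧ t ≠ x} where
  toFun p := ⟨p.1.1, p.2.1, by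
    obtain ⟨⟨u, v⟩, hu, hv, rfl⟩ := p
    simp only
    rw [mul_inv_rev, inv_eq_self_of_orderOf_two hu, inv_eq_self_of_orderOf_two hv,
      ← mul_assoc, mul_self_of_orderOf_two hu, one_mul], by
    obtain ⟨⟨u, v⟩, hu, hv, rfl⟩ := p
    simp only
    intro h
    have : v = 1 := by
      have := mul_left_cancel (a := u) (b := 1) (c := v) (by rw [mul_one]; exact h)
      exact this.symm
    rw [this, orderOf_one] at hv
    exact absurd hv (by norm_num)⟩
  invFun t := ⟨(t.1, t.1 * x), t.2.1, by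
    obtain ⟨t, ht, hx, hne⟩ := t
    simp only
    rw [orderOf_eq_two_iff']
    constructor
    · have h1 : t * x = x⁻¹ * t := by
        have := congrArg (· * t) hx
        simpa [mul_assoc] using this
      rw [pow_two]
      calc t * x * (t * x) = x⁻¹ * t * (t * x) := by rw [h1]
        _ = x⁻¹ * (t * t) * x := by group
        _ = 1 := by rw [mul_self_of_orderOf_two ht]; group
    · intro h
      apply hne
      have : x = t⁻¹ := (inv_eq_of_mul_eq_one_right h).symm ▸ rfl
      rw [this, inv_eq_self_of_orderOf_two ht], by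
    obtain ⟨t, ht, hx, hne⟩ := t
    simp only
    rw [← mul_assoc, mul_self_of_orderOf_two ht, one_mul]⟩
  left_inv p := by
    obtain ⟨⟨u, v⟩, hu, hv, rfl⟩ := p
    apply Subtype.ext
    simp only
    rw [← mul_assoc, mul_self_of_orderOf_two hu, one_mul]
  right_inv t := by
    apply Subtype.ext
    rfl

/-- The set of elements inverting a real element `x` is in bijection with `C_G(x)`. -/
lemma card_inverting (x : G) (hreal : IsConj x x⁻¹) :
    Nat.card {g : G // g * x * g⁻¹ = x⁻¹} = Nat.card (Subgroup.centralizer ({x} : Set G)) := by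
  obtain ⟨g₀, hg₀⟩ := isConj_iff.1 hreal
  apply Nat.card_congr
  refine
    { toFun := fun g => ⟨g₀⁻¹ * g.1, ?_⟩
      invFun := fun c => ⟨g₀ * c.1, ?_⟩
      left_inv := fun g => by apply Subtype.ext; simp
      right_inv := fun c => by apply Subtype.ext; simp }
  · rw [Subgroup.mem_centralizer_iff]
    intro y hy
    rw [Set.mem_singleton_iff] at hy
    subst hy
    have h1 : g.1 * y = y⁻¹ * g.1 := by
      have := congrArg (· * g.1) g.2
      simpa [mul_assoc] using this
    have h2 : g₀ * y = y⁻¹ * g₀ := by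
      have := congrArg (· * g₀) hg₀
      simpa [mul_assoc] using this
    have h3 : g₀⁻¹ * y⁻¹ = y * g₀⁻¹ := by
      have := congrArg (fun z => g₀⁻¹ * z * g₀⁻¹) h2
      simpa [mul_assoc] using this.symm
    calc y * (g₀⁻¹ * g.1) = (y * g₀⁻¹) * g.1 := by rw [mul_assoc]
      _ = g₀⁻¹ * y⁻¹ * g.1 := by rw [h3]
      _ = g₀⁻¹ * (y⁻¹ * g.1) := by rw [mul_assoc]
      _ = g₀⁻¹ * (g.1 * y) := by rw [h1]
      _ = g₀⁻¹ * g.1 * y := by rw [mul_assoc]
  · have hc := c.2
    rw [Subgroup.mem_centralizer_iff] at hc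
    have hcx : x * c.1 = c.1 * x := hc x (Set.mem_singleton x)
    calc g₀ * c.1 * x * (g₀ * c.1)⁻¹ = g₀ * (c.1 * x * c.1⁻¹) * g₀⁻¹ := by group
      _ = g₀ * (x * c.1 * c.1⁻¹) * g₀⁻¹ := by rw [hcx]
      _ = g₀ * x * g₀⁻¹ := by group
      _ = x⁻¹ := hg₀

end Cfsg.Agent.Lib.Helper57
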