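import Mathlib
import Cfsg.Agent.Lib.Helper57.SdpSpectrum

set_option autoImplicit false
set_option linter.unusedSectionVars false

/-!
# A solvable group with the element orders of `PSp₄(3)`

Over a field `K` with 81 elements we define a group `Elt K` of order `3 ^ 28` (a group of
unitriangular `6 × 6` matrices, written out in coordinates), of exponent 9, on which the
Frobenius group of order 20 generated by a fifth root of unity and the Frobenius map acts;
the semidirect product has the element orders `1, 2, 3, 4, 5, 6, 9, 12`.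
-/

namespace Cfsg.Agent.Lib.Helper57.Iso43

/-- The coordinates of the nilpotent group. -/
@[ext]
structure Elt (K : Type*) where
  /-- first coordinate of the top layer -/
  x : K
  /-- second coordinate of the top layer -/
  y : K
  /-- middle layer -/
  p : K
  /-- middle layer -/
  r : K
  /-- middle layer -/
  q : K
  /-- middle layer -/
  s : K
  /-- the centre -/
  z : K

section Group

variable {K : Type*} [Field K] [CharP K 3]

lemma three_eq_zero : (3 : K) = 0 := by
  have h : ((3 : ℕ) : K) = 0 := CharP.cast_eq_zero K 3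
  exact_mod_cast h

lemma add3 (a b : K) : (a + b) ^ 3 = a ^ 3 + b ^ 3 := by
  have h3 := three_eq_zero (K := K)
  linear_combination (a ^ 2 * b + a * b ^ 2) * h3

lemma add9 (a b : K) : (a + b) ^ 9 = a ^ 9 + b ^ 9 := by
  have : (a + b) ^ 9 = ((a + b) ^ 3) ^ 3 := by ring
  rw [this, add3, add3]; ring

lemma add27 (a b : K) : (a + b) ^ 27 = a ^ 27 + b ^ 27 := by
  have : (a + b) ^ 27 = ((a + b) ^ 9) ^ 3 := by ring
  rw [this, add9, add3]; ring

instance : Mul (Elt K) where
  mul a b :=
    { x := a.x + b.x
      y := a.y + b.y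
      p := a.p + b.p + a.x ^ 3 * b.x
      r := a.r + b.r + a.x ^ 27 * b.x
      q := a.q + b.q + a.x * b.y ^ 27
      s := a.s + b.s - a.x * b.y ^ 3
      z := a.z + b.z + a.x ^ 3 * b.q + a.p * b.y ^ 27 + a.x ^ 27 * b.s - a.r * b.y ^ 3 }

instance : One (Elt K) where
  one := ⟨0, 0, 0, 0, 0, 0, 0⟩

instance : Inv (Elt K) where
  inv a :=
    { x := -a.x
      y := -a.y
      p := -a.p + a.x ^ 4
      r := -a.r + a.x ^ 28
      q := -a.q + a.x * a.y ^ 27
      s := -a.s - a.x * a.y ^ 3
      z := -a.z + a.x ^ 3 * a.q - a.x ^ 4 * a.y ^ 27 + a.p * a.y ^ 27 + a.x ^ 27 * a.s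
        + a.x ^ 28 * a.y ^ 3 - a.r * a.y ^ 3 }

@[simp] lemma mul_x (a b : Elt K) : (a * b).x = a.x + b.x := rfl
@[simp] lemma mul_y (a b : Elt K) : (a * b).y = a.y + b.y := rfl
@[simp] lemma mul_p (a b : Elt K) : (a * b).p = a.p + b.p + a.x ^ 3 * b.x := rfl
@[simp] lemma mul_r (a b : Elt K) : (a * b).r = a.r + b.r + a.x ^ 27 * b.x := rfl
@[simp] lemma mul_q (a b : Elt K) : (a * b).q = a.q + b.q + a.x * b.y ^ 27 := rfl
@[simp] lemma mul_s (a b : Elt K) : (a * b).s = a.s + b.s - a.x * b.y ^ 3 := rfl
@[simp] lemma mul_z (a b : Elt K) : (a * b).z =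
    a.z + b.z + a.x ^ 3 * b.q + a.p * b.y ^ 27 + a.x ^ 27 * b.s - a.r * b.y ^ 3 := rfl

@[simp] lemma one_x : (1 : Elt K).x = 0 := rfl
@[simp] lemma one_y : (1 : Elt K).y = 0 := rfl
@[simp] lemma one_p : (1 : Elt K).p = 0 := rfl
@[simp] lemma one_r : (1 : Elt K).r = 0 := rfl
@[simp] lemma one_q : (1 : Elt K).q = 0 := rfl
@[simp] lemma one_s : (1 : Elt K).s = 0 := rfl
@[simp] lemma one_z : (1 : Elt K).z = 0 := rfl

@[simp] lemma inv_x (a : Elt K) : (a⁻¹).x = -a.x := rfl
@[simp] lemma inv_y (a : Elt K) : (a⁻¹).y = -a.y := rfl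
@[simp] lemma inv_p (a : Elt K) : (a⁻¹).p = -a.p + a.x ^ 4 := rfl
@[simp] lemma inv_r (a : Elt K) : (a⁻¹).r = -a.r + a.x ^ 28 := rfl
@[simp] lemma inv_q (a : Elt K) : (a⁻¹).q = -a.q + a.x * a.y ^ 27 := rfl
@[simp] lemma inv_s (a : Elt K) : (a⁻¹).s = -a.s - a.x * a.y ^ 3 := rfl
@[simp] lemma inv_z (a : Elt K) : (a⁻¹).z =
    -a.z + a.x ^ 3 * a.q - a.x ^ 4 * a.y ^ 27 + a.p * a.y ^ 27 + a.x ^ 27 * a.s
      + a.x ^ 28 * a.y ^ 3 - a.r * a.y ^ 3 := rfl

instance : Group (Elt K) where
  mul_assoc a b c := by
    ext <;> simp only [mul_x, mul_y, mul_p, mul_r, mul_q, mul_s, mul_z, add3, add27] <;> ring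
  one_mul a := by
    ext <;> simp only [mul_x, mul_y, mul_p, mul_r, mul_q, mul_s, mul_z, one_x, one_y, one_p,
      one_r, one_q, one_s, one_z] <;> ring
  mul_one a := by
    ext <;> simp only [mul_x, mul_y, mul_p, mul_r, mul_q, mul_s, mul_z, one_x, one_y, one_p,
      one_r, one_q, one_s, one_z] <;> ring
  inv_mul_cancel a := by
    ext <;> simp only [mul_x, mul_y, mul_p, mul_r, mul_q, mul_s, mul_z, one_x, one_y, one_p,
      one_r, one_q, one_s, one_z, inv_x, inv_y, inv_p, inv_r, inv_q, inv_s, inv_z] <;> ring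

end Group


section Powers

variable {K : Type*} [Field K] [CharP K 3]

/-- Central elements. -/
def central (c : K) : Elt K := ⟨0, 0, 0, 0, 0, 0, c⟩

lemma central_mul (c c' : K) : central c * central c' = central (c + c') := by
  ext <;> simp [central]

lemma central_zero : central (0 : K) = 1 := rfl

lemma central_injective : Function.Injective (central : K → Elt K) := by
  intro c c' h
  exact congrArg Elt.z h

lemma central_pow_three (c : K) : central c ^ 3 = 1 := by
  rw [pow_succ, pow_succ, pow_one, central_mul, central_mul, ← central_zero]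
  congr 1
  have h3 := three_eq_zero (K := K)
  linear_combination c * h3

/-- The cube of an element is central, given by a cubic form in the top layer. -/
lemma pow_three (a : Elt K) : a ^ 3 = central (a.x ^ 4 * a.y ^ 27 - a.x ^ 28 * a.y ^ 3) := by
  have h3 := three_eq_zero (K := K)
  rw [pow_succ, pow_succ, pow_one]
  ext
  · simp only [mul_x, central]; linear_combination a.x * h3
  · simp only [mul_y, central]; linear_combination a.y * h3
  · simp only [mul_p, mul_x, central, add3]; linear_combination (a.p + a.x ^ 4) * h3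
  · simp only [mul_r, mul_x, central, add27]; linear_combination (a.r + a.x ^ 28) * h3
  · simp only [mul_q, mul_x, mul_y, central]; linear_combination (a.q + a.x * a.y ^ 27) * h3
  · simp only [mul_s, mul_x, mul_y, central]; linear_combination (a.s - a.x * a.y ^ 3) * h3
  · simp only [mul_z, mul_x, mul_y, mul_p, mul_r, mul_q, mul_s, central, add3, add27]
    linear_combination (a.z + a.x ^ 3 * a.q + a.p * a.y ^ 27 + a.x ^ 27 * a.s - a.r * a.y ^ 3) * h3

lemma pow_nine (a : Elt K) : a ^ 9 = 1 := by
  have : a ^ 9 = (a ^ 3) ^ 3 := by rw [← pow_mul]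
  rw [this, pow_three a, central_pow_three]

end Powers


section Auts

variable {K : Type*} [Field K] [CharP K 3]

/-- The diagonal map with parameter `u`. -/
def dfun (u : K) (a : Elt K) : Elt K :=
  ⟨u * a.x, u * a.y, u ^ 4 * a.p, u ^ 3 * a.r, u ^ 3 * a.q, u ^ 4 * a.s, u * a.z⟩

lemma dfun_one (a : Elt K) : dfun 1 a = a := by
  ext <;> simp [dfun]

lemma dfun_mul (u v : K) (a : Elt K) : dfun (u * v) a = dfun u (dfun v a) := by
  ext <;> simp only [dfun] <;> ring

lemma dfun_map_mul (u : K) (hu : u ^ 5 = 1) (a b : Elt K) :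
    dfun u (a * b) = dfun u a * dfun u b := by
  have h25 : u ^ 25 = 1 := by
    have : u ^ 25 = (u ^ 5) ^ 5 := by ring
    rw [this, hu, one_pow]
  ext
  · simp only [dfun, mul_x]; ring
  · simp only [dfun, mul_y]; ring
  · simp only [dfun, mul_p]; ring
  · simp only [dfun, mul_r]; linear_combination (-(u ^ 3 * a.x ^ 27 * b.x)) * h25
  · simp only [dfun, mul_q]; linear_combination (-(u ^ 3 * a.x * b.y ^ 27)) * h25
  · simp only [dfun, mul_s]; ring
  · simp only [dfun, mul_z]
    linear_combination (-(u * a.x ^ 3 * b.q) - u * (a.p * b.y ^ 27 + a.x ^ 27 * b.s)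
      + u * a.r * b.y ^ 3) * hu + (-(u ^ 6 * (a.p * b.y ^ 27 + a.x ^ 27 * b.s))) * h25

/-- The fifth roots of unity. -/
abbrev Mu5 (K : Type*) [Field K] : Type _ := rootsOfUnity 5 K

lemma mu5_pow (u : Mu5 K) : (((u : Kˣ) : K)) ^ 5 = 1 := by
  have h := (mem_rootsOfUnity 5 (u : Kˣ)).1 u.2
  have := congrArg (fun t : Kˣ => (t : K)) h
  simpa using this

/-- The diagonal automorphisms. -/
def δ : Mu5 K →* MulAut (Elt K) where
  toFun u :=
    { toFun := dfun ((u : Kˣ) : K)
      invFun := dfun (((u⁻¹ : Mu5 K) : Kˣ) : K)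
      left_inv := by
        intro a
        rw [← dfun_mul, ← Units.val_mul, ← Subgroup.coe_mul, inv_mul_cancel]
        exact dfun_one a
      right_inv := by
        intro a
        rw [← dfun_mul, ← Units.val_mul, ← Subgroup.coe_mul, mul_inv_cancel]
        exact dfun_one a
      map_mul' := dfun_map_mul _ (mu5_pow u) }
  map_one' := by
    ext a : 1
    exact dfun_one a
  map_mul' u v := by
    ext a : 1
    show dfun (((u * v : Mu5 K) : Kˣ) : K) a = dfun _ (dfun _ a)
    rw [← dfun_mul, Subgroup.coe_mul, Units.val_mul]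

lemma δ_apply (u : Mu5 K) (a : Elt K) : δ u a = dfun ((u : Kˣ) : K) a := rfl

/-- Applying a field endomorphism to all coordinates. -/
def efun (σ : K →+* K) (a : Elt K) : Elt K :=
  ⟨σ a.x, σ a.y, σ a.p, σ a.r, σ a.q, σ a.s, σ a.z⟩

lemma efun_map_mul (σ : K →+* K) (a b : Elt K) : efun σ (a * b) = efun σ a * efun σ b := by
  ext <;> simp [efun]

/-- The field automorphisms act on `Elt K`. -/
def Φ : (K ≃+* K) →* MulAut (Elt K) where
  toFun σ :=
    { toFun := efun (σ : K →+* K)
      invFun := efun (σ.symm : K →+* K)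
      left_inv := by
        intro a
        ext <;> simp [efun]
      right_inv := by
        intro a
        ext <;> simp [efun]
      map_mul' := efun_map_mul _ }
  map_one' := by
    ext a : 1
    ext <;> rfl
  map_mul' σ τ := by
    ext a : 1
    ext <;> rfl

lemma Φ_apply (σ : K ≃+* K) (a : Elt K) : Φ σ a = efun (σ : K →+* K) a := rfl

lemma efun_one (a : Elt K) : efun ((1 : K ≃+* K) : K →+* K) a = a := by
  ext <;> rfl

lemma Φ_inv_apply (σ : K ≃+* K) (a : Elt K) : (Φ σ)⁻¹ a = efun (σ.symm : K →+* K) a := rfl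

lemma Φ_symm_apply (σ : K ≃+* K) (a : Elt K) :
    (Φ σ).symm a = efun (σ.symm : K →+* K) a := rfl

/-- The field automorphisms act on the roots of unity. -/
def χ : (K ≃+* K) →* MulAut (Mu5 K) where
  toFun σ := MulEquiv.restrictRootsOfUnity σ.toMulEquiv 5
  map_one' := by
    ext u : 3
    rfl
  map_mul' σ τ := by
    ext u : 3
    rfl

lemma χ_apply (σ : K ≃+* K) (u : Mu5 K) : (((χ σ u : Mu5 K) : Kˣ) : K) = σ ((u : Kˣ) : K) := rfl

end Auts


section Grp

variable (K : Type*) [Field K] [Fintype K] [CharP K 3]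

instance fact_three : Fact (Nat.Prime 3) := ⟨Nat.prime_three⟩

/-- The Frobenius automorphism. -/
noncomputable def frobE : K ≃+* K := frobeniusEquiv K 3

lemma frobE_apply (t : K) : frobE K t = t ^ 3 := by
  simp [frobE, frobenius_def]

/-- The group generated by the Frobenius automorphism. -/
noncomputable abbrev C4 : Subgroup (K ≃+* K) := Subgroup.zpowers (frobE K)

/-- The complement: a Frobenius group of order 20 (when `K` has 81 elements). -/
abbrev Q : Type _ := Mu5 K ⋊[(χ (K := K)).comp (C4 K).subtype] C4 K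

lemma compat (g : C4 K) :
    (δ (K := K)).comp (((χ (K := K)).comp (C4 K).subtype) g).toMonoidHom =
      (MulAut.conj (((Φ (K := K)).comp (C4 K).subtype) g)).toMonoidHom.comp δ := by
  apply MonoidHom.ext
  intro u
  apply MulEquiv.ext
  intro a
  show δ (χ (g : K ≃+* K) u) a = (Φ (g : K ≃+* K) * δ u * (Φ (g : K ≃+* K))⁻¹) a
  rw [MulAut.mul_apply, MulAut.mul_apply, Φ_inv_apply]
  ext <;> simp [δ_apply, Φ_apply, dfun, efun, χ_apply]

/-- The action of the complement. -/
noncomputable def ψ : Q K →* MulAut (Elt K) :=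
  SemidirectProduct.lift δ ((Φ (K := K)).comp (C4 K).subtype) (compat K)

lemma ψ_apply (f : Q K) (a : Elt K) :
    ψ K f a = dfun ((f.left : Kˣ) : K) (efun ((f.right : K ≃+* K) : K →+* K) a) := rfl

/-- The solvable group. -/
abbrev G : Type _ := Elt K ⋊[ψ K] Q K

end Grp


section Solvable

open SemidirectProduct

theorem isSolvable_sdp' {N H : Type*} [Group N] [Group H] (φ : H →* MulAut N)
    [Group.IsSolvable N] [Group.IsSolvable H] : Group.IsSolvable (N ⋊[φ] H) :=
  Group.isSolvable_of_ker_le_range (inl : N →* N ⋊[φ] H) (rightHom : N ⋊[φ] H →* H)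
    (by rw [range_inl_eq_ker_rightHom])

theorem finite_sdp {N H : Type*} [Group N] [Group H] (φ : H →* MulAut N)
    [Finite N] [Finite H] : Finite (N ⋊[φ] H) :=
  Finite.of_equiv _ (equivProd (φ := φ)).symm

variable (K : Type*) [Field K] [Fintype K] [CharP K 3]

instance finite_Elt : Finite (Elt K) := by
  have : Function.Injective
      (fun a : Elt K => (a.x, a.y, a.p, a.r, a.q, a.s, a.z)) := by
    intro a b h
    simp only [Prod.mk.injEq] at h
    obtain ⟨h1, h2, h3, h4, h5, h6, h7⟩ := h
    exact Elt.ext h1 h2 h3 h4 h5 h6 h7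
  exact Finite.of_injective _ this

/-- The top layer, as a homomorphism. -/
def top : Elt K →* Multiplicative (K × K) where
  toFun a := Multiplicative.ofAdd (a.x, a.y)
  map_one' := rfl
  map_mul' a b := rfl

instance isSolvable_Elt : Group.IsSolvable (Elt K) := by
  have hcomm : ∀ a b : (top K).ker, a * b = b * a := by
    rintro ⟨a, ha⟩ ⟨b, hb⟩
    have ha' : a.x = 0 ∧ a.y = 0 := by
      have := (MonoidHom.mem_ker).1 ha
      have h2 := congrArg Multiplicative.toAdd this
      simpa [top, Prod.ext_iff] using h2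
    have hb' : b.x = 0 ∧ b.y = 0 := by
      have := (MonoidHom.mem_ker).1 hb
      have h2 := congrArg Multiplicative.toAdd this
      simpa [top, Prod.ext_iff] using h2
    apply Subtype.ext
    show a * b = b * a
    ext <;> simp [ha'.1, ha'.2, hb'.1, hb'.2, add_comm]
  have : Group.IsSolvable (top K).ker := Group.isSolvable_of_comm hcomm
  exact Group.isSolvable_of_ker_le_range (top K).ker.subtype (top K) (by simp)

instance finite_ringAut : Finite (K ≃+* K) :=
  Finite.of_injective (fun σ : K ≃+* K => (σ : K → K)) DFunLike.coe_injective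

instance finite_Q : Finite (Q K) := finite_sdp _

instance isSolvable_Q : Group.IsSolvable (Q K) := by
  have : Group.IsSolvable (C4 K) :=
    Group.isSolvable_of_comm (fun a b => (Subgroup.zpowers_isMulCommutative (frobE K)).is_comm.comm a b)
  exact isSolvable_sdp' _

instance finite_G : Finite (G K) := finite_sdp _

instance isSolvable_G : Group.IsSolvable (G K) := isSolvable_sdp' _

end Solvable


section Field

variable {K : Type*} [Field K] [Fintype K] [CharP K 3]

lemma pow81 (hK : Fintype.card K = 81) (t : K) : t ^ 81 = t := by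
  have := FiniteField.pow_card t
  rwa [hK] at this

lemma frobE_pow_apply (j : ℕ) (t : K) : (frobE K ^ j) t = t ^ 3 ^ j := by
  induction j generalizing t with
  | zero => simp
  | succ j ih =>
    rw [pow_succ, RingAut.mul_apply, ih, frobE_apply, ← pow_mul, pow_succ, mul_comm]

lemma frobE_pow_four (hK : Fintype.card K = 81) : frobE K ^ 4 = 1 := by
  ext t
  rw [frobE_pow_apply, RingAut.one_apply]
  exact pow81 hK t

lemma mem_C4 (hK : Fintype.card K = 81) (σ : K ≃+* K) (hσ : σ ∈ C4 K) :
    σ = 1 ∨ σ = frobE K ∨ σ = frobE K ^ 2 ∨ σ = frobE K ^ 3 := by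
  obtain ⟨k, rfl⟩ := Subgroup.mem_zpowers_iff.1 hσ
  have h4 := frobE_pow_four hK
  have hk : frobE K ^ k = frobE K ^ (k % 4) := by
    conv_lhs => rw [← Int.mul_ediv_add_emod k 4, zpow_add, zpow_mul]
    rw [show (frobE K ^ (4 : ℤ)) = 1 by exact_mod_cast h4, one_zpow, one_mul]
  have h1 : 0 ≤ k % 4 := Int.emod_nonneg k (by norm_num)
  have h2 : k % 4 < 4 := Int.emod_lt_of_pos k (by norm_num)
  rw [hk]
  obtain ⟨r, hr⟩ : ∃ r : ℕ, k % 4 = r := ⟨(k % 4).toNat, (Int.toNat_of_nonneg h1).symm⟩
  rw [hr] at h2 ⊢
  rw [zpow_natCast]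
  have h3 : r < 4 := by exact_mod_cast h2
  interval_cases r
  · left; simp
  · right; left; simp
  · right; right; left; rfl
  · right; right; right; rfl

/-- The cubic form vanishes on the "twisted `𝔽₉`-points". -/
lemma cubic_zero (w X Y : K) (hw : w ≠ 0) (hX : X = w * X ^ 9) (hY : Y = w * Y ^ 9) :
    X ^ 4 * Y ^ 27 - X ^ 28 * Y ^ 3 = 0 := by
  have hX3 : X ^ 3 = w ^ 3 * X ^ 27 := by
    have := congrArg (· ^ 3) hX
    rw [this]; ring
  have hY3 : Y ^ 3 = w ^ 3 * Y ^ 27 := by
    have := congrArg (· ^ 3) hY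
    rw [this]; ring
  have hw3 : w ^ 3 ≠ 0 := pow_ne_zero 3 hw
  have : w ^ 3 * (X ^ 4 * Y ^ 27 - X ^ 28 * Y ^ 3) = 0 := by
    linear_combination (-(X ^ 4)) * hY3 + (X * Y ^ 3) * hX3
  rcases mul_eq_zero.1 this with h | h
  · exact absurd h hw3
  · exact h

/-- A point fixed by a twisted nontrivial power of the Frobenius map is a twisted `𝔽₉`-point. -/
lemma twisted_fix (hK : Fintype.card K = 81) (u : K) (hu : u ≠ 0) (j : ℕ)
    (hj : j = 1 ∨ j = 2 ∨ j = 3) :
    ∃ w : K, w ≠ 0 ∧ ∀ X : K, X = u * X ^ 3 ^ j → X = w * X ^ 9 := by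
  rcases hj with rfl | rfl | rfl
  · refine ⟨u ^ 4, pow_ne_zero 4 hu, ?_⟩
    intro X hX
    have hX' : X = u * X ^ 3 := by simpa using hX
    have h3 : X ^ 3 = u ^ 3 * X ^ 9 := by
      have := congrArg (· ^ 3) hX'
      rw [this]; ring
    calc X = u * X ^ 3 := hX'
      _ = u ^ 4 * X ^ 9 := by rw [h3]; ring
  · refine ⟨u, hu, ?_⟩
    intro X hX
    simpa using hX
  · refine ⟨u ^ 28, pow_ne_zero 28 hu, ?_⟩
    intro X hX
    have hX' : X = u * X ^ 27 := by simpa using hX
    have h27 : X ^ 27 = u ^ 27 * X ^ 9 := by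
      have h0 := congrArg (· ^ 27) hX'
      have h729 : X ^ 729 = X ^ 9 := by
        have : X ^ 729 = (X ^ 81) ^ 9 := by ring
        rw [this, pow81 hK]
      rw [h0, mul_pow, ← pow_mul, show 27 * 27 = 729 by norm_num, h729]
    calc X = u * X ^ 27 := hX'
      _ = u ^ 28 * X ^ 9 := by rw [h27]; ring

end Field


section Upper

open SemidirectProduct

/-- A power of an element of a semidirect product lying over the identity. -/
lemma sdp_pow_inl {N H : Type*} [Group N] [Group H] (φ : H →* MulAut N) (x : N ⋊[φ] H) (m : ℕ)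
    (hm : x.right ^ m = 1) :
    ∃ n : N, x ^ m = inl n ∧ n * x.left = x.left * φ x.right n := by
  have hr : (x ^ m).right = 1 := by
    have : (x ^ m).right = x.right ^ m := map_pow (rightHom : N ⋊[φ] H →* H) x m
    rw [this, hm]
  refine ⟨(x ^ m).left, ?_, ?_⟩
  · exact SemidirectProduct.ext (by simp) (by simpa using hr)
  · have hcomm : x ^ m * x = x * x ^ m := pow_mul_comm' x m
    have hl := congrArg SemidirectProduct.left hcomm
    rw [mul_left, mul_left, hr, map_one, MulAut.one_apply] at hl
    exact hl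

variable {K : Type*} [Field K] [Fintype K] [CharP K 3]

/-- Nontrivial diagonal automorphisms are fixed-point-free, even after an inner twist. -/
lemma fpf (u : K) (hu5 : u ^ 5 = 1) (hu1 : u ≠ 1) (a n : Elt K)
    (h : n * a = a * dfun u n) : n = 1 := by
  have h1 : (1 : K) - u ≠ 0 := sub_ne_zero.2 (Ne.symm hu1)
  have hu3 : (1 : K) - u ^ 3 ≠ 0 := by
    intro h3
    have h3' : u ^ 3 = 1 := (sub_eq_zero.1 h3).symm
    apply hu1
    have : u ^ 6 = 1 := by
      have : u ^ 6 = (u ^ 3) ^ 2 := by ring
      rw [this, h3', one_pow]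
    have h6 : u ^ 6 = u ^ 5 * u := by ring
    rw [h6, hu5, one_mul] at this
    exact this
  have hu4 : (1 : K) - u ^ 4 ≠ 0 := by
    intro h4
    have h4' : u ^ 4 = 1 := (sub_eq_zero.1 h4).symm
    apply hu1
    have h5 : u ^ 5 = u ^ 4 * u := by ring
    rw [h5, h4', one_mul] at hu5
    exact hu5
  have hx : n.x = 0 := by
    have := congrArg Elt.x h
    simp only [mul_x, dfun] at this
    have h2 : (1 - u) * n.x = 0 := by linear_combination this
    exact (mul_eq_zero.1 h2).resolve_left h1
  have hy : n.y = 0 := by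
    have := congrArg Elt.y h
    simp only [mul_y, dfun] at this
    have h2 : (1 - u) * n.y = 0 := by linear_combination this
    exact (mul_eq_zero.1 h2).resolve_left h1
  have hp : n.p = 0 := by
    have := congrArg Elt.p h
    simp only [mul_p, dfun, hx] at this
    have h2 : (1 - u ^ 4) * n.p = 0 := by linear_combination this
    exact (mul_eq_zero.1 h2).resolve_left hu4
  have hr : n.r = 0 := by
    have := congrArg Elt.r h
    simp only [mul_r, dfun, hx] at this
    have h2 : (1 - u ^ 3) * n.r = 0 := by linear_combination this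
    exact (mul_eq_zero.1 h2).resolve_left hu3
  have hq : n.q = 0 := by
    have := congrArg Elt.q h
    simp only [mul_q, dfun, hx, hy] at this
    have h2 : (1 - u ^ 3) * n.q = 0 := by linear_combination this
    exact (mul_eq_zero.1 h2).resolve_left hu3
  have hs : n.s = 0 := by
    have := congrArg Elt.s h
    simp only [mul_s, dfun, hx, hy] at this
    have h2 : (1 - u ^ 4) * n.s = 0 := by linear_combination this
    exact (mul_eq_zero.1 h2).resolve_left hu4
  have hz : n.z = 0 := by
    have := congrArg Elt.z h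
    simp only [mul_z, dfun, hx, hy, hp, hr, hq, hs] at this
    have h2 : (1 - u) * n.z = 0 := by linear_combination this
    exact (mul_eq_zero.1 h2).resolve_left h1
  exact Elt.ext hx hy hp hr hq hs hz

end Upper


section Bound

open SemidirectProduct

variable {K : Type*} [Field K] [Fintype K] [CharP K 3]

lemma root_fix (w : K) (hw5 : w ^ 5 = 1) (j : ℕ) (hj : j = 1 ∨ j = 2 ∨ j = 3)
    (h : w ^ 3 ^ j = w) : w = 1 := by
  rcases hj with rfl | rfl | rfl
  · have h3 : w ^ 3 = w := by simpa using h
    have : w ^ 5 = w := by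
      calc w ^ 5 = w ^ 3 * w ^ 2 := by ring
        _ = w * w ^ 2 := by rw [h3]
        _ = w ^ 3 := by ring
        _ = w := h3
    rw [← this, hw5]
  · have h9 : w ^ 9 = w := by simpa using h
    have h10 : w ^ 10 = 1 := by
      have : w ^ 10 = (w ^ 5) ^ 2 := by ring
      rw [this, hw5, one_pow]
    have h2 : w ^ 2 = 1 := by
      calc w ^ 2 = w * w := by ring
        _ = w ^ 9 * w := by rw [h9]
        _ = w ^ 10 := by ring
        _ = 1 := h10
    calc w = (w ^ 2) ^ 2 * w := by rw [h2]; ring
      _ = w ^ 5 := by ring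
      _ = 1 := hw5
  · have h27 : w ^ 27 = w := by simpa using h
    have h25 : w ^ 25 = 1 := by
      have : w ^ 25 = (w ^ 5) ^ 5 := by ring
      rw [this, hw5, one_pow]
    have h26 : w ^ 26 = w := by
      calc w ^ 26 = w ^ 25 * w := by ring
        _ = w := by rw [h25, one_mul]
    have hw0 : w ≠ 0 := by
      intro h0
      rw [h0] at hw5
      norm_num at hw5
    have : w * w ^ 26 = w * 1 := by
      calc w * w ^ 26 = w ^ 27 := by ring
        _ = w := h27
        _ = w * 1 := by ring
    have h261 : w ^ 26 = 1 := mul_left_cancel₀ hw0 this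
    rw [← h26, h261]

lemma mu5_pow_five (u : Mu5 K) : u ^ 5 = 1 := by
  apply Subtype.ext
  rw [Subgroup.coe_pow]
  exact (mem_rootsOfUnity 5 _).1 u.2

lemma mu5_ne_zero (u : Mu5 K) : ((u : Kˣ) : K) ≠ 0 := Units.ne_zero _

/-- In the complement, elements not in the cyclic normal subgroup have fourth power one. -/
lemma Q_pow_four (hK : Fintype.card K = 81) (f : Q K) (j : ℕ) (hj : j = 1 ∨ j = 2 ∨ j = 3)
    (hf : (f.right : K ≃+* K) = frobE K ^ j) : f ^ 4 = 1 := by
  have h4 : f.right ^ 4 = 1 := by
    apply Subtype.ext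
    rw [Subgroup.coe_pow, hf, ← pow_mul, mul_comm, pow_mul, frobE_pow_four hK, one_pow]
    rfl
  obtain ⟨w, hw, hcomm⟩ := sdp_pow_inl _ f 4 h4
  have hfix : ((χ (K := K)).comp (C4 K).subtype) f.right w = w := by
    rw [mul_comm] at hcomm
    exact (mul_left_cancel hcomm).symm
  have hfixK : (frobE K ^ j) (((w : Kˣ) : K)) = ((w : Kˣ) : K) := by
    have := congrArg (fun t : Mu5 K => ((t : Kˣ) : K)) hfix
    simp only [MonoidHom.comp_apply, Subgroup.subtype_apply, χ_apply, hf] at this
    exact this
  rw [frobE_pow_apply] at hfixK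
  have hw1 : ((w : Kˣ) : K) = 1 := root_fix _ (mu5_pow w) j hj hfixK
  have hw1' : w = 1 := by
    apply Subtype.ext
    apply Units.ext
    exact hw1
  rw [hw, hw1', map_one]

/-- Every element of the group has ninth, fifth or twelfth power one. -/
theorem pow_cases (hK : Fintype.card K = 81) (x : G K) : x ^ 9 = 1 ∨ x ^ 5 = 1 ∨ x ^ 12 = 1 := by
  have key : ∀ (j : ℕ), (j = 1 ∨ j = 2 ∨ j = 3) → (x.right.right : K ≃+* K) = frobE K ^ j →
      x ^ 12 = 1 := by
    intro j hj hσ
    have hf4 := Q_pow_four hK x.right j hj hσ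
    obtain ⟨n, hn, hcomm⟩ := sdp_pow_inl (ψ K) x 4 hf4
    rw [ψ_apply, hσ] at hcomm
    obtain ⟨w, hw0, hw⟩ := twisted_fix hK _ (mu5_ne_zero x.right.left) j hj
    have hx : n.x = w * n.x ^ 9 := by
      apply hw
      have := congrArg Elt.x hcomm
      simp only [mul_x, dfun, efun, RingEquiv.coe_toRingHom, frobE_pow_apply] at this
      linear_combination this
    have hy : n.y = w * n.y ^ 9 := by
      apply hw
      have := congrArg Elt.y hcomm
      simp only [mul_y, dfun, efun, RingEquiv.coe_toRingHom, frobE_pow_apply] at this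
      linear_combination this
    have hn3 : n ^ 3 = 1 := by
      rw [pow_three, cubic_zero w n.x n.y hw0 hx hy]
      rfl
    have : x ^ 12 = (x ^ 4) ^ 3 := by rw [← pow_mul]
    rw [this, hn, ← map_pow, hn3, map_one]
  rcases mem_C4 hK (x.right.right : K ≃+* K) x.right.right.2 with hσ | hσ | hσ | hσ
  · have hσ1 : x.right.right = 1 := Subtype.ext hσ
    by_cases hu : x.right.left = 1
    · left
      have hx : x = inl x.left := by
        apply SemidirectProduct.ext
        · simp
        · apply SemidirectProduct.ext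
          · simpa using hu
          · simpa using hσ1
      rw [hx, ← map_pow, pow_nine, map_one]
    · right; left
      have hf : x.right = inl x.right.left := by
        apply SemidirectProduct.ext
        · simp
        · simpa using hσ1
      have hf5 : x.right ^ 5 = 1 := by
        rw [hf, ← map_pow, mu5_pow_five, map_one]
      obtain ⟨n, hn, hcomm⟩ := sdp_pow_inl (ψ K) x 5 hf5
      rw [ψ_apply, hσ, efun_one] at hcomm
      have hn1 : n = 1 := by
        apply fpf _ (mu5_pow x.right.left) _ x.left n
        · exact hcomm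
        · intro h1
          apply hu
          apply Subtype.ext
          apply Units.ext
          exact h1
      rw [hn, hn1, map_one]
  · right; right
    exact key 1 (Or.inl rfl) (by rw [hσ, pow_one])
  · right; right
    exact key 2 (Or.inr (Or.inl rfl)) hσ
  · right; right
    exact key 3 (Or.inr (Or.inr rfl)) hσ

end Bound


section Spectrum

open SemidirectProduct

variable {K : Type*} [Field K] [Fintype K] [CharP K 3]

lemma exists_generator (hK : Fintype.card K = 81) : ∃ g : Kˣ, orderOf g = 80 := by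
  classical
  obtain ⟨g, hg⟩ := IsCyclic.exists_generator (α := Kˣ)
  refine ⟨g, ?_⟩
  rw [orderOf_eq_card_of_forall_mem_zpowers hg, Nat.card_eq_fintype_card, Fintype.card_units, hK]

lemma sub3 (a b : K) : (a - b) ^ 3 = a ^ 3 - b ^ 3 := by
  have h3 := three_eq_zero (K := K)
  linear_combination (-(a ^ 2 * b) + a * b ^ 2) * h3

/-- The set of element orders of the group `G K`. -/
theorem range_orderOf (hK : Fintype.card K = 81) :
    Set.range (orderOf : G K → ℕ) = {1, 2, 3, 4, 5, 6, 9, 12} := by
  apply Set.eq_of_subset_of_subset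
  · rintro _ ⟨x, rfl⟩
    have hd5 : Nat.divisors 5 = {1, 5} := by decide
    have hd9 : Nat.divisors 9 = {1, 3, 9} := by decide
    have hd12 : Nat.divisors 12 = {1, 2, 3, 4, 6, 12} := by decide
    rcases pow_cases hK x with h | h | h
    · have h2 : orderOf x ∈ Nat.divisors 9 :=
        Nat.mem_divisors.2 ⟨orderOf_dvd_of_pow_eq_one h, by norm_num⟩
      rw [hd9] at h2
      simp only [Finset.mem_insert, Finset.mem_singleton] at h2
      simp only [Set.mem_insert_iff, Set.mem_singleton_iff]
      omega
    · have h2 : orderOf x ∈ Nat.divisors 5 :=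
        Nat.mem_divisors.2 ⟨orderOf_dvd_of_pow_eq_one h, by norm_num⟩
      rw [hd5] at h2
      simp only [Finset.mem_insert, Finset.mem_singleton] at h2
      simp only [Set.mem_insert_iff, Set.mem_singleton_iff]
      omega
    · have h2 : orderOf x ∈ Nat.divisors 12 :=
        Nat.mem_divisors.2 ⟨orderOf_dvd_of_pow_eq_one h, by norm_num⟩
      rw [hd12] at h2
      simp only [Finset.mem_insert, Finset.mem_singleton] at h2
      simp only [Set.mem_insert_iff, Set.mem_singleton_iff]
      omega
  · obtain ⟨g, hg⟩ := exists_generator hK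
    -- an element not in the subfield with nine elements
    have hY : ((g : K)) ^ 9 ≠ (g : K) := by
      intro h
      have h8 : g ^ 8 = 1 := by
        apply Units.ext
        have h0 : (g : K) ≠ 0 := Units.ne_zero g
        have : (g : K) * (g : K) ^ 8 = (g : K) * 1 := by
          calc (g : K) * (g : K) ^ 8 = (g : K) ^ 9 := by ring
            _ = (g : K) * 1 := by rw [h, mul_one]
        have := mul_left_cancel₀ h0 this
        simpa using this
      exact pow_ne_one_of_lt_orderOf (by norm_num) (by rw [hg]; norm_num) h8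
    -- order 9
    have o9 : ∃ x : G K, orderOf x = 9 := by
      let a0 : Elt K := ⟨1, (g : K), 0, 0, 0, 0, 0⟩
      refine ⟨inl a0, ?_⟩
      rw [orderOf_injective (inl : Elt K →* G K) inl_injective]
      apply orderOf_eq_prime_pow (p := 3) (n := 1)
      · rw [pow_one, pow_three]
        intro h
        rw [← central_zero] at h
        have h0 := central_injective h
        simp only [a0] at h0
        have h1 : ((g : K) ^ 9 - (g : K)) ^ 3 = 0 := by
          rw [sub3]
          linear_combination h0
        have h2 := pow_eq_zero_iff (by norm_num) |>.1 h1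
        exact hY (sub_eq_zero.1 h2)
      · exact pow_nine a0
    -- order 5
    have o5 : ∃ x : G K, orderOf x = 5 := by
      have hmem : g ^ 16 ∈ rootsOfUnity 5 K := by
        rw [mem_rootsOfUnity, ← pow_mul]
        have : g ^ 80 = 1 := by rw [← hg]; exact pow_orderOf_eq_one g
        exact this
      let u0 : Mu5 K := ⟨g ^ 16, hmem⟩
      have hu0 : u0 ≠ 1 := by
        intro h
        have h16 : g ^ 16 = 1 := congrArg Subtype.val h
        exact pow_ne_one_of_lt_orderOf (by norm_num) (by rw [hg]; norm_num) h16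
      refine ⟨inr (inl u0), ?_⟩
      rw [orderOf_injective (inr : Q K →* G K) inr_injective,
        orderOf_injective (inl : Mu5 K →* Q K) inl_injective]
      have : Fact (Nat.Prime 5) := ⟨by norm_num⟩
      exact orderOf_eq_prime (mu5_pow_five u0) hu0
    -- order 12
    have o12 : ∃ x : G K, orderOf x = 12 := by
      let c : Elt K := central 1
      let fg : C4 K := ⟨frobE K, Subgroup.mem_zpowers _⟩
      have oc : orderOf (inl c : G K) = 3 := by
        rw [orderOf_injective (inl : Elt K →* G K) inl_injective]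
        apply orderOf_eq_prime (central_pow_three 1)
        intro h
        rw [← central_zero] at h
        exact one_ne_zero (central_injective h)
      have of : orderOf (inr (inr fg) : G K) = 4 := by
        rw [orderOf_injective (inr : Q K →* G K) inr_injective,
          orderOf_injective (inr : C4 K →* Q K) inr_injective]
        have : Fact (Nat.Prime 2) := ⟨by norm_num⟩
        apply orderOf_eq_prime_pow (p := 2) (n := 1)
        · intro h
          have h2 : (frobE K) ^ 2 = 1 := by
            have := congrArg Subtype.val h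
            simpa [fg] using this
          have h3 := congrArg (fun σ : K ≃+* K => σ (g : K)) h2
          simp only [frobE_pow_apply, RingAut.one_apply] at h3
          exact hY (by simpa using h3)
        · apply Subtype.ext
          rw [Subgroup.coe_pow]
          exact frobE_pow_four hK
      have hcomm : Commute (inl c : G K) (inr (inr fg)) := by
        apply SemidirectProduct.ext
        · simp only [mul_left, left_inl, right_inl, map_one, left_inr, mul_one,
            right_inr, one_mul]
          rw [ψ_apply]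
          ext <;> simp [c, central, dfun, efun]
        · simp
      refine ⟨inl c * inr (inr fg), ?_⟩
      rw [hcomm.orderOf_mul_eq_mul_orderOf_of_coprime (by rw [oc, of]; norm_num), oc, of]
    obtain ⟨x12, o12⟩ := o12
    have hpow : ∀ n : ℕ, n ≠ 0 → n ∣ 12 → 12 / n ∈ Set.range (orderOf : G K → ℕ) := by
      intro n hn hd
      refine ⟨x12 ^ n, ?_⟩
      rw [orderOf_pow_of_dvd hn (by rw [o12]; exact hd), o12]
    intro n hn
    simp only [Set.mem_insert_iff, Set.mem_singleton_iff] at hn
    rcases hn with rfl | rfl | rfl | rfl | rfl | rfl | rfl | rfl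
    · exact ⟨1, orderOf_one⟩
    · exact hpow 6 (by norm_num) (by norm_num)
    · exact hpow 4 (by norm_num) (by norm_num)
    · exact hpow 3 (by norm_num) (by norm_num)
    · exact o5
    · exact hpow 2 (by norm_num) (by norm_num)
    · exact o9
    · exact ⟨x12, o12⟩

end Spectrum

end Cfsg.Agent.Lib.Helper57.Iso43
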