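import Cfsg.Agent.Lib.Helper57.J1Cent
import Cfsg.Agent.Lib.Helper57.DataJ1Aut
import Cfsg.Prelude.Def_KGroupFacts

set_option autoImplicit false

/-!
# The automorphisms of the Janko group `J₁` are inner

An automorphism `α` maps `⟨x⟩` to a Sylow 7-subgroup; composing with inner automorphisms, `α x = x`.
Then `α t` is an involution, hence one of the 1463 conjugates of `t`, and it satisfies the relations
satisfied by `x` and `t`: by the checked tables it is one of the seven `xʲ t x⁻ʲ`.  Composing with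
the conjugation by a power of `x`, `α` fixes `x` and `t`, which generate `J₁`.
-/

namespace Cfsg.Agent.Lib.Helper57

/-- An element of prime order `p` is conjugate into a given subgroup whose order is the `p`-part
of the order of the group. -/
theorem exists_conj_mem_of_card_eq {Γ : Type*} [Group Γ] [Finite Γ] {p : ℕ} (hp : p.Prime)
    (E : Subgroup Γ) (hE : Nat.card E = p ^ (Nat.card Γ).factorization p) (n : Γ)
    (hn : orderOf n = p) : ∃ g : Γ, g * n * g⁻¹ ∈ E := by
  have := Fact.mk hp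
  let Q : Sylow p Γ := Sylow.ofCard E hE
  have hpg : IsPGroup p (Subgroup.zpowers n) :=
    IsPGroup.of_card (n := 1) (by rw [Nat.card_zpowers, hn, pow_one])
  obtain ⟨P, hP⟩ := hpg.exists_le_sylow
  obtain ⟨g, hg⟩ := MulAction.exists_smul_eq Γ P Q
  have hnP : n ∈ P := hP (Subgroup.mem_zpowers _)
  refine ⟨g, ?_⟩
  have h2 : g * n * g⁻¹ ∈ ((g • P : Sylow p Γ) : Subgroup Γ) := by
    rw [Sylow.coe_subgroup_smul]
    have h3 := Subgroup.smul_mem_pointwise_smul n (MulAut.conj g) (P : Subgroup Γ) hnP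
    rwa [MulAut.smul_def, MulAut.conj_apply] at h3
  rw [hg] at h2
  exact h2

/-- If `t` has at most `m` conjugates and `m` distinct ones are given, every conjugate is one of
them. -/
theorem exists_conj_eq_of_card {G : Type*} [Group G] [Finite G] (t : G) (m : ℕ) (g : Fin m → G)
    (hinj : Function.Injective fun j => g j * t * (g j)⁻¹)
    (hm : Nat.card G ≤ m * Nat.card (Subgroup.centralizer ({t} : Set G))) (h : G) :
    ∃ j, h * t * h⁻¹ = g j * t * (g j)⁻¹ := by
  set C := Subgroup.centralizer ({t} : Set G) with hC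
  have hcomm : ∀ a b : G, (a : G ⧸ C) = (b : G ⧸ C) → a * t * a⁻¹ = b * t * b⁻¹ := by
    intro a b hab
    have h2 : a⁻¹ * b ∈ C := QuotientGroup.eq.1 hab
    rw [hC, Subgroup.mem_centralizer_iff] at h2
    have h3 : t * (a⁻¹ * b) = a⁻¹ * b * t := h2 t rfl
    have h4 : a * t * a⁻¹ = a * (t * (a⁻¹ * b)) * b⁻¹ := by group
    rw [h4, h3]
    group
  have h1 : Function.Injective fun j : Fin m => (g j : G ⧸ C) := by
    intro i j hij
    exact hinj (hcomm _ _ hij)
  have hidx : C.index ≤ m := by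
    have h5 : C.index * Nat.card C = Nat.card G := C.index_mul_card
    have h6 : 0 < Nat.card C := Nat.card_pos
    rw [← h5] at hm
    exact Nat.le_of_mul_le_mul_right hm h6
  have hbij : Function.Bijective fun j : Fin m => (g j : G ⧸ C) := by
    apply h1.bijective_of_nat_card_le
    rw [Nat.card_eq_fintype_card (α := Fin m), Fintype.card_fin]
    exact hidx
  obtain ⟨j, hj⟩ := hbij.2 (h : G ⧸ C)
  exact ⟨j, (hcomm _ _ hj).symm⟩

/-- The value of a word at two elements of a monoid. -/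
def evalW {M : Type*} [Monoid M] (a b : M) : List Bool → M
  | [] => 1
  | false :: w => a * evalW a b w
  | true :: w => b * evalW a b w

lemma map_evalW {M N : Type*} [Monoid M] [Monoid N] (f : M →* N) (a b : M) (w : List Bool) :
    f (evalW a b w) = evalW (f a) (f b) w := by
  induction w with
  | nil => exact map_one f
  | cons s w ih =>
    cases s
    · rw [evalW, evalW, map_mul, ih]
    · rw [evalW, evalW, map_mul, ih]

end Cfsg.Agent.Lib.Helper57

namespace Cfsg.Agent.Lib.Helper57.J1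

open Cfsg.Agent.Lib.Helper57 Matrix

lemma evalC_nil (ca cb : ℕ) : evalC ca cb [] = oneC := rfl

lemma evalC_false (ca cb : ℕ) (w : List Bool) :
    evalC ca cb (false :: w) = mulR ca (evalC ca cb w) := rfl

lemma evalC_true (ca cb : ℕ) (w : List Bool) :
    evalC ca cb (true :: w) = mulR cb (evalC ca cb w) := rfl

lemma testOk_spec (c : ℕ) :
    testOk c = true ↔ ∀ p ∈ tests, powC (evalC cx c p.1) p.2 = oneC := by
  simp only [testOk, List.all_eq_true, beq_iff_eq]

attribute [local irreducible] TC T nxt par pg dep f7 mulR oneC cx cy eTab eiTab ETab okPair conjC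
  conjE conjEi powC eC eCi conjIdx ct ca cb cbi KTab UTab U conjL conjOk gi evalC mTab miTab mC mCi
  wy tests testOk goodL goodC

/-- The generator `x`. -/
def xG : GL (Fin 7) (ZMod 11) := el 7

/-- The generator `x` in `J₁`. -/
def xJ : Γ := elJ 7

/-- The generator `y` in `J₁`. -/
def yJ : Γ := elJ 8

lemma coded_x : Coded xG cx := by
  have h := coded_el 7
  have h2 : eC (7 : Fin 29).val = cx := eC_x
  rw [h2] at h
  exact h

lemma coded_y : Coded (el 8) cy := by
  have h := coded_el 8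
  have h2 : eC (8 : Fin 29).val = cy := eC_y
  rw [h2] at h
  exact h

lemma orderOf_xJ : orderOf xJ = 7 := orderOf_elJ 7 7 (by norm_num) ord_7

lemma coded_evalW {a b : GL (Fin 7) (ZMod 11)} {ca cb : ℕ} (ha : Coded a ca) (hb : Coded b cb)
    (w : List Bool) : Coded (evalW a b w) (evalC ca cb w) := by
  induction w with
  | nil =>
    rw [evalW, evalC_nil]
    exact coded_one
  | cons s w ih =>
    cases s
    · rw [evalW, evalC_false]
      exact ha.mul ih
    · rw [evalW, evalC_true]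
      exact hb.mul ih

lemma coe_evalW (a b : Γ) (w : List Bool) :
    ((evalW a b w : Γ) : GL (Fin 7) (ZMod 11)) =
      evalW (a : GL (Fin 7) (ZMod 11)) (b : GL (Fin 7) (ZMod 11)) w :=
  map_evalW (Subgroup.subtype _) a b w

/-- If `s g` has the code of `c s` then `s g s⁻¹` has the code `c`. -/
lemma coded_conj_of_mul_eq {s g : GL (Fin 7) (ZMod 11)} {cs cg c : ℕ} (hs : Coded s cs)
    (hg : Coded g cg) (hc : V c) (h : mulR cs cg = mulR c cs) : Coded (s * g * s⁻¹) c := by
  refine ⟨?_, hc⟩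
  have h1 : ((s * g : GL (Fin 7) (ZMod 11)) : Matrix (Fin 7) (Fin 7) (ZMod 11)) =
      f7 c * (s : Matrix (Fin 7) (Fin 7) (ZMod 11)) := by
    rw [(hs.mul hg).1, h, f7_mul _ _ hc hs.2, hs.1]
  rw [Units.val_mul, h1, mul_assoc, Units.mul_inv, mul_one]

/-! ### The normaliser of `⟨x⟩` -/

/-- The element `mₖ₊₁`. -/
def mG (k : Fin 6) : GL (Fin 7) (ZMod 11) := mkEl (mC k.val) (mCi k.val) (m_ok k)

/-- The element `mₖ₊₁` in `J₁`. -/
def mJ (k : Fin 6) : Γ := ⟨mG k, mkEl_mem _ _ _⟩

lemma mJ_conj (k : Fin 6) : mJ k * xJ ^ (k.val + 1) * (mJ k)⁻¹ = xJ := by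
  apply Subtype.ext
  show mG k * xG ^ (k.val + 1) * (mG k)⁻¹ = xG
  have h1 : mG k * xG ^ (k.val + 1) = xG * mG k := by
    apply Coded.ext ((coded_mkEl _ _ _).mul (coded_x.pow _))
    rw [m_conj k]
    exact coded_x.mul (coded_mkEl _ _ _)
  rw [h1, mul_inv_cancel_right]

lemma card_zpowers_xJ : Nat.card (Subgroup.zpowers xJ) = 7 ^ (Nat.card Γ).factorization 7 := by
  rw [Nat.card_zpowers, orderOf_xJ, card_Γ,
    factorization_of_eq (by norm_num : Nat.Prime 7) (by norm_num : 175560 = 7 ^ 1 * 25080)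
      (by norm_num), pow_one]

lemma step1 (α : MulAut Γ) : ∃ g : Γ, g * α xJ * g⁻¹ ∈ Subgroup.zpowers xJ :=
  exists_conj_mem_of_card_eq (by norm_num : Nat.Prime 7) _ card_zpowers_xJ (α xJ)
    (by rw [MulEquiv.orderOf_eq, orderOf_xJ])

lemma step2 (β : MulAut Γ) (h : β xJ ∈ Subgroup.zpowers xJ) : ∃ m : Γ, m * β xJ * m⁻¹ = xJ := by
  have h1 : β xJ ∈ Submonoid.powers xJ := mem_powers_iff_mem_zpowers.2 h
  rw [mem_powers_iff_mem_range_orderOf, orderOf_xJ] at h1
  obtain ⟨k, hk, hkx⟩ := Finset.mem_image.1 h1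
  have hk7 : k < 7 := Finset.mem_range.1 hk
  have hkx' : xJ ^ k = β xJ := hkx
  have hk0 : k ≠ 0 := by
    rintro rfl
    rw [pow_zero] at hkx'
    have h2 : orderOf (β xJ) = 7 := by rw [MulEquiv.orderOf_eq, orderOf_xJ]
    rw [← hkx', orderOf_one] at h2
    norm_num at h2
  obtain ⟨k', rfl⟩ := Nat.exists_eq_succ_of_ne_zero hk0
  refine ⟨mJ ⟨k', by omega⟩, ?_⟩
  rw [← hkx']
  exact mJ_conj ⟨k', by omega⟩

/-! ### Involutions -/

lemma exists_conj_eq_t (u : Γ) (hu : orderOf u = 2) : ∃ h : Γ, h * u * h⁻¹ = tJ := by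
  obtain ⟨g, hg⟩ := exists_conj_mem_of_card_eq Nat.prime_two E2
    (by
      rw [card_E2, card_Γ,
        factorization_of_eq Nat.prime_two (by norm_num : 175560 = 2 ^ 3 * 21945) (by norm_num)]
      norm_num) u hu
  have hne : ((g * u * g⁻¹ : Γ) : GL (Fin 7) (ZMod 11)) ≠ 1 := by
    intro h1
    have h2 : g * u * g⁻¹ = 1 := Subtype.ext h1
    have h3 : u = 1 := by
      have : u = g⁻¹ * (g * u * g⁻¹) * g := by group
      rw [this, h2]
      group
    rw [h3, orderOf_one] at hu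
    norm_num at hu
  obtain ⟨k, hk⟩ := exists_conj_of_mem_E _ (Subgroup.mem_subgroupOf.1 hg) hne
  refine ⟨elJ k * g, ?_⟩
  have h4 : elJ k * g * u * (elJ k * g)⁻¹ = elJ k * (g * u * g⁻¹) * (elJ k)⁻¹ := by group
  rw [h4]
  exact Subtype.ext hk

lemma coded_good (j : Fin 7) :
    Coded ((xJ ^ j.val * tJ * (xJ ^ j.val)⁻¹ : Γ) : GL (Fin 7) (ZMod 11)) (goodC j.val) := by
  show Coded (xG ^ j.val * tG * (xG ^ j.val)⁻¹) (goodC j.val)
  exact coded_conj_of_mul_eq (coded_x.pow _) coded_t (validB_spec _ _ _ _ (good_valid j))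
    (good_eq j)

lemma step3 (γ : MulAut Γ) (hx : γ xJ = xJ) :
    ∃ j : Fin 7, γ tJ = xJ ^ j.val * tJ * (xJ ^ j.val)⁻¹ := by
  have hu : orderOf (γ tJ) = 2 := by rw [MulEquiv.orderOf_eq, orderOf_tJ]
  obtain ⟨h, hh⟩ := exists_conj_eq_t (γ tJ) hu
  obtain ⟨i, hi⟩ := exists_conj_eq_of_card tJ conjL.length conjG conjG_injective
    (by rw [conjL_length, card_Γ, centralizer_eq, card_KJ]) h⁻¹
  have hu1 : ∀ u : Γ, h * u * h⁻¹ = tJ → u = h⁻¹ * tJ * h⁻¹⁻¹ := by
    intro u hu'
    rw [← hu']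
    group
  have hu2 : γ tJ = conjG i * tJ * (conjG i)⁻¹ := (hu1 _ hh).trans hi
  have hc : Coded ((γ tJ : Γ) : GL (Fin 7) (ZMod 11)) (conjL.get i).1 := by
    rw [hu2]
    exact conjG_spec i
  have htest : testOk (conjL.get i).1 = true := by
    rw [testOk_spec]
    intro p hp
    have h0 := (testOk_spec ct).1 test_t p hp
    have h1 : (evalW xJ tJ p.1) ^ p.2 = 1 := by
      apply Subtype.ext
      rw [Subgroup.coe_pow, coe_evalW]
      apply Coded.ext ((coded_evalW coded_x coded_t p.1).pow p.2)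
      rw [h0]
      exact coded_one
    have h2 : (evalW xJ (γ tJ) p.1) ^ p.2 = 1 := by
      have h3 := congrArg γ h1
      rw [map_pow, map_one] at h3
      have h4 : γ (evalW xJ tJ p.1) = evalW (γ xJ) (γ tJ) p.1 :=
        map_evalW (MulEquiv.toMonoidHom γ) xJ tJ p.1
      rw [h4, hx] at h3
      exact h3
    have h5 : Coded (((evalW xJ (γ tJ) p.1) ^ p.2 : Γ) : GL (Fin 7) (ZMod 11))
        (powC (evalC cx (conjL.get i).1 p.1) p.2) := by
      rw [Subgroup.coe_pow, coe_evalW]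
      exact (coded_evalW coded_x hc p.1).pow p.2
    rw [h2] at h5
    exact h5.code_eq coded_one
  have hall := test_all
  rw [List.all_eq_true] at hall
  have h6 := hall _ (List.get_mem conjL i)
  simp only [htest, Bool.not_true, Bool.false_or, List.any_eq_true, List.mem_range,
    beq_iff_eq] at h6
  obtain ⟨j, hj7, hjc⟩ := h6
  refine ⟨⟨j, hj7⟩, ?_⟩
  apply Subtype.ext
  apply Coded.ext hc
  rw [← hjc]
  exact coded_good ⟨j, hj7⟩

lemma yJ_eq : yJ = evalW xJ tJ wy := by
  apply Subtype.ext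
  rw [coe_evalW]
  apply Coded.ext coded_y
  rw [← wy_eq]
  exact coded_evalW coded_x coded_t wy

lemma step4 (δ : MulAut Γ) (hx : δ xJ = xJ) (ht : δ tJ = tJ) : δ = 1 := by
  have hy : δ yJ = yJ := by
    have h4 : δ (evalW xJ tJ wy) = evalW (δ xJ) (δ tJ) wy :=
      map_evalW (MulEquiv.toMonoidHom δ) xJ tJ wy
    rw [yJ_eq, h4, hx, ht]
  have h := MonoidHom.eq_of_eqOn_dense closure_xy (f := MulEquiv.toMonoidHom δ)
    (g := MonoidHom.id Γ)
    (by
      rintro g (rfl | rfl)
      · exact hx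
      · exact hy)
  apply MulEquiv.ext
  intro g
  exact DFunLike.congr_fun h g

/-- Every automorphism of `J₁` is inner. -/
theorem aut_inner (α : MulAut Γ) : ∃ g : Γ, MulAut.conj g = α := by
  obtain ⟨g, hg⟩ := step1 α
  have hβ : (MulAut.conj g * α) xJ ∈ Subgroup.zpowers xJ := by
    rw [MulAut.mul_apply, MulAut.conj_apply]
    exact hg
  obtain ⟨m, hm⟩ := step2 _ hβ
  have hγ : (MulAut.conj m * (MulAut.conj g * α)) xJ = xJ := by
    rw [MulAut.mul_apply, MulAut.conj_apply]
    exact hm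
  obtain ⟨j, hj⟩ := step3 _ hγ
  have hδx : (MulAut.conj (xJ ^ j.val)⁻¹ * (MulAut.conj m * (MulAut.conj g * α))) xJ = xJ := by
    rw [MulAut.mul_apply, MulAut.conj_apply, hγ, inv_inv, mul_assoc, ← pow_mul_comm',
      inv_mul_cancel_left]
  have hδt : (MulAut.conj (xJ ^ j.val)⁻¹ * (MulAut.conj m * (MulAut.conj g * α))) tJ = tJ := by
    rw [MulAut.mul_apply, MulAut.conj_apply, hj]
    group
  have hδ := step4 _ hδx hδt
  refine ⟨((xJ ^ j.val)⁻¹ * m * g)⁻¹, ?_⟩
  have h1 : MulAut.conj ((xJ ^ j.val)⁻¹ * m * g) * α = 1 := by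
    rw [map_mul, map_mul, mul_assoc, mul_assoc]
    exact hδ
  rw [map_inv]
  exact mul_eq_one_iff_inv_eq.1 h1

/-- The outer automorphism group of `J₁` is trivial. -/
theorem card_out : Nat.card (Cfsg.Out Γ) = 1 := by
  have h : Cfsg.Inn Γ = ⊤ := by
    rw [eq_top_iff]
    intro α _
    exact aut_inner α
  show Nat.card (MulAut Γ ⧸ Cfsg.Inn Γ) = 1
  rw [← Subgroup.index_eq_card, h, Subgroup.index_top]

end Cfsg.Agent.Lib.Helper57.J1
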