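import Cfsg.Agent.Lib.Helper57.J1
import Cfsg.Agent.Lib.Helper57.DataJ1Cent
import Cfsg.Agent.Lib.Helper57.CayleyHom

set_option autoImplicit false

/-!
# The centraliser of an involution of the Janko group `J₁` is isomorphic to `C₂ × A₅`

From the checked tables of `DataJ1Cent`: the subgroup `K = ⟨t, a, b⟩` has order 120, it centralises
`t`, and the tabulated map is an isomorphism from `K` to `C₂ × A₅`; the involution `t` has at least
1463 conjugates, so that its centraliser has order at most `175560 / 1463 = 120`.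
-/

namespace Cfsg.Agent.Lib.Helper57

/-- A bound for the order of a centraliser from distinct conjugates. -/
theorem card_centralizer_mul_le {G : Type*} [Group G] [Finite G] (t : G) (m : ℕ) (g : Fin m → G)
    (hinj : Function.Injective fun j => g j * t * (g j)⁻¹) :
    m * Nat.card (Subgroup.centralizer ({t} : Set G)) ≤ Nat.card G := by
  set C := Subgroup.centralizer ({t} : Set G) with hC
  have h1 : Function.Injective fun j : Fin m => (g j : G ⧸ C) := by
    intro i j hij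
    apply hinj
    have h2 : (g i)⁻¹ * g j ∈ C := QuotientGroup.eq.1 hij
    rw [hC, Subgroup.mem_centralizer_iff] at h2
    have h3 : t * ((g i)⁻¹ * g j) = (g i)⁻¹ * g j * t := h2 t rfl
    show g i * t * (g i)⁻¹ = g j * t * (g j)⁻¹
    have h4 : g i * t * (g i)⁻¹ = g i * (t * ((g i)⁻¹ * g j)) * (g j)⁻¹ := by group
    rw [h4, h3]
    group
  have h5 : m ≤ C.index := by
    have := Nat.card_le_card_of_injective _ h1
    rwa [Nat.card_eq_fintype_card, Fintype.card_fin] at this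
  calc m * Nat.card C ≤ C.index * Nat.card C := Nat.mul_le_mul_right _ h5
    _ = Nat.card G := C.index_mul_card

namespace J1

open Cfsg.Agent.Lib.Helper57 Matrix

theorem DK_valid : DK.Valid mulR oneC := ⟨DK_sorted, DK_one, DK_next, DK_par⟩

lemma DK_n : DK.n = 120 := rfl

lemma DK_ng : DK.ng = 3 := rfl

lemma DK_i0 : DK.i0 = 6 := rfl

lemma DK_gc0 : DK.gc 0 = ct := rfl

lemma DK_gc1 : DK.gc 1 = ca := rfl

lemma DK_gc2 : DK.gc 2 = cb := rfl

lemma gi_lt : ∀ k : Fin 3, gi k.val < 120 := by decide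

lemma conjOk_spec (p : ℕ × ℕ) (h : conjOk p = true) :
    V p.1 ∧ p.2 < D.n ∧ mulR (D.T p.2) ct = mulR p.1 (D.T p.2) := by
  simp only [conjOk, Bool.and_eq_true, decide_eq_true_eq, beq_iff_eq] at h
  exact ⟨validB_spec _ _ _ _ h.1.1, h.1.2, h.2⟩

attribute [local irreducible] TC T nxt par pg dep f7 mulR oneC cx cy eTab eiTab ETab okPair conjC
  conjE conjEi powC eC eCi conjIdx ct ca cb cbi KTab UTab U conjL conjOk gi

/-- The unit with code `c` and inverse code `ci`. -/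
def mkEl (c ci : ℕ) (h : okPair c ci = true) : GL (Fin 7) (ZMod 11) :=
  ⟨f7 c, f7 ci,
    by
      obtain ⟨h1, h2, h3, _, _⟩ := okPair_spec _ _ h
      rw [← f7_mul _ _ h1 h2, h3, f7_one],
    by
      obtain ⟨h1, h2, _, h4, _⟩ := okPair_spec _ _ h
      rw [← f7_mul _ _ h2 h1, h4, f7_one]⟩

lemma coded_mkEl (c ci : ℕ) (h : okPair c ci = true) : Coded (mkEl c ci h) c :=
  ⟨rfl, (okPair_spec _ _ h).1⟩

lemma mkEl_mem (c ci : ℕ) (h : okPair c ci = true) : mkEl c ci h ∈ Cfsg.Spor.J1 :=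
  mem_J1_of_memB _ _ (coded_mkEl c ci h).1 (okPair_spec _ _ h).2.2.2.2

/-- The involution `t`. -/
def tG : GL (Fin 7) (ZMod 11) := el 1

/-- The involution `a`. -/
def aG : GL (Fin 7) (ZMod 11) := mkEl ca ca a_ok

/-- The element `b` of order 3. -/
def bG : GL (Fin 7) (ZMod 11) := mkEl cb cbi b_ok

lemma coded_t : Coded tG ct := by
  rw [ct_eq]
  exact coded_el 1

lemma coded_a : Coded aG ca := coded_mkEl _ _ _

lemma coded_b : Coded bG cb := coded_mkEl _ _ _

/-- The generators of `K`. -/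
def gK (k : ℕ) : GL (Fin 7) (ZMod 11) := if k = 0 then tG else if k = 1 then aG else bG

lemma coded_gK (k : ℕ) (hk : k < 3) : Coded (gK k) (DK.gc k) := by
  interval_cases k
  · exact coded_t
  · exact coded_a
  · exact coded_b

lemma gK_mem (k : ℕ) : gK k ∈ Cfsg.Spor.J1 := by
  rw [gK]
  split_ifs
  · exact el_mem 1
  · exact mkEl_mem _ _ _
  · exact mkEl_mem _ _ _

lemma gK_comm (k : ℕ) : tG * gK k = gK k * tG := by
  rw [gK]
  split_ifs
  · rfl
  · apply Coded.ext (coded_t.mul coded_a)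
    rw [comm_a]
    exact coded_a.mul coded_t
  · apply Coded.ext (coded_t.mul coded_b)
    rw [comm_b]
    exact coded_b.mul coded_t

/-- The subgroup `K` of order 120. -/
def K : Subgroup (GL (Fin 7) (ZMod 11)) := Subgroup.closure {u | ∃ k < 3, u = gK k}

lemma valid_TK (i : ℕ) (hi : i < DK.n) : V (DK.T i) :=
  validB_spec _ _ _ _ (DK_valid_T ⟨i, hi⟩)

lemma hmulK : ∀ i < DK.n, ∀ k < DK.ng,
    f7 (mulR (DK.T i) (DK.gc k)) = f7 (DK.T i) * f7 (DK.gc k) := by
  intro i hi k hk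
  exact f7_mul _ _ (valid_TK i hi) (coded_gK k hk).2

lemma genSetK_eq :
    Units.val '' ({u | ∃ k < 3, u = gK k} : Set (GL (Fin 7) (ZMod 11))) = DK.genSet f7 := by
  ext y
  constructor
  · rintro ⟨u, ⟨k, hk, rfl⟩, rfl⟩
    exact ⟨k, hk, (coded_gK k hk).1⟩
  · rintro ⟨k, hk, rfl⟩
    exact ⟨gK k, ⟨k, hk, rfl⟩, (coded_gK k hk).1⟩

lemma mem_K_iff (u : GL (Fin 7) (ZMod 11)) :
    u ∈ K ↔ ∃ i, i < DK.n ∧ (u : Matrix (Fin 7) (Fin 7) (ZMod 11)) = f7 (DK.T i) :=
  DK_valid.mem_closure_units_iff_of_table f7 hmulK f7_one _ genSetK_eq u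

lemma f7_TK_inj : ∀ i < DK.n, ∀ j < DK.n, f7 (DK.T i) = f7 (DK.T j) → i = j := by
  intro i hi j hj h
  exact DK_valid.T_inj i j hi hj (f7_inj _ _ (valid_TK i hi) (valid_TK j hj) h)

lemma card_K : Nat.card K = 120 :=
  DK_valid.card_closure_of_table f7 hmulK f7_one _ genSetK_eq f7_TK_inj

lemma K_le : K ≤ Cfsg.Spor.J1 := by
  rw [K, Subgroup.closure_le]
  rintro g ⟨k, _, rfl⟩
  exact gK_mem k

lemma K_le_centralizer : K ≤ Subgroup.centralizer {tG} := by
  rw [K, Subgroup.closure_le]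
  rintro g ⟨k, _, rfl⟩
  rw [SetLike.mem_coe, Subgroup.mem_centralizer_iff]
  rintro h rfl
  exact gK_comm k

/-! ### The isomorphism of `K` with `C₂ × A₅` -/

/-- The generators, in the subgroup. -/
def gensK : Set K := {x | (x : GL (Fin 7) (ZMod 11)) ∈
  ({u | ∃ k < 3, u = gK k} : Set (GL (Fin 7) (ZMod 11)))}

lemma closure_gensK : Submonoid.closure gensK = ⊤ :=
  mclosure_subgroup_closure_eq_top _

lemma idxK_spec (u : K) :
    DK.idx f7 (u : GL (Fin 7) (ZMod 11)) < DK.n ∧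
      ((u : GL (Fin 7) (ZMod 11)) : Matrix (Fin 7) (Fin 7) (ZMod 11)) =
        f7 (DK.T (DK.idx f7 (u : GL (Fin 7) (ZMod 11)))) :=
  DK.idx_spec f7 _ ((mem_K_iff _).1 u.2)

lemma idxK_eq (u : GL (Fin 7) (ZMod 11)) (j : ℕ) (hj : j < DK.n)
    (hu : (u : Matrix (Fin 7) (Fin 7) (ZMod 11)) = f7 (DK.T j)) : DK.idx f7 u = j :=
  DK.idx_unique f7 f7_TK_inj u j hj hu

/-- The map to `C₂ × S₅`. -/
noncomputable def phi0 (u : K) : Multiplicative (ZMod 2) × Equiv.Perm (Fin 5) :=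
  (sgnOf (U (DK.idx f7 (u : GL (Fin 7) (ZMod 11)))),
    permOf (U (DK.idx f7 (u : GL (Fin 7) (ZMod 11)))))

lemma idxK_one : DK.idx f7 (1 : GL (Fin 7) (ZMod 11)) = 6 := by
  apply idxK_eq _ 6 (by decide)
  rw [Units.val_one]
  have : DK.T 6 = oneC := DK_valid.T_i0
  rw [this, f7_one]

lemma idxK_gK (k : ℕ) (hk : k < 3) : DK.idx f7 (gK k) = gi k := by
  apply idxK_eq _ _ (gi_lt ⟨k, hk⟩)
  rw [(coded_gK k hk).1]
  have : DK.T (gi k) = DK.gc k := DK_T_gi ⟨k, hk⟩
  rw [this]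

lemma phi0_one : phi0 1 = 1 := by
  rw [phi0]
  show (sgnOf (U (DK.idx f7 (1 : GL (Fin 7) (ZMod 11)))),
    permOf (U (DK.idx f7 (1 : GL (Fin 7) (ZMod 11))))) = 1
  rw [idxK_one]
  exact Prod.ext U_one.1 U_one.2

set_option maxRecDepth 20000 in
lemma phi0_mul_gen (g s : K) (hs : s ∈ gensK) : phi0 (g * s) = phi0 g * phi0 s := by
  obtain ⟨hi, hg⟩ := idxK_spec g
  have hi' : DK.idx f7 (g : GL (Fin 7) (ZMod 11)) < 120 := hi
  obtain ⟨k, hk, hsk⟩ := hs
  obtain ⟨h1, h3⟩ := DK_valid.nxt_spec _ k hi hk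
  have hidx : DK.idx f7 ((g * s : K) : GL (Fin 7) (ZMod 11)) =
      DK.nxt (DK.idx f7 (g : GL (Fin 7) (ZMod 11))) k := by
    apply idxK_eq _ _ h1
    rw [Subgroup.coe_mul, Units.val_mul, hg, hsk, (coded_gK k hk).1, ← h3,
      f7_mul _ _ (valid_TK _ hi) (coded_gK k hk).2]
  have hidxs : DK.idx f7 (s : GL (Fin 7) (ZMod 11)) = gi k := by
    rw [hsk]
    exact idxK_gK k hk
  obtain ⟨hU1, hU2⟩ := U_hom ⟨_, hi'⟩ ⟨k, hk⟩
  rw [phi0, phi0, phi0, hidx, hidxs, Prod.mk_mul_mk]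
  have hU1' : sgnOf (U (DK.nxt (DK.idx f7 (g : GL (Fin 7) (ZMod 11))) k)) =
      sgnOf (U (DK.idx f7 (g : GL (Fin 7) (ZMod 11)))) * sgnOf (U (gi k)) := hU1
  have hU2' : permOf (U (DK.nxt (DK.idx f7 (g : GL (Fin 7) (ZMod 11))) k)) =
      permOf (U (DK.idx f7 (g : GL (Fin 7) (ZMod 11)))) * permOf (U (gi k)) := hU2
  rw [hU1', hU2']

/-- The homomorphism to `C₂ × S₅`. -/
noncomputable def PhiS : K →* Multiplicative (ZMod 2) × Equiv.Perm (Fin 5) :=
  homOfClosure phi0 gensK closure_gensK phi0_one phi0_mul_gen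

lemma PhiS_apply (u : K) : PhiS u = phi0 u := rfl

lemma sign_PhiS (u : K) : Equiv.Perm.sign (PhiS u).2 = 1 := by
  apply forall_of_closure_eq_top gensK closure_gensK (fun u => Equiv.Perm.sign (PhiS u).2 = 1)
  · rw [map_one]
    exact map_one _
  · rintro s ⟨k, hk, hsk⟩
    show Equiv.Perm.sign (phi0 s).2 = 1
    rw [phi0]
    show Equiv.Perm.sign (permOf (U (DK.idx f7 (s : GL (Fin 7) (ZMod 11))))) = 1
    rw [hsk, idxK_gK k hk]
    exact U_sign ⟨k, hk⟩
  · intro x y hx hy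
    show Equiv.Perm.sign (PhiS (x * y)).2 = 1
    rw [map_mul, Prod.snd_mul, map_mul, hx, hy, mul_one]

/-- The homomorphism to `C₂ × A₅`. -/
noncomputable def PhiA : K →* Multiplicative (ZMod 2) × ↥(alternatingGroup (Fin 5)) :=
  MonoidHom.prod ((MonoidHom.fst _ _).comp PhiS)
    (((MonoidHom.snd _ _).comp PhiS).codRestrict (alternatingGroup (Fin 5))
      (fun u => Equiv.Perm.mem_alternatingGroup.2 (sign_PhiS u)))

set_option maxRecDepth 20000 in
lemma PhiA_injective : Function.Injective PhiA := by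
  rw [injective_iff_map_eq_one]
  intro u hu
  have h1 : (PhiS u).1 = 1 := congrArg Prod.fst hu
  have h2 : (PhiS u).2 = 1 := congrArg (fun z => (z.2 : Equiv.Perm (Fin 5))) hu
  rw [PhiS_apply, phi0] at h1 h2
  obtain ⟨hi, hg⟩ := idxK_spec u
  have hi' : DK.idx f7 (u : GL (Fin 7) (ZMod 11)) < 120 := hi
  have h1' : sgnOf (U (DK.idx f7 (u : GL (Fin 7) (ZMod 11)))) = 1 := h1
  have h2' : permOf (U (DK.idx f7 (u : GL (Fin 7) (ZMod 11)))) = 1 := h2
  have h3 : DK.idx f7 (u : GL (Fin 7) (ZMod 11)) = 6 := U_ker ⟨_, hi'⟩ ⟨h1', h2'⟩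
  apply Subtype.ext
  apply Units.ext
  rw [hg, h3]
  have : DK.T 6 = oneC := DK_valid.T_i0
  rw [this, f7_one]
  rfl

lemma card_target : Nat.card (Multiplicative (ZMod 2) × ↥(alternatingGroup (Fin 5))) = 120 := by
  rw [Nat.card_prod, nat_card_alternatingGroup, Nat.card_eq_fintype_card (α := Fin 5),
    Fintype.card_fin]
  have : Nat.card (Multiplicative (ZMod 2)) = 2 := by
    rw [Nat.card_eq_fintype_card]
    rfl
  rw [this]
  decide

/-- The isomorphism of `K` with `C₂ × A₅`. -/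
theorem exists_equiv_K : Nonempty (K ≃* Multiplicative (ZMod 2) × ↥(alternatingGroup (Fin 5))) := by
  have : Finite (Multiplicative (ZMod 2) × ↥(alternatingGroup (Fin 5))) := inferInstance
  have hbij : Function.Bijective PhiA :=
    PhiA_injective.bijective_of_nat_card_le (by rw [card_target, card_K])
  exact ⟨MulEquiv.ofBijective PhiA hbij⟩

/-! ### The centraliser -/

/-- The involution `t` in `J₁`. -/
def tJ : Γ := elJ 1

lemma orderOf_tJ : orderOf tJ = 2 := orderOf_elJ 1 2 Nat.prime_two ord_t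

/-- `K` as a subgroup of `J₁`. -/
def KJ : Subgroup Γ := K.subgroupOf Cfsg.Spor.J1

lemma card_KJ : Nat.card KJ = 120 := by
  rw [KJ, Nat.card_congr (Subgroup.subgroupOfEquivOfLe K_le).toEquiv, card_K]

lemma KJ_le : KJ ≤ Subgroup.centralizer {tJ} := by
  intro u hu
  have h1 : (u : GL (Fin 7) (ZMod 11)) ∈ Subgroup.centralizer {tG} :=
    K_le_centralizer (Subgroup.mem_subgroupOf.1 hu)
  rw [Subgroup.mem_centralizer_iff] at h1 ⊢
  rintro h rfl
  apply Subtype.ext
  exact h1 tG rfl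

lemma conjL_get (j : Fin conjL.length) : conjOk (conjL.get j) = true := by
  have := conjL_ok
  rw [List.all_eq_true] at this
  exact this _ (List.get_mem _ _)

lemma exists_conj (j : Fin conjL.length) :
    ∃ g : Γ, Coded ((g * tJ * g⁻¹ : Γ) : GL (Fin 7) (ZMod 11)) (conjL.get j).1 := by
  obtain ⟨hv, hlt, hm⟩ := conjOk_spec _ (conjL_get j)
  obtain ⟨u, hu, huT⟩ := D_valid.exists_unit_of_table f7 hmul f7_one _ genSet_eq _ hlt
  refine ⟨⟨u, hu⟩, ?_, hv⟩
  have hcu : Coded u (D.T (conjL.get j).2) := ⟨huT, valid_T _ hlt⟩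
  have h1 : ((u * tG : GL (Fin 7) (ZMod 11)) : Matrix (Fin 7) (Fin 7) (ZMod 11)) =
      f7 (conjL.get j).1 * (u : Matrix (Fin 7) (Fin 7) (ZMod 11)) := by
    rw [(hcu.mul coded_t).1, hm, f7_mul _ _ hv hcu.2, hcu.1]
  show ((u * tG * u⁻¹ : GL (Fin 7) (ZMod 11)) : Matrix (Fin 7) (Fin 7) (ZMod 11)) =
    f7 (conjL.get j).1
  rw [Units.val_mul, h1, mul_assoc, Units.mul_inv, mul_one]

/-- The conjugating elements. -/
noncomputable def conjG (j : Fin conjL.length) : Γ := Classical.choose (exists_conj j)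

lemma conjG_spec (j : Fin conjL.length) :
    Coded ((conjG j * tJ * (conjG j)⁻¹ : Γ) : GL (Fin 7) (ZMod 11)) (conjL.get j).1 :=
  Classical.choose_spec (exists_conj j)

lemma conjL_lt (i j : Fin conjL.length) (hij : i < j) : (conjL.get i).1 < (conjL.get j).1 := by
  have : Trans (fun p q : ℕ × ℕ => p.1 < q.1) (fun p q : ℕ × ℕ => p.1 < q.1)
      (fun p q : ℕ × ℕ => p.1 < q.1) := ⟨fun h1 h2 => lt_trans h1 h2⟩
  have h := List.isChain_iff_pairwise.1 conjL_sorted
  rw [List.pairwise_iff_get] at h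
  exact h i j hij

lemma conjG_injective : Function.Injective fun j => conjG j * tJ * (conjG j)⁻¹ := by
  intro i j hij
  have hij' : conjG i * tJ * (conjG i)⁻¹ = conjG j * tJ * (conjG j)⁻¹ := hij
  have h2 := conjG_spec j
  rw [← hij'] at h2
  have h3 : (conjL.get i).1 = (conjL.get j).1 := (conjG_spec i).code_eq h2
  rcases lt_trichotomy i j with h | h | h
  · exact absurd h3 (conjL_lt i j h).ne
  · exact h
  · exact absurd h3 (conjL_lt j i h).ne'

lemma card_centralizer_le : Nat.card (Subgroup.centralizer ({tJ} : Set Γ)) ≤ 120 := by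
  have h := card_centralizer_mul_le tJ conjL.length conjG conjG_injective
  rw [conjL_length, card_Γ] at h
  omega

/-- The centraliser of `t` is `K`. -/
theorem centralizer_eq : Subgroup.centralizer ({tJ} : Set Γ) = KJ :=
  (Subgroup.eq_of_le_of_card_ge KJ_le (by rw [card_KJ]; exact card_centralizer_le)).symm

/-- The centraliser of `t` is isomorphic to `C₂ × A₅`. -/
theorem exists_equiv_centralizer :
    Nonempty (↥(Subgroup.centralizer ({tJ} : Set Γ)) ≃*
      Multiplicative (ZMod 2) × ↥(alternatingGroup (Fin 5))) := by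
  obtain ⟨e⟩ := exists_equiv_K
  exact ⟨(MulEquiv.subgroupCongr centralizer_eq).trans
    ((Subgroup.subgroupOfEquivOfLe K_le).trans e)⟩

end J1

end Cfsg.Agent.Lib.Helper57
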