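import Cfsg.Agent.Lib.Helper57.J1Cent
import Cfsg.Agent.Lib.Helper57.DataJ1Mult
import Cfsg.Agent.Lib.Helper57.StemAbelian
import Cfsg.Prelude.Def_KGroupFacts

set_option autoImplicit false

/-!
# The Schur multiplier of the Janko group `J₁` is trivial

The Sylow subgroups of `J₁` are abelian: cyclic for the odd primes, elementary abelian of order 8 for
the prime 2, normalised by an element of order 7 permuting its involutions transitively.  In a stem
extension their preimages are abelian (`comm_comap_of_isCyclic`, `comm_of_singer`), and the transfer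
into these preimages shows that every element of the kernel is killed by the six indices
`175560 / pᵃ`, which are coprime.
-/

namespace Cfsg.Agent.Lib.Helper57

lemma cj_mod {G : Type*} [Group G] (s a : G) (n : ℕ) (hn : s ^ n ∈ Subgroup.center G) (i : ℕ) :
    cj s a i = cj s a (i % n) := by
  rcases Nat.eq_zero_or_pos n with rfl | hn0
  · rw [Nat.mod_zero]
  induction i using Nat.strong_induction_on with
  | _ i ih =>
    by_cases hi : i < n
    · rw [Nat.mod_eq_of_lt hi]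
    · obtain ⟨e, rfl⟩ : ∃ e, i = e + n := ⟨i - n, by omega⟩
      rw [cj_add_of_central s a n hn e, Nat.add_mod_right]
      exact ih e (by omega)

namespace J1

open Cfsg.Agent.Lib.Helper57 Matrix
open scoped commutatorElement

lemma aC_eq (i : ℕ) : aC i = conjC (powC cs i) (powC csi i) ct := rfl

attribute [local irreducible] TC T nxt par pg dep f7 mulR oneC cx cy eTab eiTab ETab okPair conjC
  conjE conjEi powC eC eCi conjIdx ct ca cb cbi KTab UTab U conjL conjOk gi aC cs csi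

/-- The element `s` of order 7. -/
def sG : GL (Fin 7) (ZMod 11) := mkEl cs csi s_ok

/-- The element `s` in `J₁`. -/
def sJ : Γ := ⟨sG, mkEl_mem _ _ _⟩

lemma coded_s : Coded sG cs := coded_mkEl _ _ _

lemma coded_s_inv : Coded sG⁻¹ csi := ⟨rfl, (okPair_spec _ _ s_ok).2.1⟩

lemma sJ_pow : sJ ^ 7 = 1 := by
  apply Subtype.ext
  show sG ^ 7 = 1
  apply Coded.ext (coded_s.pow 7)
  rw [s_pow]
  exact coded_one

lemma coded_aC (i : ℕ) : Coded (cj sG tG i) (aC i) := by
  rw [cj, aC_eq, conjC_eq, ← inv_pow]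
  exact ((coded_s.pow i).mul coded_t).mul (coded_s_inv.pow i)

lemma coe_cj (i : ℕ) : ((cj sJ tJ i : Γ) : GL (Fin 7) (ZMod 11)) = cj sG tG i :=
  map_cj (Subgroup.subtype _) sJ tJ i

lemma sJ_pow_mem : sJ ^ 7 ∈ Subgroup.center Γ := by
  rw [sJ_pow]
  exact one_mem _

lemma aJ_comm_lt (i j : ℕ) (hi : i < 7) (hj : j < 7) :
    cj sJ tJ i * cj sJ tJ j = cj sJ tJ j * cj sJ tJ i := by
  apply Subtype.ext
  rw [Subgroup.coe_mul, Subgroup.coe_mul, coe_cj, coe_cj]
  apply Coded.ext ((coded_aC i).mul (coded_aC j))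
  rw [a_comm ⟨i, hi⟩ ⟨j, hj⟩]
  exact (coded_aC j).mul (coded_aC i)

lemma aJ_comm (i j : ℕ) : cj sJ tJ i * cj sJ tJ j = cj sJ tJ j * cj sJ tJ i := by
  rw [cj_mod sJ tJ 7 sJ_pow_mem i, cj_mod sJ tJ 7 sJ_pow_mem j]
  exact aJ_comm_lt _ _ (Nat.mod_lt _ (by norm_num)) (Nat.mod_lt _ (by norm_num))

lemma aJ_rel : cj sJ tJ 0 * cj sJ tJ 1 = cj sJ tJ 3 := by
  apply Subtype.ext
  rw [Subgroup.coe_mul, coe_cj, coe_cj, coe_cj]
  apply Coded.ext ((coded_aC 0).mul (coded_aC 1))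
  rw [a_rel]
  exact coded_aC 3

lemma E2_elems (u : Γ) (hu : u ∈ E2) : u = 1 ∨ ∃ i, u = cj sJ tJ i := by
  obtain ⟨k, hk, huk⟩ := (mem_E_iff _).1 (Subgroup.mem_subgroupOf.1 hu)
  have hk' : k < 8 := hk
  have hc : Coded (u : GL (Fin 7) (ZMod 11)) (DE.T k) := ⟨huk, valid_TE k hk⟩
  rcases E_elems ⟨k, hk'⟩ with h1 | ⟨i, hi⟩
  · left
    apply Subtype.ext
    apply Coded.ext hc
    have h1' : DE.T k = oneC := h1
    rw [h1']
    exact coded_one
  · right
    refine ⟨i.val, ?_⟩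
    apply Subtype.ext
    rw [coe_cj]
    apply Coded.ext hc
    have hi' : DE.T k = aC i.val := hi
    rw [hi']
    exact coded_aC i.val

/-- The preimage of the Sylow 2-subgroup in a central extension is abelian. -/
lemma comm_comap_E2 {Γ' : Type*} [Group Γ'] (σ : Γ' →* Γ) (hsurj : Function.Surjective σ)
    (hcen : σ.ker ≤ Subgroup.center Γ') (q1 q2 : E2.comap σ) : q1 * q2 = q2 * q1 := by
  obtain ⟨s', hs'⟩ := hsurj sJ
  obtain ⟨a', ha'⟩ := hsurj tJ
  have hmap : ∀ i, σ (cj s' a' i) = cj sJ tJ i := fun i => by rw [map_cj, hs', ha']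
  have h7 : s' ^ 7 ∈ Subgroup.center Γ' :=
    hcen (by rw [MonoidHom.mem_ker, map_pow, hs', sJ_pow])
  have hc : ∀ i j, ⁅cj s' a' i, cj s' a' j⁆ ∈ Subgroup.center Γ' := by
    intro i j
    apply hcen
    rw [MonoidHom.mem_ker, map_commutatorElement, hmap, hmap]
    exact commutatorElement_eq_one_iff_mul_comm.2 (aJ_comm i j)
  have hr : ∃ z ∈ Subgroup.center Γ', cj s' a' 0 * cj s' a' 1 = cj s' a' 3 * z := by
    refine ⟨(cj s' a' 3)⁻¹ * (cj s' a' 0 * cj s' a' 1), hcen ?_, by group⟩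
    rw [MonoidHom.mem_ker, map_mul, map_inv, map_mul, hmap, hmap, hmap, aJ_rel, inv_mul_cancel]
  have hb := comm_of_singer s' a' h7 hc hr
  have hdec : ∀ q : Γ', σ q ∈ E2 → ∃ w z : Γ', q = w * z ∧ z ∈ Subgroup.center Γ' ∧
      (w = 1 ∨ ∃ i, w = cj s' a' i) := by
    intro q hq
    rcases E2_elems _ hq with h1 | ⟨i, hi⟩
    · exact ⟨1, q, (one_mul q).symm, hcen (MonoidHom.mem_ker.2 h1), Or.inl rfl⟩
    · refine ⟨cj s' a' i, (cj s' a' i)⁻¹ * q, by group, hcen ?_, Or.inr ⟨i, rfl⟩⟩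
      rw [MonoidHom.mem_ker, map_mul, map_inv, hmap, hi, inv_mul_cancel]
  obtain ⟨w1, z1, e1, hz1, hw1⟩ := hdec q1 q1.2
  obtain ⟨w2, z2, e2, hz2, hw2⟩ := hdec q2 q2.2
  have hww : Commute w1 w2 := by
    rcases hw1 with rfl | ⟨i, rfl⟩ <;> rcases hw2 with rfl | ⟨j, rfl⟩
    · exact Commute.refl 1
    · exact Commute.one_left _
    · exact Commute.one_right _
    · exact hb i j
  rw [Subgroup.mem_center_iff] at hz1 hz2
  have c1 : ∀ g, Commute z1 g := fun g => (hz1 g).symm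
  have c2 : ∀ g, Commute g z2 := fun g => hz2 g
  apply Subtype.ext
  show (q1 : Γ') * q2 = q2 * q1
  rw [e1, e2]
  exact ((hww.mul_right (c2 w1)).mul_left (c1 _)).eq

/-- An element of the kernel of a stem extension is killed by the index of a subgroup with abelian
preimage. -/
lemma pow_index_eq_one {Γ' : Type*} [Group Γ'] [Finite Γ'] (σ : Γ' →* Γ)
    (hσ : Cfsg.IsStemExtension σ) (A : Subgroup Γ) (hA : ∀ a b : A.comap σ, a * b = b * a)
    (n : ℕ) (hn : n * Nat.card A = 175560) (z : Γ') (hz : z ∈ σ.ker) : z ^ n = 1 := by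
  obtain ⟨hsurj, hcen, hcomm⟩ := hσ
  have h1 := pow_index_eq_one_of_comm (A.comap σ) hA z (hcen hz) (hcomm hz)
  rw [Subgroup.index_comap_of_surjective A hsurj] at h1
  have h2 : A.index * Nat.card A = 175560 := by rw [A.index_mul_card, card_Γ]
  have h3 : 0 < Nat.card A := Nat.card_pos
  have h4 : A.index = n := Nat.eq_of_mul_eq_mul_right h3 (h2.trans hn.symm)
  rwa [h4] at h1

lemma pow_index_eq_one_cyclic {Γ' : Type*} [Group Γ'] [Finite Γ'] (σ : Γ' →* Γ)
    (hσ : Cfsg.IsStemExtension σ) (g : Γ) (p : ℕ) (hg : orderOf g = p)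
    (n : ℕ) (hn : n * p = 175560) (z : Γ') (hz : z ∈ σ.ker) : z ^ n = 1 := by
  apply pow_index_eq_one σ hσ (Subgroup.zpowers g)
    (fun a b => comm_comap_of_isCyclic σ hσ.2.1 (Subgroup.zpowers g) a b) n _ z hz
  rw [Nat.card_zpowers, hg, hn]

/-- The kernel of a finite stem extension of `J₁` is trivial. -/
theorem ker_eq_bot {Γ' : Type*} [Group Γ'] [Finite Γ'] (σ : Γ' →* Γ)
    (hσ : Cfsg.IsStemExtension σ) : σ.ker = ⊥ := by
  rw [eq_bot_iff]
  intro z hz
  rw [Subgroup.mem_bot]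
  have h2 : z ^ 21945 = 1 :=
    pow_index_eq_one σ hσ E2 (comm_comap_E2 σ hσ.1 hσ.2.1) 21945 (by rw [card_E2]) z hz
  have h3 : z ^ 58520 = 1 :=
    pow_index_eq_one_cyclic σ hσ (elJ 4) 3 (orderOf_elJ 4 3 Nat.prime_three ord_3) 58520
      (by norm_num) z hz
  have h5 : z ^ 35112 = 1 :=
    pow_index_eq_one_cyclic σ hσ (elJ 8) 5 (orderOf_elJ 8 5 Nat.prime_five ord_5) 35112
      (by norm_num) z hz
  have h7 : z ^ 25080 = 1 :=
    pow_index_eq_one_cyclic σ hσ (elJ 7) 7 (orderOf_elJ 7 7 (by norm_num) ord_7) 25080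
      (by norm_num) z hz
  have h11 : z ^ 15960 = 1 :=
    pow_index_eq_one_cyclic σ hσ (elJ 5) 11 (orderOf_elJ 5 11 (by norm_num) ord_11) 15960
      (by norm_num) z hz
  have h19 : z ^ 9240 = 1 :=
    pow_index_eq_one_cyclic σ hσ (elJ 6) 19 (orderOf_elJ 6 19 (by norm_num) ord_19) 9240
      (by norm_num) z hz
  have d := Nat.dvd_gcd (Nat.dvd_gcd (Nat.dvd_gcd (orderOf_dvd_of_pow_eq_one h2)
    (orderOf_dvd_of_pow_eq_one h3)) (Nat.dvd_gcd (orderOf_dvd_of_pow_eq_one h5)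
    (orderOf_dvd_of_pow_eq_one h7))) (Nat.dvd_gcd (orderOf_dvd_of_pow_eq_one h11)
    (orderOf_dvd_of_pow_eq_one h19))
  have hg : Nat.gcd (Nat.gcd (Nat.gcd 21945 58520) (Nat.gcd 35112 25080))
      (Nat.gcd 15960 9240) = 1 := by decide
  rw [hg, Nat.dvd_one] at d
  exact orderOf_eq_one_iff.1 d

/-- The Schur multiplier of `J₁` is trivial. -/
theorem hasSchurMultiplier : Cfsg.HasCyclicSchurMultiplier Γ 1 := by
  refine ⟨⟨Γ, inferInstance, inferInstance, MonoidHom.id Γ,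
    ⟨Function.surjective_id, ?_, ?_⟩, ⟨?_⟩⟩, ?_⟩
  · intro x hx
    have : x = 1 := hx
    rw [this]
    exact one_mem _
  · intro x hx
    have : x = 1 := hx
    rw [this]
    exact one_mem _
  · exact
      { toFun := fun _ => 1
        invFun := fun _ => 1
        left_inv := fun x => by
          apply Subtype.ext
          have : (x : Γ) = 1 := x.2
          rw [this]
          rfl
        right_inv := fun x => Subsingleton.elim _ _
        map_mul' := fun _ _ => (one_mul 1).symm }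
  · intro Γ' _ _ σ hσ
    refine ⟨1, ?_⟩
    intro x
    refine ⟨1, ?_⟩
    apply Subtype.ext
    have h1 : (x : Γ') = 1 := Subgroup.mem_bot.1 ((ker_eq_bot σ hσ).le x.2)
    rw [h1]
    rfl

end J1

end Cfsg.Agent.Lib.Helper57
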