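import Mathlib.LinearAlgebra.Matrix.SpecialLinearGroup
import Mathlib.GroupTheory.QuotientGroup.Basic
import Mathlib.Tactic
import Cfsg.Agent.Lib.Helper57.QuadMat2

set_option autoImplicit false

/-!
# List groups of `2 × 2` matrices as subgroups of `SL₂`
-/

namespace Cfsg.Agent.Lib.Helper57

open Matrix

variable {R : Type*} [CommRing R]

lemma adj2_eq_adjugate (X : Matrix (Fin 2) (Fin 2) R) : adj2 X = adjugate X := by
  ext i j
  fin_cases i <;> fin_cases j <;> simp [adj2, Matrix.adjugate_fin_two]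

namespace IsListGroup

variable {L : List (Matrix (Fin 2) (Fin 2) R)}

lemma det_eq_one (h : IsListGroup L adj2) (x : Matrix (Fin 2) (Fin 2) R) (hx : x ∈ L) :
    x.det = 1 := by
  have h1 := h.mul_inv x hx
  rw [adj2_eq_adjugate, Matrix.mul_adjugate] at h1
  have h2 := congrFun (congrFun h1 0) 0
  simpa using h2

/-- The subgroup of `SL₂` given by a list of matrices. -/
def slSubgroup (h : IsListGroup L adj2) : Subgroup (SpecialLinearGroup (Fin 2) R) where
  carrier := {g | (g : Matrix (Fin 2) (Fin 2) R) ∈ L}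
  mul_mem' := fun {a b} ha hb => by
    change ((a * b : SpecialLinearGroup (Fin 2) R) : Matrix (Fin 2) (Fin 2) R) ∈ L
    rw [SpecialLinearGroup.coe_mul]
    exact h.mul_mem _ ha _ hb
  one_mem' := by
    change ((1 : SpecialLinearGroup (Fin 2) R) : Matrix (Fin 2) (Fin 2) R) ∈ L
    rw [SpecialLinearGroup.coe_one]
    exact h.one_mem
  inv_mem' := fun {a} ha => by
    change ((a⁻¹ : SpecialLinearGroup (Fin 2) R) : Matrix (Fin 2) (Fin 2) R) ∈ L
    rw [SpecialLinearGroup.coe_inv, ← adj2_eq_adjugate]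
    exact h.inv_mem _ ha

lemma mem_slSubgroup (h : IsListGroup L adj2) (g : SpecialLinearGroup (Fin 2) R) :
    g ∈ h.slSubgroup ↔ (g : Matrix (Fin 2) (Fin 2) R) ∈ L := Iff.rfl

/-- The elements of the list as elements of the subgroup. -/
def toSL (h : IsListGroup L adj2) (x : Matrix (Fin 2) (Fin 2) R) (hx : x ∈ L) : h.slSubgroup :=
  ⟨⟨x, h.det_eq_one x hx⟩, hx⟩

lemma card_slSubgroup (h : IsListGroup L adj2) (hnd : L.Nodup) :
    Nat.card h.slSubgroup = L.length := by
  classical
  let e : h.slSubgroup ≃ {x // x ∈ L.toFinset} :=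
    { toFun := fun g => ⟨((g : SpecialLinearGroup (Fin 2) R) : Matrix (Fin 2) (Fin 2) R),
        List.mem_toFinset.2 g.2⟩
      invFun := fun x => h.toSL x.1 (List.mem_toFinset.1 x.2)
      left_inv := fun g => rfl
      right_inv := fun x => rfl }
  rw [Nat.card_congr e, Nat.card_eq_fintype_card, Fintype.card_coe, List.toFinset_card_of_nodup hnd]

end IsListGroup

/-- Nodup for the list of matrices with given codes. -/
lemma nodup_map_fC (p d : ℕ) (hp : 0 < p) (C : List ℕ) (hnd : C.Nodup)
    (hC : ∀ c ∈ C, NM2.enc p (NM2.dec p c) = c) : (C.map (fC p d)).Nodup := by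
  rw [List.nodup_map_iff_inj_on hnd]
  intro a ha b hb hab
  have h1 : NM2.dec p a = NM2.dec p b :=
    NM2.toM_injOn p d _ _ (NM2.dec_reduced p hp a) (NM2.dec_reduced p hp b) hab
  rw [← hC a ha, ← hC b hb, h1]

end Cfsg.Agent.Lib.Helper57
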