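import Mathlib.LinearAlgebra.Matrix.SpecialLinearGroup
import Mathlib.Tactic
import Cfsg.Agent.Lib.Helper57.ListGroup

set_option autoImplicit false

/-!
# List groups of matrices of determinant one as subgroups of `SLₙ`
-/

namespace Cfsg.Agent.Lib.Helper57

open Matrix

variable {n : Type*} [Fintype n] [DecidableEq n] {R : Type*} [CommRing R]

namespace IsListGroup

variable {L : List (Matrix n n R)} {inv : Matrix n n R → Matrix n n R}

/-- The subgroup of `SLₙ` given by a list of matrices. -/
def slnSubgroup (h : IsListGroup L inv) : Subgroup (SpecialLinearGroup n R) where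
  carrier := {g | (g : Matrix n n R) ∈ L}
  mul_mem' := fun {a b} ha hb => by
    change ((a * b : SpecialLinearGroup n R) : Matrix n n R) ∈ L
    rw [Matrix.SpecialLinearGroup.coe_mul]
    exact h.mul_mem _ ha _ hb
  one_mem' := by
    change ((1 : SpecialLinearGroup n R) : Matrix n n R) ∈ L
    rw [Matrix.SpecialLinearGroup.coe_one]
    exact h.one_mem
  inv_mem' := fun {a} ha => by
    change ((a⁻¹ : SpecialLinearGroup n R) : Matrix n n R) ∈ L
    have h1 : (a : Matrix n n R) * ((a⁻¹ : SpecialLinearGroup n R) : Matrix n n R) = 1 := by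
      rw [← Matrix.SpecialLinearGroup.coe_mul, mul_inv_cancel, Matrix.SpecialLinearGroup.coe_one]
    have h2 : ((a⁻¹ : SpecialLinearGroup n R) : Matrix n n R) = inv (a : Matrix n n R) := by
      calc ((a⁻¹ : SpecialLinearGroup n R) : Matrix n n R)
          = (inv (a : Matrix n n R) * (a : Matrix n n R)) *
              ((a⁻¹ : SpecialLinearGroup n R) : Matrix n n R) := by
            rw [h.inv_mul _ ha, one_mul]
        _ = inv (a : Matrix n n R) := by rw [mul_assoc, h1, mul_one]
    rw [h2]
    exact h.inv_mem _ ha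

lemma mem_slnSubgroup (h : IsListGroup L inv) (g : SpecialLinearGroup n R) :
    g ∈ h.slnSubgroup ↔ (g : Matrix n n R) ∈ L := Iff.rfl

lemma card_slnSubgroup (h : IsListGroup L inv) (hdet : ∀ x ∈ L, x.det = 1) (hnd : L.Nodup) :
    Nat.card h.slnSubgroup = L.length := by
  classical
  let e : h.slnSubgroup ≃ {x // x ∈ L.toFinset} :=
    { toFun := fun g => ⟨((g : SpecialLinearGroup n R) : Matrix n n R),
        List.mem_toFinset.2 g.2⟩
      invFun := fun x => ⟨⟨x.1, hdet x.1 (List.mem_toFinset.1 x.2)⟩, List.mem_toFinset.1 x.2⟩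
      left_inv := fun g => rfl
      right_inv := fun x => rfl }
  rw [Nat.card_congr e, Nat.card_eq_fintype_card, Fintype.card_coe, List.toFinset_card_of_nodup hnd]

end IsListGroup

/-- Over `𝔽₂` every invertible matrix has determinant one. -/
lemma det_eq_one_of_mul_eq_one_zmod2 (x y : Matrix n n (ZMod 2)) (h : x * y = 1) : x.det = 1 := by
  have h1 : x.det * y.det = 1 := by rw [← Matrix.det_mul, h, Matrix.det_one]
  have h2 : ∀ a b : ZMod 2, a * b = 1 → a = 1 := by decide
  exact h2 _ _ h1

end Cfsg.Agent.Lib.Helper57
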