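import Mathlib.Tactic
import Mathlib.LinearAlgebra.Matrix.SpecialLinearGroup
import Cfsg.Agent.Lib.Helper57.QuadMat2

set_option autoImplicit false

/-!
# `2 × 2` matrices over `ZMod p` coded by natural numbers

The code of a matrix is the base `p` number with digits its entries; the product of codes is
computed with natural number arithmetic.
-/

namespace Cfsg.Agent.Lib.Helper57

variable (p : ℕ)

/-- The code of a `2 × 2` matrix over `ZMod p`. -/
def enc2 (m : Matrix (Fin 2) (Fin 2) (ZMod p)) : ℕ :=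
  (m 0 0).val + p * ((m 0 1).val + p * ((m 1 0).val + p * (m 1 1).val))

/-- Product of codes of `2 × 2` matrices over `ZMod p`. -/
def mulC2 (x y : ℕ) : ℕ :=
  natForce x fun x => natForce y fun y =>
    (x % p * (y % p) + x / p % p * (y / p / p % p)) % p + p *
    ((x % p * (y / p % p) + x / p % p * (y / p / p / p % p)) % p + p *
    ((x / p / p % p * (y % p) + x / p / p / p % p * (y / p / p % p)) % p + p *
    ((x / p / p % p * (y / p % p) + x / p / p / p % p * (y / p / p / p % p)) % p)))

/-- The determinant of the matrix with code `x` is one. -/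
def detOK2 (x : ℕ) : Bool :=
  natForce x fun x => (x % p * (x / p / p / p % p)) % p == (1 + x / p % p * (x / p / p % p)) % p

variable [NeZero p]

lemma enc2_digits (m : Matrix (Fin 2) (Fin 2) (ZMod p)) :
    enc2 p m % p = (m 0 0).val ∧ enc2 p m / p % p = (m 0 1).val ∧
      enc2 p m / p / p % p = (m 1 0).val ∧ enc2 p m / p / p / p % p = (m 1 1).val := by
  have hp : 0 < p := Nat.pos_of_ne_zero (NeZero.ne p)
  have hm : ∀ (a : ZMod p) (r : ℕ), (a.val + p * r) % p = a.val := fun a r => by
    rw [Nat.add_mul_mod_self_left, Nat.mod_eq_of_lt (ZMod.val_lt a)]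
  have hd : ∀ (a : ZMod p) (r : ℕ), (a.val + p * r) / p = r := fun a r => by
    rw [Nat.add_mul_div_left _ _ hp, Nat.div_eq_of_lt (ZMod.val_lt a), zero_add]
  simp only [enc2, hm, hd, Nat.mod_eq_of_lt (ZMod.val_lt _), and_self]

lemma enc2_lt (m : Matrix (Fin 2) (Fin 2) (ZMod p)) : enc2 p m < p ^ 4 := by
  have h0 := ZMod.val_lt (m 0 0)
  have h1 := ZMod.val_lt (m 0 1)
  have h2 := ZMod.val_lt (m 1 0)
  have h3 := ZMod.val_lt (m 1 1)
  simp only [enc2]
  have e1 : (m 1 0).val + p * (m 1 1).val < p * p := by nlinarith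
  have e2 : (m 0 1).val + p * ((m 1 0).val + p * (m 1 1).val) < p * (p * p) := by nlinarith
  have e3 : (m 0 0).val + p * ((m 0 1).val + p * ((m 1 0).val + p * (m 1 1).val))
      < p * (p * (p * p)) := by nlinarith
  calc _ < p * (p * (p * p)) := e3
    _ = p ^ 4 := by ring

lemma enc2_injective : Function.Injective (enc2 p) := by
  intro m m' h
  obtain ⟨h0, h1, h2, h3⟩ := enc2_digits p m
  obtain ⟨k0, k1, k2, k3⟩ := enc2_digits p m'
  rw [h] at h0 h1 h2 h3
  ext i j
  fin_cases i <;> fin_cases j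
  · exact ZMod.val_injective p (h0.symm.trans k0)
  · exact ZMod.val_injective p (h1.symm.trans k1)
  · exact ZMod.val_injective p (h2.symm.trans k2)
  · exact ZMod.val_injective p (h3.symm.trans k3)

lemma enc2_mul (m m' : Matrix (Fin 2) (Fin 2) (ZMod p)) :
    enc2 p (m * m') = mulC2 p (enc2 p m) (enc2 p m') := by
  obtain ⟨h0, h1, h2, h3⟩ := enc2_digits p m
  obtain ⟨k0, k1, k2, k3⟩ := enc2_digits p m'
  have key : ∀ a b c d : ZMod p, (a * b + c * d).val = (a.val * b.val + c.val * d.val) % p := by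
    intro a b c d
    rw [ZMod.val_add, ZMod.val_mul, ZMod.val_mul, ← Nat.add_mod]
  simp only [mulC2, natForce_eq, h0, h1, h2, h3, k0, k1, k2, k3]
  simp only [enc2, Matrix.mul_apply, Fin.sum_univ_two, key]

lemma detOK2_enc2 (m : Matrix (Fin 2) (Fin 2) (ZMod p)) (h : m.det = 1) :
    detOK2 p (enc2 p m) = true := by
  obtain ⟨h0, h1, h2, h3⟩ := enc2_digits p m
  simp only [detOK2, natForce_eq, h0, h1, h2, h3, beq_iff_eq]
  rw [Matrix.det_fin_two] at h
  have h' : m 0 0 * m 1 1 = 1 + m 0 1 * m 1 0 := by linear_combination h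
  apply (ZMod.natCast_eq_natCast_iff' _ _ p).1
  push_cast
  simp only [ZMod.natCast_val, ZMod.cast_id', id_eq]
  exact h'

/-- The code of an element of `SL₂(ZMod p)`. -/
def slCode (g : Matrix.SpecialLinearGroup (Fin 2) (ZMod p)) : ℕ :=
  enc2 p (g : Matrix (Fin 2) (Fin 2) (ZMod p))

lemma slCode_lt (g : Matrix.SpecialLinearGroup (Fin 2) (ZMod p)) : slCode p g < p ^ 4 :=
  enc2_lt p _

lemma slCode_injective : Function.Injective (slCode p) := fun _ _ h =>
  Subtype.ext (enc2_injective p h)

lemma slCode_mul (g h : Matrix.SpecialLinearGroup (Fin 2) (ZMod p)) :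
    slCode p (g * h) = mulC2 p (slCode p g) (slCode p h) := by
  rw [slCode, Matrix.SpecialLinearGroup.coe_mul, enc2_mul]
  rfl

lemma detOK2_slCode (g : Matrix.SpecialLinearGroup (Fin 2) (ZMod p)) :
    detOK2 p (slCode p g) = true :=
  detOK2_enc2 p _ g.2

/-- A Boolean check over all codes of `SL₂(ZMod p)` holds at every element. -/
lemma forall_sl_of_all (P : ℕ → Bool)
    (h : (List.range (p ^ 4)).all (fun x => !detOK2 p x || P x) = true)
    (g : Matrix.SpecialLinearGroup (Fin 2) (ZMod p)) : P (slCode p g) = true := by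
  rw [List.all_eq_true] at h
  have := h (slCode p g) (List.mem_range.2 (slCode_lt p g))
  rw [detOK2_slCode] at this
  simpa using this

end Cfsg.Agent.Lib.Helper57
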