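import Mathlib.Data.ZMod.Basic
import Mathlib.LinearAlgebra.Matrix.Notation
import Mathlib.Tactic
import Cfsg.Agent.Lib.Helper57.QuadMat2

set_option autoImplicit false

/-!
# Fast kernel computations with `4 × 4` matrices over `𝔽₂`

Matrices are coded as natural numbers below `2 ^ 16` (entry `(i, j)` is bit `4 i + j`).
-/

namespace Cfsg.Agent.Lib.Helper57

/-- `4 × 4` matrices over `𝔽₂` with natural number coordinates. -/
structure B16 where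
  e0 : ℕ
  e1 : ℕ
  e2 : ℕ
  e3 : ℕ
  e4 : ℕ
  e5 : ℕ
  e6 : ℕ
  e7 : ℕ
  e8 : ℕ
  e9 : ℕ
  e10 : ℕ
  e11 : ℕ
  e12 : ℕ
  e13 : ℕ
  e14 : ℕ
  e15 : ℕ
deriving DecidableEq

namespace B16

/-- Matrix product, reduced modulo `2`. -/
def mul (x y : B16) : B16 :=
  ⟨(x.e0 * y.e0 + x.e1 * y.e4 + x.e2 * y.e8 + x.e3 * y.e12) % 2,
   (x.e0 * y.e1 + x.e1 * y.e5 + x.e2 * y.e9 + x.e3 * y.e13) % 2,
   (x.e0 * y.e2 + x.e1 * y.e6 + x.e2 * y.e10 + x.e3 * y.e14) % 2,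
   (x.e0 * y.e3 + x.e1 * y.e7 + x.e2 * y.e11 + x.e3 * y.e15) % 2,
   (x.e4 * y.e0 + x.e5 * y.e4 + x.e6 * y.e8 + x.e7 * y.e12) % 2,
   (x.e4 * y.e1 + x.e5 * y.e5 + x.e6 * y.e9 + x.e7 * y.e13) % 2,
   (x.e4 * y.e2 + x.e5 * y.e6 + x.e6 * y.e10 + x.e7 * y.e14) % 2,
   (x.e4 * y.e3 + x.e5 * y.e7 + x.e6 * y.e11 + x.e7 * y.e15) % 2,
   (x.e8 * y.e0 + x.e9 * y.e4 + x.e10 * y.e8 + x.e11 * y.e12) % 2,
   (x.e8 * y.e1 + x.e9 * y.e5 + x.e10 * y.e9 + x.e11 * y.e13) % 2,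
   (x.e8 * y.e2 + x.e9 * y.e6 + x.e10 * y.e10 + x.e11 * y.e14) % 2,
   (x.e8 * y.e3 + x.e9 * y.e7 + x.e10 * y.e11 + x.e11 * y.e15) % 2,
   (x.e12 * y.e0 + x.e13 * y.e4 + x.e14 * y.e8 + x.e15 * y.e12) % 2,
   (x.e12 * y.e1 + x.e13 * y.e5 + x.e14 * y.e9 + x.e15 * y.e13) % 2,
   (x.e12 * y.e2 + x.e13 * y.e6 + x.e14 * y.e10 + x.e15 * y.e14) % 2,
   (x.e12 * y.e3 + x.e13 * y.e7 + x.e14 * y.e11 + x.e15 * y.e15) % 2⟩

/-- The identity matrix. -/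
def one : B16 := ⟨1, 0, 0, 0, 0, 1, 0, 0, 0, 0, 1, 0, 0, 0, 0, 1⟩

/-- Binary encoding. -/
def enc (x : B16) : ℕ :=
  x.e0 + 2 * (x.e1 + 2 * (x.e2 + 2 * (x.e3 + 2 * (x.e4 + 2 * (x.e5 + 2 * (x.e6 + 2 * (x.e7 + 2 * (x.e8 + 2 * (x.e9 + 2 * (x.e10 + 2 * (x.e11 + 2 * (x.e12 + 2 * (x.e13 + 2 * (x.e14 + 2 * (x.e15)))))))))))))))

/-- Binary decoding. -/
def dec (c : ℕ) : B16 :=
  ⟨c / 1 % 2,
   c / 2 % 2,
   c / 4 % 2,
   c / 8 % 2,
   c / 16 % 2,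
   c / 32 % 2,
   c / 64 % 2,
   c / 128 % 2,
   c / 256 % 2,
   c / 512 % 2,
   c / 1024 % 2,
   c / 2048 % 2,
   c / 4096 % 2,
   c / 8192 % 2,
   c / 16384 % 2,
   c / 32768 % 2⟩

/-- All coordinates are `0` or `1`. -/
def Reduced (x : B16) : Prop :=
  x.e0 < 2 ∧ x.e1 < 2 ∧ x.e2 < 2 ∧ x.e3 < 2 ∧ x.e4 < 2 ∧ x.e5 < 2 ∧ x.e6 < 2 ∧ x.e7 < 2 ∧ x.e8 < 2 ∧ x.e9 < 2 ∧ x.e10 < 2 ∧ x.e11 < 2 ∧ x.e12 < 2 ∧ x.e13 < 2 ∧ x.e14 < 2 ∧ x.e15 < 2

lemma dec_enc (x : B16) (hx : x.Reduced) : dec (enc x) = x := by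
  obtain ⟨h0, h1, h2, h3, h4, h5, h6, h7, h8, h9, h10, h11, h12, h13, h14, h15⟩ := hx
  cases x
  unfold dec enc
  dsimp only at *
  congr 1 <;> omega

lemma mul_reduced (x y : B16) : (mul x y).Reduced :=
  ⟨Nat.mod_lt _ (by norm_num), Nat.mod_lt _ (by norm_num), Nat.mod_lt _ (by norm_num), Nat.mod_lt _ (by norm_num), Nat.mod_lt _ (by norm_num), Nat.mod_lt _ (by norm_num), Nat.mod_lt _ (by norm_num), Nat.mod_lt _ (by norm_num), Nat.mod_lt _ (by norm_num), Nat.mod_lt _ (by norm_num), Nat.mod_lt _ (by norm_num), Nat.mod_lt _ (by norm_num), Nat.mod_lt _ (by norm_num), Nat.mod_lt _ (by norm_num), Nat.mod_lt _ (by norm_num), Nat.mod_lt _ (by norm_num)⟩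

lemma dec_reduced (c : ℕ) : (dec c).Reduced :=
  ⟨Nat.mod_lt _ (by norm_num), Nat.mod_lt _ (by norm_num), Nat.mod_lt _ (by norm_num), Nat.mod_lt _ (by norm_num), Nat.mod_lt _ (by norm_num), Nat.mod_lt _ (by norm_num), Nat.mod_lt _ (by norm_num), Nat.mod_lt _ (by norm_num), Nat.mod_lt _ (by norm_num), Nat.mod_lt _ (by norm_num), Nat.mod_lt _ (by norm_num), Nat.mod_lt _ (by norm_num), Nat.mod_lt _ (by norm_num), Nat.mod_lt _ (by norm_num), Nat.mod_lt _ (by norm_num), Nat.mod_lt _ (by norm_num)⟩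

lemma one_reduced : one.Reduced := by
  simp only [Reduced, one]
  omega

/-- The matrix over `𝔽₂` with the given coordinates. -/
def toM (x : B16) : Matrix (Fin 4) (Fin 4) (ZMod 2) :=
  !![(x.e0 : ZMod 2), (x.e1 : ZMod 2), (x.e2 : ZMod 2), (x.e3 : ZMod 2); (x.e4 : ZMod 2), (x.e5 : ZMod 2), (x.e6 : ZMod 2), (x.e7 : ZMod 2); (x.e8 : ZMod 2), (x.e9 : ZMod 2), (x.e10 : ZMod 2), (x.e11 : ZMod 2); (x.e12 : ZMod 2), (x.e13 : ZMod 2), (x.e14 : ZMod 2), (x.e15 : ZMod 2)]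

lemma toM_mul (x y : B16) : toM (mul x y) = toM x * toM y := by
  ext i j
  fin_cases i <;> fin_cases j <;>
    simp [toM, mul, Matrix.mul_apply, Fin.sum_univ_four, ZMod.natCast_mod]

lemma toM_one : toM one = 1 := by
  ext i j
  fin_cases i <;> fin_cases j <;> simp [toM, one]

lemma toM_injOn (x y : B16) (hx : x.Reduced) (hy : y.Reduced) (h : toM x = toM y) : x = y := by
  obtain ⟨h0, h1, h2, h3, h4, h5, h6, h7, h8, h9, h10, h11, h12, h13, h14, h15⟩ := hx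
  obtain ⟨k0, k1, k2, k3, k4, k5, k6, k7, k8, k9, k10, k11, k12, k13, k14, k15⟩ := hy
  have key : ∀ a b : ℕ, a < 2 → b < 2 → (a : ZMod 2) = (b : ZMod 2) → a = b := by
    intro a b ha hb hab
    have := (ZMod.natCast_eq_natCast_iff' a b 2).1 hab
    omega
  have e00 := congrFun (congrFun h 0) 0
  have e01 := congrFun (congrFun h 0) 1
  have e02 := congrFun (congrFun h 0) 2
  have e03 := congrFun (congrFun h 0) 3
  have e10 := congrFun (congrFun h 1) 0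
  have e11 := congrFun (congrFun h 1) 1
  have e12 := congrFun (congrFun h 1) 2
  have e13 := congrFun (congrFun h 1) 3
  have e20 := congrFun (congrFun h 2) 0
  have e21 := congrFun (congrFun h 2) 1
  have e22 := congrFun (congrFun h 2) 2
  have e23 := congrFun (congrFun h 2) 3
  have e30 := congrFun (congrFun h 3) 0
  have e31 := congrFun (congrFun h 3) 1
  have e32 := congrFun (congrFun h 3) 2
  have e33 := congrFun (congrFun h 3) 3
  simp only [toM, Matrix.of_apply, Matrix.cons_val', Matrix.cons_val_zero, Matrix.cons_val_one,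
    Matrix.cons_val_fin_one, Matrix.cons_val] at e00 e01 e02 e03 e10 e11 e12 e13 e20 e21 e22 e23 e30 e31 e32 e33
  cases x
  cases y
  simp only [B16.mk.injEq]
  exact ⟨key _ _ h0 k0 e00, key _ _ h1 k1 e01, key _ _ h2 k2 e02, key _ _ h3 k3 e03, key _ _ h4 k4 e10, key _ _ h5 k5 e11, key _ _ h6 k6 e12, key _ _ h7 k7 e13, key _ _ h8 k8 e20, key _ _ h9 k9 e21, key _ _ h10 k10 e22, key _ _ h11 k11 e23, key _ _ h12 k12 e30, key _ _ h13 k13 e31, key _ _ h14 k14 e32, key _ _ h15 k15 e33⟩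

end B16

/-- Product of codes. -/
def mul4C (x y : ℕ) : ℕ :=
  natForce x fun x => natForce y fun y => B16.enc (B16.mul (B16.dec x) (B16.dec y))

/-- The code of the identity matrix. -/
def one4C : ℕ := 33825

/-- The matrix with a given code. -/
def f4C (c : ℕ) : Matrix (Fin 4) (Fin 4) (ZMod 2) := B16.toM (B16.dec c)

lemma f4C_mul4C (x y : ℕ) : f4C (mul4C x y) = f4C x * f4C y := by
  simp only [f4C, mul4C, natForce_eq]
  rw [B16.dec_enc _ (B16.mul_reduced _ _), B16.toM_mul]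

lemma f4C_one4C : f4C one4C = 1 := by
  have h : one4C = B16.enc B16.one := by decide
  rw [f4C, h, B16.dec_enc _ B16.one_reduced, B16.toM_one]

lemma f4C_injOn (a b : ℕ) (ha : B16.enc (B16.dec a) = a) (hb : B16.enc (B16.dec b) = b)
    (h : f4C a = f4C b) : a = b := by
  have h1 : B16.dec a = B16.dec b :=
    B16.toM_injOn _ _ (B16.dec_reduced a) (B16.dec_reduced b) h
  rw [← ha, ← hb, h1]

lemma enc_dec_mul4C (x y : ℕ) : B16.enc (B16.dec (mul4C x y)) = mul4C x y := by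
  simp only [mul4C, natForce_eq]
  rw [B16.dec_enc _ (B16.mul_reduced _ _)]

end Cfsg.Agent.Lib.Helper57
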