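import Mathlib.Tactic
import Mathlib.Data.ZMod.Basic
import Mathlib.Data.Matrix.Mul
import Mathlib.Algebra.BigOperators.Fin
import Cfsg.Agent.Lib.Helper57.QuadMat2

set_option autoImplicit false

/-!
# Square matrices over `ZMod p` packed in natural numbers, with wide digits

An `n × n` matrix with entries `< p` is coded by the natural number whose base `B ^ n` digits are
the rows, the rows being coded in base `B`.  When `n * (p - 1) ^ 2 < B`, the product of two
matrices can be computed on the codes without carries: the row `i` of the product is the sum of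
the rows of the second factor multiplied by the entries of the row `i` of the first factor,
reduced modulo `p` digit by digit.
-/

namespace Cfsg.Agent.Lib.Helper57

open Finset

/-- `∑ i < n, f i`, by recursion. -/
def sumRange : ℕ → (ℕ → ℕ) → ℕ
  | 0, _ => 0
  | n + 1, f => Nat.add (sumRange n f) (f n)

lemma sumRange_eq (n : ℕ) (f : ℕ → ℕ) : sumRange n f = ∑ i ∈ range n, f i := by
  induction n with
  | zero => rfl
  | succ n ih =>
    rw [sumRange, Finset.sum_range_succ, ← ih]
    rfl

/-- The digit `m` of `c` in base `B`. -/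
def digitAt (B c m : ℕ) : ℕ := Nat.mod (Nat.div c (Nat.pow B m)) B

lemma digitAt_eq (B c m : ℕ) : digitAt B c m = c / B ^ m % B := rfl

lemma digitAt_lt (B c m : ℕ) (hB : 0 < B) : digitAt B c m < B := Nat.mod_lt _ hB

/-- A number with digits `c j < B` is less than `B ^ n`. -/
lemma sum_digits_lt (B n : ℕ) (hB : 0 < B) (c : ℕ → ℕ) (hc : ∀ j < n, c j < B) :
    ∑ j ∈ range n, c j * B ^ j < B ^ n := by
  induction n with
  | zero => simp
  | succ n ih =>
    rw [Finset.sum_range_succ, pow_succ]
    have h1 := ih (fun j hj => hc j (by omega))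
    have h2 : c n ≤ B - 1 := by have := hc n (by omega); omega
    have h3 : c n * B ^ n ≤ (B - 1) * B ^ n := Nat.mul_le_mul_right _ h2
    have h4 : (B - 1) * B ^ n + B ^ n = B ^ n * B := by
      have : (B - 1) + 1 = B := by omega
      calc (B - 1) * B ^ n + B ^ n = ((B - 1) + 1) * B ^ n := by ring
        _ = B ^ n * B := by rw [this]; ring
    omega

/-- The digits of a number given by its digits. -/
lemma digitAt_sum (B n : ℕ) (hB : 0 < B) (c : ℕ → ℕ) (hc : ∀ j < n, c j < B) (m : ℕ) (hm : m < n) :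
    digitAt B (∑ j ∈ range n, c j * B ^ j) m = c m := by
  induction n with
  | zero => omega
  | succ n ih =>
    rw [Finset.sum_range_succ, digitAt_eq]
    have hlt := sum_digits_lt B n hB c (fun j hj => hc j (by omega))
    rcases Nat.lt_succ_iff_lt_or_eq.1 hm with h | h
    · obtain ⟨d, hd⟩ : ∃ d, n = m + 1 + d := ⟨n - m - 1, by omega⟩
      have h1 : c n * B ^ n = B ^ m * (c n * B ^ d * B) := by
        rw [hd, pow_add, pow_succ]
        ring
      rw [h1, Nat.add_mul_div_left _ _ (pow_pos hB m), Nat.add_mul_mod_self_right, ← digitAt_eq]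
      exact ih (fun j hj => hc j (by omega)) h
    · subst h
      rw [Nat.add_mul_div_right _ _ (pow_pos hB m), Nat.div_eq_of_lt hlt, zero_add]
      exact Nat.mod_eq_of_lt (hc m (by omega))

/-- The base `B` expansion. -/
lemma sum_digitAt (B n c : ℕ) : ∑ j ∈ range n, digitAt B c j * B ^ j = c % B ^ n := by
  induction n with
  | zero => simp [Nat.mod_one]
  | succ n ih =>
    rw [Finset.sum_range_succ, ih, Nat.mod_pow_succ, digitAt_eq]
    ring

lemma sum_digitAt_of_lt (B n c : ℕ) (hc : c < B ^ n) :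
    ∑ j ∈ range n, digitAt B c j * B ^ j = c := by
  rw [sum_digitAt, Nat.mod_eq_of_lt hc]

section Pack

variable (p B n : ℕ)

/-- The entry `(i, j)` of the matrix with code `c`. -/
def entryP (c i j : ℕ) : ℕ := digitAt B (digitAt (B ^ n) c i) j

/-- The code is the code of a matrix with entries `< p`. -/
def ValidP (c : ℕ) : Prop := c < (B ^ n) ^ n ∧ ∀ i < n, ∀ j < n, entryP B n c i j < p

/-- The Boolean version of `ValidP`. -/
def validB (c : ℕ) : Bool :=
  natForce c fun c => decide (c < (B ^ n) ^ n) &&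
    (List.range n).all fun i => (List.range n).all fun j => decide (entryP B n c i j < p)

lemma validB_spec (c : ℕ) (h : validB p B n c = true) : ValidP p B n c := by
  simp only [validB, natForce_eq, Bool.and_eq_true, decide_eq_true_eq, List.all_eq_true,
    List.mem_range] at h
  exact h

/-- The product of codes. -/
def mulP (X Y : ℕ) : ℕ :=
  natForce X fun X => natForce Y fun Y => natForce (Nat.pow B n) fun Bn =>
    sumRange n fun i => natForce (digitAt Bn X i) fun xr =>
      natForce (sumRange n fun k => Nat.mul (digitAt B xr k) (digitAt Bn Y k)) fun S =>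
        Nat.mul (sumRange n fun j => Nat.mul (Nat.mod (digitAt B S j) p) (Nat.pow B j))
          (Nat.pow Bn i)

lemma mulP_eq (X Y : ℕ) : mulP p B n X Y =
    ∑ i ∈ range n, (∑ j ∈ range n,
      (digitAt B (∑ k ∈ range n, digitAt B (digitAt (B ^ n) X i) k * digitAt (B ^ n) Y k) j % p)
        * B ^ j) * (B ^ n) ^ i := by
  simp only [mulP, natForce_eq, sumRange_eq]
  rfl

variable {p B n}

lemma row_sum_eq (hB : 0 < B) (X Y : ℕ) (i : ℕ) :
    ∑ k ∈ range n, digitAt B (digitAt (B ^ n) X i) k * digitAt (B ^ n) Y k =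
      ∑ j ∈ range n, (∑ k ∈ range n, entryP B n X i k * entryP B n Y k j) * B ^ j := by
  have h1 : ∀ k, digitAt (B ^ n) Y k = ∑ j ∈ range n, entryP B n Y k j * B ^ j := by
    intro k
    exact (sum_digitAt_of_lt B n _ (digitAt_lt _ _ _ (pow_pos hB n))).symm
  simp_rw [Finset.sum_mul]
  rw [Finset.sum_comm]
  apply Finset.sum_congr rfl
  intro k _
  conv_lhs => rw [h1 k, Finset.mul_sum]
  apply Finset.sum_congr rfl
  intro j _
  simp only [entryP]
  ring

lemma entry_sum_lt (hBig : n * (p - 1) ^ 2 < B) (X Y : ℕ) (hX : ValidP p B n X)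
    (hY : ValidP p B n Y) (i : ℕ) (hi : i < n) (j : ℕ) (hj : j < n) :
    ∑ k ∈ range n, entryP B n X i k * entryP B n Y k j < B := by
  have h1 : ∀ k ∈ range n, entryP B n X i k * entryP B n Y k j ≤ (p - 1) ^ 2 := by
    intro k hk
    rw [Finset.mem_range] at hk
    have h2 := hX.2 i hi k hk
    have h3 := hY.2 k hk j hj
    rw [sq]
    exact Nat.mul_le_mul (by omega) (by omega)
  have h4 := Finset.sum_le_card_nsmul _ _ _ h1
  rw [Finset.card_range, smul_eq_mul] at h4
  omega

/-- The entries of the product. -/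
theorem entryP_mulP (hp : 0 < p) (hpB : p ≤ B) (hBig : n * (p - 1) ^ 2 < B) (X Y : ℕ)
    (hX : ValidP p B n X) (hY : ValidP p B n Y) (i : ℕ) (hi : i < n) (j : ℕ) (hj : j < n) :
    entryP B n (mulP p B n X Y) i j =
      (∑ k ∈ range n, entryP B n X i k * entryP B n Y k j) % p := by
  have hB : 0 < B := lt_of_lt_of_le hp hpB
  have hBn : 0 < B ^ n := pow_pos hB n
  rw [entryP, mulP_eq]
  rw [digitAt_sum (B ^ n) n hBn _ _ i hi]
  · rw [digitAt_sum B n hB _ _ j hj]
    · rw [row_sum_eq hB, digitAt_sum B n hB _ _ j hj]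
      intro j' hj'
      exact entry_sum_lt hBig X Y hX hY i hi j' hj'
    · intro j' _
      exact lt_of_lt_of_le (Nat.mod_lt _ hp) hpB
  · intro i' _
    apply sum_digits_lt B n hB
    intro j' _
    exact lt_of_lt_of_le (Nat.mod_lt _ hp) hpB

/-- The product of valid codes is valid. -/
theorem mulP_valid (hp : 0 < p) (hpB : p ≤ B) (hBig : n * (p - 1) ^ 2 < B) (X Y : ℕ)
    (hX : ValidP p B n X) (hY : ValidP p B n Y) : ValidP p B n (mulP p B n X Y) := by
  have hB : 0 < B := lt_of_lt_of_le hp hpB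
  have hBn : 0 < B ^ n := pow_pos hB n
  constructor
  · rw [mulP_eq]
    apply sum_digits_lt (B ^ n) n hBn
    intro i' _
    apply sum_digits_lt B n hB
    intro j' _
    exact lt_of_lt_of_le (Nat.mod_lt _ hp) hpB
  · intro i hi j hj
    rw [entryP_mulP hp hpB hBig X Y hX hY i hi j hj]
    exact Nat.mod_lt _ hp

/-- A valid code is determined by its entries. -/
lemma eq_of_entryP_eq (hB : 0 < B) (X Y : ℕ) (hX : X < (B ^ n) ^ n) (hY : Y < (B ^ n) ^ n)
    (h : ∀ i < n, ∀ j < n, entryP B n X i j = entryP B n Y i j) : X = Y := by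
  have hBn : 0 < B ^ n := pow_pos hB n
  rw [← sum_digitAt_of_lt (B ^ n) n X hX, ← sum_digitAt_of_lt (B ^ n) n Y hY]
  apply Finset.sum_congr rfl
  intro i hi
  rw [Finset.mem_range] at hi
  congr 1
  rw [← sum_digitAt_of_lt B n _ (digitAt_lt (B ^ n) X i hBn),
    ← sum_digitAt_of_lt B n _ (digitAt_lt (B ^ n) Y i hBn)]
  apply Finset.sum_congr rfl
  intro j hj
  rw [Finset.mem_range] at hj
  congr 1
  exact h i hi j hj

end Pack

section Matrix

variable (p B n : ℕ) {ι : Type*} (e : ι ≃ Fin n)

/-- The matrix over `ZMod p` with code `c`. -/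
def fP (c : ℕ) : Matrix ι ι (ZMod p) :=
  Matrix.of fun i j => ((entryP B n c (e i) (e j) : ℕ) : ZMod p)

lemma fP_apply (c : ℕ) (i j : ι) :
    fP p B n e c i j = ((entryP B n c (e i) (e j) : ℕ) : ZMod p) := rfl

variable {p B n}

/-- The product of codes is the product of matrices. -/
theorem fP_mulP [Fintype ι] (hp : 0 < p) (hpB : p ≤ B) (hBig : n * (p - 1) ^ 2 < B) (X Y : ℕ)
    (hX : ValidP p B n X) (hY : ValidP p B n Y) :
    fP p B n e (mulP p B n X Y) = fP p B n e X * fP p B n e Y := by
  ext i j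
  rw [fP_apply, entryP_mulP hp hpB hBig X Y hX hY _ (e i).2 _ (e j).2, ZMod.natCast_mod,
    Matrix.mul_apply, Nat.cast_sum]
  rw [← Equiv.sum_comp e.symm, ← Fin.sum_univ_eq_sum_range
    (fun k => ((entryP B n X (e i) k * entryP B n Y k (e j) : ℕ) : ZMod p)) n]
  apply Finset.sum_congr rfl
  intro k _
  rw [fP_apply, fP_apply, Equiv.apply_symm_apply, Nat.cast_mul]

/-- Valid codes of the same matrix are equal. -/
theorem fP_inj (hp : 0 < p) (hpB : p ≤ B) (X Y : ℕ) (hX : ValidP p B n X) (hY : ValidP p B n Y)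
    (h : fP p B n e X = fP p B n e Y) : X = Y := by
  have hB : 0 < B := lt_of_lt_of_le hp hpB
  apply eq_of_entryP_eq hB X Y hX.1 hY.1
  intro i hi j hj
  have h1 := congrFun (congrFun h (e.symm ⟨i, hi⟩)) (e.symm ⟨j, hj⟩)
  rw [fP_apply, fP_apply, Equiv.apply_symm_apply, Equiv.apply_symm_apply,
    ZMod.natCast_eq_natCast_iff'] at h1
  rwa [Nat.mod_eq_of_lt (hX.2 i hi j hj), Nat.mod_eq_of_lt (hY.2 i hi j hj)] at h1

end Matrix

end Cfsg.Agent.Lib.Helper57
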