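import Cfsg.Agent.Lib.Helper57.PackMat

set_option autoImplicit false

/-!
# Packed matrices: the product of codes is always a valid code
-/

namespace Cfsg.Agent.Lib.Helper57

open Finset

variable {p B n : ℕ}

/-- The product of codes is a valid code, whatever the factors. -/
theorem mulP_valid_out (hp : 0 < p) (hpB : p ≤ B) (X Y : ℕ) : ValidP p B n (mulP p B n X Y) := by
  have hB : 0 < B := lt_of_lt_of_le hp hpB
  have hBn : 0 < B ^ n := pow_pos hB n
  have hrow : ∀ i' : ℕ, ∑ j ∈ range n,
      (digitAt B (∑ k ∈ range n, digitAt B (digitAt (B ^ n) X i') k * digitAt (B ^ n) Y k) j % p)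
        * B ^ j < B ^ n := by
    intro i'
    apply sum_digits_lt B n hB
    intro j' _
    exact lt_of_lt_of_le (Nat.mod_lt _ hp) hpB
  constructor
  · rw [mulP_eq]
    exact sum_digits_lt (B ^ n) n hBn _ (fun i' _ => hrow i')
  · intro i hi j hj
    rw [entryP, mulP_eq, digitAt_sum (B ^ n) n hBn _ (fun i' _ => hrow i') i hi,
      digitAt_sum B n hB _ _ j hj]
    · exact Nat.mod_lt _ hp
    · intro j' _
      exact lt_of_lt_of_le (Nat.mod_lt _ hp) hpB

end Cfsg.Agent.Lib.Helper57
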