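import Mathlib.Tactic
import Mathlib.GroupTheory.OrderOfElement
import Mathlib.GroupTheory.Commutator.Basic
import Mathlib.GroupTheory.QuotientGroup.Basic
import Cfsg.Agent.Lib.Helper57.QuadMat2

set_option autoImplicit false

/-!
# Finite monoids given by a sorted table of codes and a Cayley graph

The elements of a monoid `M` are coded by natural numbers through `f : ℕ → M`, compatible with a
product `mulC` of codes.  A table `T` of `n` strictly increasing codes, a table `nxt` of the right
multiplications by the generators, and a spanning tree (`par`, `pg`, `dep`) of the Cayley graph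
certify that the elements `f (T i)`, `i < n`, are exactly the elements of the submonoid generated
by the `f (gc k)`, `k < ng`.  All checks are Boolean and linear in `n`.
-/

namespace Cfsg.Agent.Lib.Helper57

open scoped commutatorElement

/-- The tables describing the Cayley graph. -/
structure CayleyData where
  /-- the number of elements -/
  n : ℕ
  /-- the index of the identity -/
  i0 : ℕ
  /-- the code with a given index -/
  T : ℕ → ℕ
  /-- the number of generators -/
  ng : ℕ
  /-- the codes of the generators -/
  gc : ℕ → ℕ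
  /-- right multiplication by the generators, on indices -/
  nxt : ℕ → ℕ → ℕ
  /-- the parent of an index in the spanning tree -/
  par : ℕ → ℕ
  /-- the generator leading from the parent to the index -/
  pg : ℕ → ℕ
  /-- the depth in the spanning tree -/
  dep : ℕ → ℕ

namespace CayleyData

variable (D : CayleyData)

/-- The table of codes is strictly increasing. -/
def chkSorted : Bool := (List.range (D.n - 1)).all fun i => decide (D.T i < D.T (i + 1))

/-- The identity is in the table. -/
def chkOne (oneC : ℕ) : Bool := decide (D.i0 < D.n) && D.T D.i0 == oneC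

/-- The table `nxt` describes right multiplication by the generators. -/
def chkNext (mulC : ℕ → ℕ → ℕ) : Bool :=
  (List.range D.n).all fun i => (List.range D.ng).all fun k =>
    decide (D.nxt i k < D.n) && mulC (D.T i) (D.gc k) == D.T (D.nxt i k)

/-- The tables `par`, `pg`, `dep` describe a spanning tree. -/
def chkPar : Bool :=
  (List.range D.n).all fun i => i == D.i0 ||
    (decide (D.par i < D.n) && decide (D.pg i < D.ng) && D.nxt (D.par i) (D.pg i) == i &&
      decide (D.dep (D.par i) < D.dep i))

/-- All the checks hold. -/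
structure Valid (mulC : ℕ → ℕ → ℕ) (oneC : ℕ) : Prop where
  sorted : D.chkSorted = true
  one : D.chkOne oneC = true
  next : D.chkNext mulC = true
  par : D.chkPar = true

/-- Binary search in the table. -/
def findGo (T : ℕ → ℕ) (c : ℕ) : ℕ → ℕ → ℕ → ℕ
  | 0, lo, _ => lo
  | fuel + 1, lo, hi =>
    if hi ≤ lo + 1 then lo else
      natForce ((lo + hi) / 2) fun mid =>
        if T mid ≤ c then findGo T c fuel mid hi else findGo T c fuel lo mid

/-- The index of a code (if it is in the table). -/
def find (c : ℕ) : ℕ := findGo D.T c 64 0 D.n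

/-- The code `c` is in the table. -/
def memB (c : ℕ) : Bool :=
  natForce c fun c => natForce (D.find c) fun i => decide (i < D.n) && D.T i == c

lemma memB_spec (c : ℕ) (h : D.memB c = true) : ∃ i < D.n, D.T i = c := by
  simp only [memB, natForce_eq, Bool.and_eq_true, decide_eq_true_eq, beq_iff_eq] at h
  exact ⟨_, h.1, h.2⟩

variable {D} {mulC : ℕ → ℕ → ℕ} {oneC : ℕ}

lemma Valid.i0_lt (h : D.Valid mulC oneC) : D.i0 < D.n := by
  have := h.one
  simp only [chkOne, Bool.and_eq_true, decide_eq_true_eq, beq_iff_eq] at this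
  exact this.1

lemma Valid.T_i0 (h : D.Valid mulC oneC) : D.T D.i0 = oneC := by
  have := h.one
  simp only [chkOne, Bool.and_eq_true, decide_eq_true_eq, beq_iff_eq] at this
  exact this.2

lemma Valid.T_lt_succ (h : D.Valid mulC oneC) (i : ℕ) (hi : i + 1 < D.n) :
    D.T i < D.T (i + 1) := by
  have := h.sorted
  simp only [chkSorted, List.all_eq_true, List.mem_range, decide_eq_true_eq] at this
  exact this i (by omega)

lemma Valid.T_strictMono (h : D.Valid mulC oneC) (i j : ℕ) (hij : i < j) (hj : j < D.n) :
    D.T i < D.T j := by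
  induction j with
  | zero => omega
  | succ j ih =>
    rcases Nat.lt_succ_iff_lt_or_eq.1 hij with h1 | h1
    · exact (ih h1 (by omega)).trans (h.T_lt_succ j hj)
    · subst h1
      exact h.T_lt_succ i hj

lemma Valid.T_inj (h : D.Valid mulC oneC) (i j : ℕ) (hi : i < D.n) (hj : j < D.n)
    (hT : D.T i = D.T j) : i = j := by
  rcases Nat.lt_trichotomy i j with h1 | h1 | h1
  · exact absurd hT (h.T_strictMono i j h1 hj).ne
  · exact h1
  · exact absurd hT (h.T_strictMono j i h1 hi).ne'

lemma Valid.nxt_spec (h : D.Valid mulC oneC) (i k : ℕ) (hi : i < D.n) (hk : k < D.ng) :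
    D.nxt i k < D.n ∧ mulC (D.T i) (D.gc k) = D.T (D.nxt i k) := by
  have := h.next
  simp only [chkNext, List.all_eq_true, List.mem_range, Bool.and_eq_true, decide_eq_true_eq,
    beq_iff_eq] at this
  exact this i hi k hk

lemma Valid.par_spec (h : D.Valid mulC oneC) (i : ℕ) (hi : i < D.n) :
    i = D.i0 ∨ (D.par i < D.n ∧ D.pg i < D.ng ∧ D.nxt (D.par i) (D.pg i) = i ∧
      D.dep (D.par i) < D.dep i) := by
  have := h.par
  simp only [chkPar, List.all_eq_true, List.mem_range, Bool.or_eq_true, Bool.and_eq_true,
    decide_eq_true_eq, beq_iff_eq] at this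
  rcases this i hi with h1 | ⟨⟨⟨h1, h2⟩, h3⟩, h4⟩
  · exact Or.inl h1
  · exact Or.inr ⟨h1, h2, h3, h4⟩

section Monoid

variable {M : Type*} [Monoid M] (f : ℕ → M)

/-- The generating set. -/
def genSet (D : CayleyData) (f : ℕ → M) : Set M := {y | ∃ k < D.ng, y = f (D.gc k)}

/-- The elements of the table are exactly the elements of the submonoid generated by the
generators. -/
theorem Valid.mem_closure_iff (h : D.Valid mulC oneC)
    (hmul : ∀ x y, f (mulC x y) = f x * f y) (hone : f oneC = 1) (x : M) :
    x ∈ Submonoid.closure (D.genSet f) ↔ ∃ i < D.n, x = f (D.T i) := by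
  constructor
  · intro hx
    induction hx using Submonoid.closure_induction_right with
    | one => exact ⟨D.i0, h.i0_lt, by rw [h.T_i0, hone]⟩
    | mul_right x _ s hs ih =>
      obtain ⟨i, hi, rfl⟩ := ih
      obtain ⟨k, hk, rfl⟩ := hs
      obtain ⟨h1, h2⟩ := h.nxt_spec i k hi hk
      exact ⟨D.nxt i k, h1, by rw [← h2, hmul]⟩
  · rintro ⟨i, hi, rfl⟩
    have key : ∀ d : ℕ, ∀ i < D.n, D.dep i = d → f (D.T i) ∈ Submonoid.closure (D.genSet f) := by
      intro d
      induction d using Nat.strong_induction_on with
      | _ d ih =>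
        intro i hi hd
        rcases h.par_spec i hi with h1 | ⟨h1, h2, h3, h4⟩
        · rw [h1, h.T_i0, hone]
          exact one_mem _
        · have h5 := ih _ (hd ▸ h4) (D.par i) h1 rfl
          obtain ⟨_, h6⟩ := h.nxt_spec (D.par i) (D.pg i) h1 h2
          rw [h3] at h6
          rw [← h6, hmul]
          exact mul_mem h5 (Submonoid.subset_closure ⟨D.pg i, h2, rfl⟩)
    exact key _ i hi rfl

end Monoid

end CayleyData

section Units

variable {M : Type*} [Monoid M]

/-- In a finite group of units, membership in the subgroup generated by a set is membership of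
the value in the submonoid generated by the values. -/
theorem mem_closure_units_iff [Finite Mˣ] (S : Set Mˣ) (u : Mˣ) :
    u ∈ Subgroup.closure S ↔ (u : M) ∈ Submonoid.closure (Units.val '' S) := by
  have h1 : u ∈ Subgroup.closure S ↔ u ∈ Submonoid.closure S := by
    rw [← Subgroup.closure_toSubmonoid_of_finite, Subgroup.mem_toSubmonoid]
  have h2 : Submonoid.closure (Units.val '' S) = (Submonoid.closure S).map (Units.coeHom M) := by
    rw [MonoidHom.map_mclosure]
    rfl
  rw [h1, h2, Submonoid.mem_map]
  constructor
  · intro hu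
    exact ⟨u, hu, rfl⟩
  · rintro ⟨v, hv, hvu⟩
    have : v = u := Units.ext hvu
    rwa [← this]

/-- The subgroup generated by a set of units of a finite group of units, as a submonoid of itself,
is generated by that set. -/
theorem mclosure_subgroup_closure_eq_top {G : Type*} [Group G] [Finite G] (S : Set G) :
    Submonoid.closure {x : Subgroup.closure S | (x : G) ∈ S} = ⊤ := by
  rw [eq_top_iff]
  rintro ⟨x, hx⟩ _
  have hx' : x ∈ Submonoid.closure S := by
    rw [← Subgroup.closure_toSubmonoid_of_finite]
    exact hx
  have key : ∀ y (hy : y ∈ Submonoid.closure S),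
      (⟨y, Subgroup.le_closure_toSubmonoid S hy⟩ : Subgroup.closure S) ∈
        Submonoid.closure {x : Subgroup.closure S | (x : G) ∈ S} := by
    intro y hy
    induction hy using Submonoid.closure_induction with
    | mem y hy => exact Submonoid.subset_closure hy
    | one => exact one_mem _
    | mul a b ha hb iha ihb => exact mul_mem iha ihb
  exact key x hx'

end Units

section UnitsTable

open Classical in
/-- The index of (the value of) a unit in the table. -/
noncomputable def CayleyData.idx {M : Type*} [Monoid M] (D : CayleyData) (f : ℕ → M) (u : Mˣ) : ℕ :=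
  if hex : ∃ i, i < D.n ∧ (u : M) = f (D.T i) then Classical.choose hex else 0

variable {M : Type*} [Monoid M] {D : CayleyData} {mulC : ℕ → ℕ → ℕ} {oneC : ℕ}
  (f : ℕ → M)

lemma CayleyData.idx_spec (u : Mˣ) (hex : ∃ i, i < D.n ∧ (u : M) = f (D.T i)) :
    D.idx f u < D.n ∧ (u : M) = f (D.T (D.idx f u)) := by
  rw [CayleyData.idx, dif_pos hex]
  exact Classical.choose_spec hex

lemma CayleyData.idx_unique (finj : ∀ i < D.n, ∀ j < D.n, f (D.T i) = f (D.T j) → i = j)
    (u : Mˣ) (j : ℕ) (hj : j < D.n) (hu : (u : M) = f (D.T j)) : D.idx f u = j := by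
  obtain ⟨h1, h2⟩ := D.idx_spec f u ⟨j, hj, hu⟩
  exact finj _ h1 _ hj (h2.symm.trans hu)

variable [Finite Mˣ] (h : D.Valid mulC oneC) (hmul : ∀ x y, f (mulC x y) = f x * f y)
  (hone : f oneC = 1) (S : Set Mˣ) (hS : Units.val '' S = D.genSet f)

include h hmul hone hS

/-- Membership in the subgroup of units generated by the generators. -/
theorem CayleyData.Valid.mem_closure_units_iff (u : Mˣ) :
    u ∈ Subgroup.closure S ↔ ∃ i, i < D.n ∧ (u : M) = f (D.T i) := by
  rw [Cfsg.Agent.Lib.Helper57.mem_closure_units_iff, hS, h.mem_closure_iff f hmul hone]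

omit [Finite Mˣ] in
/-- Every entry of the table is the value of a unit in the subgroup. -/
theorem CayleyData.Valid.exists_unit (i : ℕ) (hi : i < D.n) :
    ∃ u ∈ Subgroup.closure S, (u : M) = f (D.T i) := by
  have h1 : f (D.T i) ∈ Submonoid.closure (D.genSet f) :=
    (h.mem_closure_iff f hmul hone _).2 ⟨i, hi, rfl⟩
  rw [← hS] at h1
  have h2 : Submonoid.closure (Units.val '' S) = (Submonoid.closure S).map (Units.coeHom M) := by
    rw [MonoidHom.map_mclosure]
    rfl
  rw [h2, Submonoid.mem_map] at h1
  obtain ⟨v, hv, hvu⟩ := h1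
  exact ⟨v, Subgroup.le_closure_toSubmonoid S hv, hvu⟩

/-- The order of the subgroup of units generated by the generators. -/
theorem CayleyData.Valid.card_closure
    (finj : ∀ i < D.n, ∀ j < D.n, f (D.T i) = f (D.T j) → i = j) :
    Nat.card (Subgroup.closure S) = D.n := by
  have hmem := h.mem_closure_units_iff f hmul hone S hS
  have hb : Function.Bijective (fun u : Subgroup.closure S =>
      (⟨D.idx f u, (D.idx_spec f u ((hmem u).1 u.2)).1⟩ : Fin D.n)) := by
    constructor
    · intro u v huv
      have h1 := (D.idx_spec f u ((hmem u).1 u.2)).2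
      have h2 := (D.idx_spec f v ((hmem v).1 v.2)).2
      have h3 : D.idx f u = D.idx f v := congrArg Fin.val huv
      apply Subtype.ext
      apply Units.ext
      rw [h1, h2, h3]
    · intro i
      obtain ⟨u, hu, hui⟩ := h.exists_unit f hmul hone S hS i.1 i.2
      refine ⟨⟨u, hu⟩, ?_⟩
      apply Fin.ext
      exact D.idx_unique f finj u i.1 i.2 hui
  rw [Nat.card_congr (Equiv.ofBijective _ hb), Nat.card_eq_fintype_card, Fintype.card_fin]

end UnitsTable

/-- If a subgroup `N` is stable under conjugation by a set `S` of generators and their inverses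
and contains the commutators of the elements of `S`, then it contains the commutator subgroup of
the subgroup generated by `S`. -/
theorem commutator_closure_le {A : Type*} [Group A] (S : Set A) (N : Subgroup A)
    (hconj : ∀ s ∈ S, ∀ x ∈ N, s * x * s⁻¹ ∈ N ∧ s⁻¹ * x * s ∈ N)
    (hcomm : ∀ s ∈ S, ∀ t ∈ S, ⁅s, t⁆ ∈ N) :
    ⁅Subgroup.closure S, Subgroup.closure S⁆ ≤ N := by
  have hK : Subgroup.closure S ≤ Subgroup.normalizer (N : Set A) := by
    rw [Subgroup.closure_le]
    intro s hs
    rw [SetLike.mem_coe, Subgroup.mem_normalizer_iff]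
    intro x
    constructor
    · intro hx
      exact (hconj s hs x hx).1
    · intro hx
      have := (hconj s hs _ hx).2
      have h2 : s⁻¹ * (s * x * s⁻¹) * s = x := by group
      rwa [h2] at this
  let K := Subgroup.normalizer (N : Set A)
  let N' : Subgroup K := N.subgroupOf K
  have : N'.Normal := Subgroup.normal_in_normalizer
  let π : K →* K ⧸ N' := QuotientGroup.mk' N'
  -- the images of the generators commute
  let S' : Set (K ⧸ N') := {q | ∃ s, ∃ hs : s ∈ S, q = π ⟨s, hK (Subgroup.subset_closure hs)⟩}
  have hS'comm : ∀ a ∈ S', ∀ b ∈ S', a * b = b * a := by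
    rintro _ ⟨s, hs, rfl⟩ _ ⟨t, ht, rfl⟩
    rw [← commutatorElement_eq_one_iff_mul_comm, ← map_commutatorElement]
    show π _ = 1
    rw [QuotientGroup.mk'_apply, QuotientGroup.eq_one_iff]
    show ((⁅(⟨s, _⟩ : K), ⟨t, _⟩⁆ : K) : A) ∈ N
    exact hcomm s hs t ht
  have himg : ∀ g (hg : g ∈ Subgroup.closure S), π ⟨g, hK hg⟩ ∈ Subgroup.closure S' := by
    intro g hg
    induction hg using Subgroup.closure_induction with
    | mem s hs => exact Subgroup.subset_closure ⟨s, hs, rfl⟩
    | one => exact one_mem _
    | mul a b ha hb iha ihb =>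
      have : (⟨a * b, hK (mul_mem ha hb)⟩ : K) = ⟨a, hK ha⟩ * ⟨b, hK hb⟩ := rfl
      rw [this, map_mul]
      exact mul_mem iha ihb
    | inv a ha iha =>
      have : (⟨a⁻¹, hK (inv_mem ha)⟩ : K) = (⟨a, hK ha⟩ : K)⁻¹ := rfl
      rw [this, map_inv]
      exact inv_mem iha
  have hcl : ∀ a ∈ Subgroup.closure S', ∀ b ∈ Subgroup.closure S', a * b = b * a := by
    intro a ha b hb
    have h1 : Subgroup.closure S' ≤ Subgroup.centralizer S' := by
      rw [Subgroup.closure_le]
      intro x hx
      rw [SetLike.mem_coe, Subgroup.mem_centralizer_iff]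
      intro y hy
      exact hS'comm y hy x hx
    have h2 := Subgroup.closure_le_centralizer_centralizer S' ha
    rw [Subgroup.mem_centralizer_iff] at h2
    exact (h2 b (h1 hb)).symm
  rw [Subgroup.commutator_le]
  intro g hg k hk
  have h1 : π ⁅(⟨g, hK hg⟩ : K), ⟨k, hK hk⟩⁆ = 1 := by
    rw [map_commutatorElement, commutatorElement_eq_one_iff_mul_comm]
    exact hcl _ (himg g hg) _ (himg k hk)
  rw [QuotientGroup.mk'_apply, QuotientGroup.eq_one_iff] at h1
  exact h1

end Cfsg.Agent.Lib.Helper57
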