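import Cfsg.Agent.Lib.Helper57.PackedCayley

set_option autoImplicit false

/-!
# Finite groups given by a sorted table of codes: the version for an injective homomorphism

The analogue of the unit group part of `PackedCayley` for a finite group `G` with an injective
monoid homomorphism `ι : G →* M` to the monoid whose elements are coded.
-/

namespace Cfsg.Agent.Lib.Helper57

namespace CayleyData

variable {D : CayleyData} {mulC : ℕ → ℕ → ℕ} {oneC : ℕ} {M : Type*} [Monoid M] (f : ℕ → M)

/-- The elements of the table are exactly the elements of the submonoid generated by the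
generators; the product of codes need only be right multiplication by the generators. -/
theorem Valid.mem_closure_iff' (h : D.Valid mulC oneC)
    (hmul : ∀ x, ∀ k < D.ng, f (mulC x (D.gc k)) = f x * f (D.gc k)) (hone : f oneC = 1) (x : M) :
    x ∈ Submonoid.closure (D.genSet f) ↔ ∃ i < D.n, x = f (D.T i) := by
  constructor
  · intro hx
    induction hx using Submonoid.closure_induction_right with
    | one => exact ⟨D.i0, h.i0_lt, by rw [h.T_i0, hone]⟩
    | mul_right x _ s hs ih =>
      obtain ⟨i, hi, rfl⟩ := ih
      obtain ⟨k, hk, rfl⟩ := hs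
      obtain ⟨h1, h2⟩ := h.nxt_spec i k hi hk
      exact ⟨D.nxt i k, h1, by rw [← h2, hmul _ k hk]⟩
  · rintro ⟨i, hi, rfl⟩
    have key : ∀ d : ℕ, ∀ i < D.n, D.dep i = d → f (D.T i) ∈ Submonoid.closure (D.genSet f) := by
      intro d
      induction d using Nat.strong_induction_on with
      | _ d ih =>
        intro i hi hd
        rcases h.par_spec i hi with h1 | ⟨h1, h2, h3, h4⟩
        · rw [h1, h.T_i0, hone]
          exact one_mem _
        · have h5 := ih _ (hd ▸ h4) (D.par i) h1 rfl
          obtain ⟨_, h6⟩ := h.nxt_spec (D.par i) (D.pg i) h1 h2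
          rw [h3] at h6
          rw [← h6, hmul _ _ h2]
          exact mul_mem h5 (Submonoid.subset_closure ⟨D.pg i, h2, rfl⟩)
    exact key _ i hi rfl

/-- The entry `i` of the table `nxt` describes right multiplication by the generators. -/
def nextAt (D : CayleyData) (mulC : ℕ → ℕ → ℕ) (i : ℕ) : Bool :=
  (List.range D.ng).all fun k =>
    decide (D.nxt i k < D.n) && mulC (D.T i) (D.gc k) == D.T (D.nxt i k)

lemma chkNext_of_forall (h : ∀ i < D.n, D.nextAt mulC i = true) : D.chkNext mulC = true := by
  rw [chkNext, List.all_eq_true]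
  intro i hi
  exact h i (List.mem_range.1 hi)

end CayleyData

/-- A Boolean predicate holds on `lo, …, lo + len - 1`. -/
def allFrom (lo len : ℕ) (p : ℕ → Bool) : Bool := (List.range' lo len).all p

lemma allFrom_spec {lo len : ℕ} {p : ℕ → Bool} (h : allFrom lo len p = true) (i : ℕ)
    (h1 : lo ≤ i) (h2 : i < lo + len) : p i = true := by
  rw [allFrom, List.all_eq_true] at h
  exact h i (List.mem_range'_1.2 ⟨h1, h2⟩)

section HomTable

variable {G M : Type*} [Group G] [Monoid M]

/-- Membership in the subgroup generated by a set is membership of the image in the submonoid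
generated by the images. -/
theorem mem_closure_hom_iff [Finite G] (ι : G →* M) (hι : Function.Injective ι) (S : Set G)
    (g : G) : g ∈ Subgroup.closure S ↔ ι g ∈ Submonoid.closure (ι '' S) := by
  have h1 : g ∈ Subgroup.closure S ↔ g ∈ Submonoid.closure S := by
    rw [← Subgroup.closure_toSubmonoid_of_finite, Subgroup.mem_toSubmonoid]
  have h2 : Submonoid.closure (ι '' S) = (Submonoid.closure S).map ι := by
    rw [MonoidHom.map_mclosure]
  rw [h1, h2, Submonoid.mem_map]
  constructor
  · intro hu
    exact ⟨g, hu, rfl⟩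
  · rintro ⟨v, hv, hvu⟩
    have : v = g := hι hvu
    rwa [← this]

open Classical in
/-- The index of (the image of) a group element in the table. -/
noncomputable def CayleyData.idxH (D : CayleyData) (f : ℕ → M) (ι : G →* M) (g : G) : ℕ :=
  if hex : ∃ i, i < D.n ∧ ι g = f (D.T i) then Classical.choose hex else 0

variable {D : CayleyData} {mulC : ℕ → ℕ → ℕ} {oneC : ℕ} (f : ℕ → M) (ι : G →* M)

lemma CayleyData.idxH_spec (g : G) (hex : ∃ i, i < D.n ∧ ι g = f (D.T i)) :
    D.idxH f ι g < D.n ∧ ι g = f (D.T (D.idxH f ι g)) := by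
  rw [CayleyData.idxH, dif_pos hex]
  exact Classical.choose_spec hex

lemma CayleyData.idxH_unique (finj : ∀ i < D.n, ∀ j < D.n, f (D.T i) = f (D.T j) → i = j)
    (g : G) (j : ℕ) (hj : j < D.n) (hg : ι g = f (D.T j)) : D.idxH f ι g = j := by
  obtain ⟨h1, h2⟩ := D.idxH_spec f ι g ⟨j, hj, hg⟩
  exact finj _ h1 _ hj (h2.symm.trans hg)

variable (hι : Function.Injective ι) (h : D.Valid mulC oneC)
  (hmul : ∀ x, ∀ k < D.ng, f (mulC x (D.gc k)) = f x * f (D.gc k)) (hone : f oneC = 1) (S : Set G)
  (hS : ι '' S = D.genSet f)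

include hι h hmul hone hS

/-- Membership in the subgroup generated by the generators. -/
theorem CayleyData.Valid.mem_closure_hom_iff [Finite G] (g : G) :
    g ∈ Subgroup.closure S ↔ ∃ i, i < D.n ∧ ι g = f (D.T i) := by
  rw [Cfsg.Agent.Lib.Helper57.mem_closure_hom_iff ι hι, hS, h.mem_closure_iff' f hmul hone]

omit hι in
/-- Every entry of the table is the image of an element of the subgroup. -/
theorem CayleyData.Valid.exists_of_index (i : ℕ) (hi : i < D.n) :
    ∃ g ∈ Subgroup.closure S, ι g = f (D.T i) := by
  have h1 : f (D.T i) ∈ Submonoid.closure (D.genSet f) :=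
    (h.mem_closure_iff' f hmul hone _).2 ⟨i, hi, rfl⟩
  rw [← hS] at h1
  have h2 : Submonoid.closure (ι '' S) = (Submonoid.closure S).map ι := by
    rw [MonoidHom.map_mclosure]
  rw [h2, Submonoid.mem_map] at h1
  obtain ⟨v, hv, hvu⟩ := h1
  exact ⟨v, Subgroup.le_closure_toSubmonoid S hv, hvu⟩

/-- The order of the subgroup generated by the generators. -/
theorem CayleyData.Valid.card_closure_hom [Finite G]
    (finj : ∀ i < D.n, ∀ j < D.n, f (D.T i) = f (D.T j) → i = j) :
    Nat.card (Subgroup.closure S) = D.n := by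
  have hmem := h.mem_closure_hom_iff f ι hι hmul hone S hS
  have hb : Function.Bijective (fun u : Subgroup.closure S =>
      (⟨D.idxH f ι (u : G), (D.idxH_spec f ι _ ((hmem u).1 u.2)).1⟩ : Fin D.n)) := by
    constructor
    · intro u v huv
      have h1 := (D.idxH_spec f ι _ ((hmem u).1 u.2)).2
      have h2 := (D.idxH_spec f ι _ ((hmem v).1 v.2)).2
      have h3 : D.idxH f ι (u : G) = D.idxH f ι (v : G) := congrArg Fin.val huv
      apply Subtype.ext
      apply hι
      rw [h1, h2, h3]
    · intro i
      obtain ⟨u, hu, hui⟩ := h.exists_of_index f ι hmul hone S hS i.1 i.2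
      refine ⟨⟨u, hu⟩, ?_⟩
      apply Fin.ext
      exact D.idxH_unique f ι finj u i.1 i.2 hui
  rw [Nat.card_congr (Equiv.ofBijective _ hb), Nat.card_eq_fintype_card, Fintype.card_fin]

end HomTable

end Cfsg.Agent.Lib.Helper57
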