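import Cfsg.Agent.Lib.Helper57.PackedCayley2

set_option autoImplicit false

/-!
# Finite groups of units given by a sorted table of codes: products of table entries only

The version of the unit group part of `PackedCayley` in which the product of codes need only be
correct for the products of the entries of the table with the generators.
-/

namespace Cfsg.Agent.Lib.Helper57

namespace CayleyData

variable {D : CayleyData} {mulC : ℕ → ℕ → ℕ} {oneC : ℕ} {M : Type*} [Monoid M] (f : ℕ → M)

/-- The elements of the table are exactly the elements of the submonoid generated by the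
generators; the product of codes need only be right multiplication of the entries of the table
by the generators. -/
theorem Valid.mem_closure_iff_of_table (h : D.Valid mulC oneC)
    (hmul : ∀ i < D.n, ∀ k < D.ng, f (mulC (D.T i) (D.gc k)) = f (D.T i) * f (D.gc k))
    (hone : f oneC = 1) (x : M) :
    x ∈ Submonoid.closure (D.genSet f) ↔ ∃ i < D.n, x = f (D.T i) := by
  constructor
  · intro hx
    induction hx using Submonoid.closure_induction_right with
    | one => exact ⟨D.i0, h.i0_lt, by rw [h.T_i0, hone]⟩
    | mul_right x _ s hs ih =>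
      obtain ⟨i, hi, rfl⟩ := ih
      obtain ⟨k, hk, rfl⟩ := hs
      obtain ⟨h1, h2⟩ := h.nxt_spec i k hi hk
      exact ⟨D.nxt i k, h1, by rw [← h2, hmul i hi k hk]⟩
  · rintro ⟨i, hi, rfl⟩
    have key : ∀ d : ℕ, ∀ i < D.n, D.dep i = d → f (D.T i) ∈ Submonoid.closure (D.genSet f) := by
      intro d
      induction d using Nat.strong_induction_on with
      | _ d ih =>
        intro i hi hd
        rcases h.par_spec i hi with h1 | ⟨h1, h2, h3, h4⟩
        · rw [h1, h.T_i0, hone]
          exact one_mem _
        · have h5 := ih _ (hd ▸ h4) (D.par i) h1 rfl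
          obtain ⟨_, h6⟩ := h.nxt_spec (D.par i) (D.pg i) h1 h2
          rw [h3] at h6
          rw [← h6, hmul _ h1 _ h2]
          exact mul_mem h5 (Submonoid.subset_closure ⟨D.pg i, h2, rfl⟩)
    exact key _ i hi rfl

end CayleyData

section UnitsTable

variable {M : Type*} [Monoid M] {D : CayleyData} {mulC : ℕ → ℕ → ℕ} {oneC : ℕ}
  (f : ℕ → M)

variable [Finite Mˣ] (h : D.Valid mulC oneC)
  (hmul : ∀ i < D.n, ∀ k < D.ng, f (mulC (D.T i) (D.gc k)) = f (D.T i) * f (D.gc k))
  (hone : f oneC = 1) (S : Set Mˣ) (hS : Units.val '' S = D.genSet f)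

include h hmul hone hS

/-- Membership in the subgroup of units generated by the generators. -/
theorem CayleyData.Valid.mem_closure_units_iff_of_table (u : Mˣ) :
    u ∈ Subgroup.closure S ↔ ∃ i, i < D.n ∧ (u : M) = f (D.T i) := by
  rw [Cfsg.Agent.Lib.Helper57.mem_closure_units_iff, hS, h.mem_closure_iff_of_table f hmul hone]

omit [Finite Mˣ] in
/-- Every entry of the table is the value of a unit in the subgroup. -/
theorem CayleyData.Valid.exists_unit_of_table (i : ℕ) (hi : i < D.n) :
    ∃ u ∈ Subgroup.closure S, (u : M) = f (D.T i) := by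
  have h1 : f (D.T i) ∈ Submonoid.closure (D.genSet f) :=
    (h.mem_closure_iff_of_table f hmul hone _).2 ⟨i, hi, rfl⟩
  rw [← hS] at h1
  have h2 : Submonoid.closure (Units.val '' S) = (Submonoid.closure S).map (Units.coeHom M) := by
    rw [MonoidHom.map_mclosure]
    rfl
  rw [h2, Submonoid.mem_map] at h1
  obtain ⟨v, hv, hvu⟩ := h1
  exact ⟨v, Subgroup.le_closure_toSubmonoid S hv, hvu⟩

/-- The order of the subgroup of units generated by the generators. -/
theorem CayleyData.Valid.card_closure_of_table
    (finj : ∀ i < D.n, ∀ j < D.n, f (D.T i) = f (D.T j) → i = j) :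
    Nat.card (Subgroup.closure S) = D.n := by
  have hmem := h.mem_closure_units_iff_of_table f hmul hone S hS
  have hb : Function.Bijective (fun u : Subgroup.closure S =>
      (⟨D.idx f u, (D.idx_spec f u ((hmem u).1 u.2)).1⟩ : Fin D.n)) := by
    constructor
    · intro u v huv
      have h1 := (D.idx_spec f u ((hmem u).1 u.2)).2
      have h2 := (D.idx_spec f v ((hmem v).1 v.2)).2
      have h3 : D.idx f u = D.idx f v := congrArg Fin.val huv
      apply Subtype.ext
      apply Units.ext
      rw [h1, h2, h3]
    · intro i
      obtain ⟨u, hu, hui⟩ := h.exists_unit_of_table f hmul hone S hS i.1 i.2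
      refine ⟨⟨u, hu⟩, ?_⟩
      apply Fin.ext
      exact D.idx_unique f finj u i.1 i.2 hui
  rw [Nat.card_congr (Equiv.ofBijective _ hb), Nat.card_eq_fintype_card, Fintype.card_fin]

end UnitsTable

/-- A subgroup generated by a set `T` is mapped into a subgroup `N` by conjugation by `s` as soon
as the conjugates of the elements of `T` are in `N`. -/
theorem conj_closure_le {A : Type*} [Group A] (T : Set A) (N : Subgroup A) (s : A)
    (h : ∀ t ∈ T, s * t * s⁻¹ ∈ N) : ∀ x ∈ Subgroup.closure T, s * x * s⁻¹ ∈ N := by
  intro x hx
  induction hx using Subgroup.closure_induction with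
  | mem x hx => exact h x hx
  | one => simp
  | mul x y _ _ ihx ihy =>
    have : s * (x * y) * s⁻¹ = (s * x * s⁻¹) * (s * y * s⁻¹) := by group
    rw [this]
    exact mul_mem ihx ihy
  | inv x _ ih =>
    have : s * x⁻¹ * s⁻¹ = (s * x * s⁻¹)⁻¹ := by group
    rw [this]
    exact inv_mem ih

end Cfsg.Agent.Lib.Helper57
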