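import Cfsg.Agent.Lib.Helper57.PackedCayley3

set_option autoImplicit false

/-!
# Checks of the tables of a Cayley graph by pieces

The Boolean checks `chkSorted` and `chkPar` of `PackedCayley` follow from the checks at each index,
which can be done on pieces of the range of indices (`allFrom`).
-/

namespace Cfsg.Agent.Lib.Helper57

namespace CayleyData

variable (D : CayleyData)

/-- The table of codes is increasing at the index `i`. -/
def sortedAt (i : ℕ) : Bool := decide (D.T i < D.T (i + 1))

/-- The tables `par`, `pg`, `dep` describe a spanning tree at the index `i`. -/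
def parAt (i : ℕ) : Bool :=
  i == D.i0 ||
    (decide (D.par i < D.n) && decide (D.pg i < D.ng) && D.nxt (D.par i) (D.pg i) == i &&
      decide (D.dep (D.par i) < D.dep i))

variable {D}

lemma chkSorted_of_forall (h : ∀ i < D.n - 1, D.sortedAt i = true) : D.chkSorted = true := by
  rw [chkSorted, List.all_eq_true]
  intro i hi
  exact h i (List.mem_range.1 hi)

lemma chkPar_of_forall (h : ∀ i < D.n, D.parAt i = true) : D.chkPar = true := by
  rw [chkPar, List.all_eq_true]
  intro i hi
  exact h i (List.mem_range.1 hi)

end CayleyData

end Cfsg.Agent.Lib.Helper57
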