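import Mathlib.Tactic
import Cfsg.Agent.Lib.Helper57.QuadMat2

set_option autoImplicit false

/-!
# `3 × 3` matrices over `𝔽_p[√d]` coded by natural numbers

The analogue of `QuadMat2` for `3 × 3` matrices: a structure `NM3` of 18 natural number
coordinates, product reduced modulo `p`, base `p` codes.
-/

namespace Cfsg.Agent.Lib.Helper57

/-- Base `p` encoding of a list of digits. -/
def encL (p : ℕ) : List ℕ → ℕ
  | [] => 0
  | a :: l => a + p * encL p l

/-- Base `p` decoding into `n` digits. -/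
def decL (p : ℕ) : ℕ → ℕ → List ℕ
  | 0, _ => []
  | n + 1, c => natForce (c / p) fun c' => (c % p) :: decL p n c'

lemma decL_encL (p : ℕ) (l : List ℕ) (h : ∀ a ∈ l, a < p) : decL p l.length (encL p l) = l := by
  induction l with
  | nil => rfl
  | cons a l ih =>
    have ha : a < p := h a List.mem_cons_self
    have hp : 0 < p := lt_of_le_of_lt (Nat.zero_le _) ha
    rw [List.length_cons, decL, natForce_eq, encL, Nat.add_mul_mod_self_left, Nat.mod_eq_of_lt ha,
      Nat.add_mul_div_left _ _ hp, Nat.div_eq_of_lt ha, zero_add,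
      ih (fun b hb => h b (List.mem_cons_of_mem _ hb))]

lemma decL_lt (p : ℕ) (hp : 0 < p) (n c : ℕ) : ∀ a ∈ decL p n c, a < p := by
  induction n generalizing c with
  | zero => intro a ha; simp [decL] at ha
  | succ n ih =>
    intro a ha
    rw [decL, natForce_eq, List.mem_cons] at ha
    rcases ha with rfl | ha
    · exact Nat.mod_lt _ hp
    · exact ih _ a ha

lemma decL_length (p : ℕ) (n c : ℕ) : (decL p n c).length = n := by
  induction n generalizing c with
  | zero => rfl
  | succ n ih => rw [decL, natForce_eq, List.length_cons, ih]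

/-- `3 × 3` matrices over `𝔽_p[√d]` with natural number coordinates. -/
structure NM3 where
  e00r : ℕ
  e00i : ℕ
  e01r : ℕ
  e01i : ℕ
  e02r : ℕ
  e02i : ℕ
  e10r : ℕ
  e10i : ℕ
  e11r : ℕ
  e11i : ℕ
  e12r : ℕ
  e12i : ℕ
  e20r : ℕ
  e20i : ℕ
  e21r : ℕ
  e21i : ℕ
  e22r : ℕ
  e22i : ℕ
deriving DecidableEq

namespace NM3

variable (p d : ℕ)

/-- Matrix product, reduced modulo `p`. -/
def mul (x y : NM3) : NM3 :=
  ⟨((x.e00r * y.e00r + d * (x.e00i * y.e00i)) + (x.e01r * y.e10r + d * (x.e01i * y.e10i)) + (x.e02r * y.e20r + d * (x.e02i * y.e20i))) % p,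
   ((x.e00r * y.e00i + x.e00i * y.e00r) + (x.e01r * y.e10i + x.e01i * y.e10r) + (x.e02r * y.e20i + x.e02i * y.e20r)) % p,
   ((x.e00r * y.e01r + d * (x.e00i * y.e01i)) + (x.e01r * y.e11r + d * (x.e01i * y.e11i)) + (x.e02r * y.e21r + d * (x.e02i * y.e21i))) % p,
   ((x.e00r * y.e01i + x.e00i * y.e01r) + (x.e01r * y.e11i + x.e01i * y.e11r) + (x.e02r * y.e21i + x.e02i * y.e21r)) % p,
   ((x.e00r * y.e02r + d * (x.e00i * y.e02i)) + (x.e01r * y.e12r + d * (x.e01i * y.e12i)) + (x.e02r * y.e22r + d * (x.e02i * y.e22i))) % p,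
   ((x.e00r * y.e02i + x.e00i * y.e02r) + (x.e01r * y.e12i + x.e01i * y.e12r) + (x.e02r * y.e22i + x.e02i * y.e22r)) % p,
   ((x.e10r * y.e00r + d * (x.e10i * y.e00i)) + (x.e11r * y.e10r + d * (x.e11i * y.e10i)) + (x.e12r * y.e20r + d * (x.e12i * y.e20i))) % p,
   ((x.e10r * y.e00i + x.e10i * y.e00r) + (x.e11r * y.e10i + x.e11i * y.e10r) + (x.e12r * y.e20i + x.e12i * y.e20r)) % p,
   ((x.e10r * y.e01r + d * (x.e10i * y.e01i)) + (x.e11r * y.e11r + d * (x.e11i * y.e11i)) + (x.e12r * y.e21r + d * (x.e12i * y.e21i))) % p,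
   ((x.e10r * y.e01i + x.e10i * y.e01r) + (x.e11r * y.e11i + x.e11i * y.e11r) + (x.e12r * y.e21i + x.e12i * y.e21r)) % p,
   ((x.e10r * y.e02r + d * (x.e10i * y.e02i)) + (x.e11r * y.e12r + d * (x.e11i * y.e12i)) + (x.e12r * y.e22r + d * (x.e12i * y.e22i))) % p,
   ((x.e10r * y.e02i + x.e10i * y.e02r) + (x.e11r * y.e12i + x.e11i * y.e12r) + (x.e12r * y.e22i + x.e12i * y.e22r)) % p,
   ((x.e20r * y.e00r + d * (x.e20i * y.e00i)) + (x.e21r * y.e10r + d * (x.e21i * y.e10i)) + (x.e22r * y.e20r + d * (x.e22i * y.e20i))) % p,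
   ((x.e20r * y.e00i + x.e20i * y.e00r) + (x.e21r * y.e10i + x.e21i * y.e10r) + (x.e22r * y.e20i + x.e22i * y.e20r)) % p,
   ((x.e20r * y.e01r + d * (x.e20i * y.e01i)) + (x.e21r * y.e11r + d * (x.e21i * y.e11i)) + (x.e22r * y.e21r + d * (x.e22i * y.e21i))) % p,
   ((x.e20r * y.e01i + x.e20i * y.e01r) + (x.e21r * y.e11i + x.e21i * y.e11r) + (x.e22r * y.e21i + x.e22i * y.e21r)) % p,
   ((x.e20r * y.e02r + d * (x.e20i * y.e02i)) + (x.e21r * y.e12r + d * (x.e21i * y.e12i)) + (x.e22r * y.e22r + d * (x.e22i * y.e22i))) % p,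
   ((x.e20r * y.e02i + x.e20i * y.e02r) + (x.e21r * y.e12i + x.e21i * y.e12r) + (x.e22r * y.e22i + x.e22i * y.e22r)) % p⟩

/-- The identity matrix. -/
def one : NM3 := ⟨1, 0, 0, 0, 0, 0, 0, 0, 1, 0, 0, 0, 0, 0, 0, 0, 1, 0⟩

/-- The list of coordinates. -/
def toList (x : NM3) : List ℕ :=
  [x.e00r, x.e00i, x.e01r, x.e01i, x.e02r, x.e02i, x.e10r, x.e10i, x.e11r, x.e11i, x.e12r, x.e12i, x.e20r, x.e20i, x.e21r, x.e21i, x.e22r, x.e22i]

/-- The matrix with a given list of coordinates. -/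
def ofList : List ℕ → NM3
  | [a0, a1, a2, a3, a4, a5, a6, a7, a8, a9, a10, a11, a12, a13, a14, a15, a16, a17] =>
    ⟨a0, a1, a2, a3, a4, a5, a6, a7, a8, a9, a10, a11, a12, a13, a14, a15, a16, a17⟩
  | _ => one

lemma ofList_toList (x : NM3) : ofList (toList x) = x := by
  cases x
  rfl

lemma toList_length (x : NM3) : (toList x).length = 18 := rfl

/-- Base `p` encoding. -/
def enc (x : NM3) : ℕ := encL p (toList x)

/-- Base `p` decoding. -/
def dec (c : ℕ) : NM3 := ofList (decL p 18 c)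

/-- All coordinates are reduced modulo `p`. -/
def Reduced (x : NM3) : Prop := ∀ a ∈ toList x, a < p

lemma dec_enc (x : NM3) (hx : x.Reduced p) : dec p (enc p x) = x := by
  have := decL_encL p (toList x) hx
  rw [toList_length] at this
  rw [dec, enc, this, ofList_toList]

lemma toList_ofList (l : List ℕ) (hl : l.length = 18) : toList (ofList l) = l := by
  match l, hl with
  | [a0, a1, a2, a3, a4, a5, a6, a7, a8, a9, a10, a11, a12, a13, a14, a15, a16, a17], _ => rfl

lemma dec_reduced (hp : 0 < p) (c : ℕ) : (dec p c).Reduced p := by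
  intro a ha
  rw [dec, toList_ofList _ (decL_length p 18 c)] at ha
  exact decL_lt p hp 18 c a ha

lemma mul_reduced (hp : 0 < p) (x y : NM3) : (mul p d x y).Reduced p := by
  intro a ha
  simp only [toList, mul, List.mem_cons, List.not_mem_nil, or_false] at ha
  rcases ha with rfl | rfl | rfl | rfl | rfl | rfl | rfl | rfl | rfl | rfl | rfl | rfl | rfl | rfl | rfl | rfl | rfl | rfl <;> exact Nat.mod_lt _ hp

lemma one_reduced (hp : 1 < p) : one.Reduced p := by
  intro a ha
  simp only [toList, one, List.mem_cons, List.not_mem_nil, or_false] at ha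
  omega

/-- The matrix over `𝔽_p[√d]` with the given coordinates. -/
def toM (x : NM3) : Matrix (Fin 3) (Fin 3) (QF p d) :=
  !![⟨(x.e00r : ZMod p), (x.e00i : ZMod p)⟩, ⟨(x.e01r : ZMod p), (x.e01i : ZMod p)⟩, ⟨(x.e02r : ZMod p), (x.e02i : ZMod p)⟩;
     ⟨(x.e10r : ZMod p), (x.e10i : ZMod p)⟩, ⟨(x.e11r : ZMod p), (x.e11i : ZMod p)⟩, ⟨(x.e12r : ZMod p), (x.e12i : ZMod p)⟩;
     ⟨(x.e20r : ZMod p), (x.e20i : ZMod p)⟩, ⟨(x.e21r : ZMod p), (x.e21i : ZMod p)⟩, ⟨(x.e22r : ZMod p), (x.e22i : ZMod p)⟩]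

lemma toM_mul (x y : NM3) : toM p d (mul p d x y) = toM p d x * toM p d y := by
  ext i j <;> fin_cases i <;> fin_cases j <;>
    simp [toM, mul, Matrix.mul_apply, Fin.sum_univ_three, ZMod.natCast_mod] <;> ring

lemma toM_one : toM p d one = 1 := by
  ext i j <;> fin_cases i <;> fin_cases j <;>
    simp [toM, one, QuadraticAlgebra.re_one, QuadraticAlgebra.im_one]

lemma toM_injOn (x y : NM3) (hx : x.Reduced p) (hy : y.Reduced p)
    (h : toM p d x = toM p d y) : x = y := by
  have hcast : ∀ a b : ℕ, a ∈ toList x → b ∈ toList y → ((a : ZMod p) = (b : ZMod p)) → a = b := by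
    intro a b ha hb hab
    have := (ZMod.natCast_eq_natCast_iff' a b p).1 hab
    rwa [Nat.mod_eq_of_lt (hx a ha), Nat.mod_eq_of_lt (hy b hb)] at this
  have e : ∀ i j, toM p d x i j = toM p d y i j := fun i j => by rw [h]
  cases x; cases y
  simp only [NM3.mk.injEq]
  refine ⟨?_, ?_, ?_, ?_, ?_, ?_, ?_, ?_, ?_, ?_, ?_, ?_, ?_, ?_, ?_, ?_, ?_, ?_⟩
  · exact hcast _ _ (by simp [toList]) (by simp [toList]) (by simpa [toM] using congrArg QuadraticAlgebra.re (e 0 0))
  · exact hcast _ _ (by simp [toList]) (by simp [toList]) (by simpa [toM] using congrArg QuadraticAlgebra.im (e 0 0))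
  · exact hcast _ _ (by simp [toList]) (by simp [toList]) (by simpa [toM] using congrArg QuadraticAlgebra.re (e 0 1))
  · exact hcast _ _ (by simp [toList]) (by simp [toList]) (by simpa [toM] using congrArg QuadraticAlgebra.im (e 0 1))
  · exact hcast _ _ (by simp [toList]) (by simp [toList]) (by simpa [toM] using congrArg QuadraticAlgebra.re (e 0 2))
  · exact hcast _ _ (by simp [toList]) (by simp [toList]) (by simpa [toM] using congrArg QuadraticAlgebra.im (e 0 2))
  · exact hcast _ _ (by simp [toList]) (by simp [toList]) (by simpa [toM] using congrArg QuadraticAlgebra.re (e 1 0))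
  · exact hcast _ _ (by simp [toList]) (by simp [toList]) (by simpa [toM] using congrArg QuadraticAlgebra.im (e 1 0))
  · exact hcast _ _ (by simp [toList]) (by simp [toList]) (by simpa [toM] using congrArg QuadraticAlgebra.re (e 1 1))
  · exact hcast _ _ (by simp [toList]) (by simp [toList]) (by simpa [toM] using congrArg QuadraticAlgebra.im (e 1 1))
  · exact hcast _ _ (by simp [toList]) (by simp [toList]) (by simpa [toM] using congrArg QuadraticAlgebra.re (e 1 2))
  · exact hcast _ _ (by simp [toList]) (by simp [toList]) (by simpa [toM] using congrArg QuadraticAlgebra.im (e 1 2))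
  · exact hcast _ _ (by simp [toList]) (by simp [toList]) (by simpa [toM] using congrArg QuadraticAlgebra.re (e 2 0))
  · exact hcast _ _ (by simp [toList]) (by simp [toList]) (by simpa [toM] using congrArg QuadraticAlgebra.im (e 2 0))
  · exact hcast _ _ (by simp [toList]) (by simp [toList]) (by simpa [toM] using congrArg QuadraticAlgebra.re (e 2 1))
  · exact hcast _ _ (by simp [toList]) (by simp [toList]) (by simpa [toM] using congrArg QuadraticAlgebra.im (e 2 1))
  · exact hcast _ _ (by simp [toList]) (by simp [toList]) (by simpa [toM] using congrArg QuadraticAlgebra.re (e 2 2))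
  · exact hcast _ _ (by simp [toList]) (by simp [toList]) (by simpa [toM] using congrArg QuadraticAlgebra.im (e 2 2))

end NM3

section Codes

variable (p d : ℕ)

/-- Product of codes. -/
def mulC3 (x y : ℕ) : ℕ :=
  natForce x fun x => natForce y fun y => NM3.enc p (NM3.mul p d (NM3.dec p x) (NM3.dec p y))

/-- The code of the identity matrix. -/
def oneC3 : ℕ := NM3.enc p NM3.one

/-- The matrix with a given code. -/
def fC3 (c : ℕ) : Matrix (Fin 3) (Fin 3) (QF p d) := NM3.toM p d (NM3.dec p c)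

lemma fC3_mulC3 (hp : 0 < p) (x y : ℕ) : fC3 p d (mulC3 p d x y) = fC3 p d x * fC3 p d y := by
  simp only [fC3, mulC3, natForce_eq]
  rw [NM3.dec_enc p _ (NM3.mul_reduced p d hp _ _), NM3.toM_mul]

lemma fC3_oneC3 (hp : 1 < p) : fC3 p d (oneC3 p) = 1 := by
  simp only [fC3, oneC3]
  rw [NM3.dec_enc p _ (NM3.one_reduced p hp), NM3.toM_one]

lemma fC3_eq_one_iff (hp : 1 < p) (c : ℕ) : fC3 p d c = 1 ↔ NM3.dec p c = NM3.one := by
  constructor
  · intro h
    rw [← NM3.toM_one p d] at h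
    exact NM3.toM_injOn p d _ _ (NM3.dec_reduced p (by omega) c) (NM3.one_reduced p hp) h
  · intro h
    rw [fC3, h, NM3.toM_one]

end Codes

end Cfsg.Agent.Lib.Helper57
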