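import Cfsg.Agent.Lib.Helper57.DataRee3a
import Cfsg.Agent.Lib.Helper57.DataRee3b
import Cfsg.Agent.Lib.Helper57.DataRee3c
import Cfsg.Agent.Lib.Helper57.CardSL

set_option autoImplicit false

/-!
# The derived subgroup of `²G₂(3)` is isomorphic to `SL₂(8)`

From the checked tables of `DataRee3`: the Ree group `²G₂(3)` is generated by two of its defining
generators `x`, `y`; the subgroup `N` generated by `a = [x, y]` and `b = y a y⁻¹` has 504 elements,
it is the derived subgroup, and the tabulated map is an isomorphism onto `SL₂(L)`, `|L| = 8`.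
-/

namespace Cfsg.Agent.Lib.Helper57.Ree3

open Cfsg.Lie Cfsg.Agent.Lib.Helper57 Matrix
open scoped commutatorElement

theorem DG_valid : DG.Valid mulR oneC := ⟨DG_sorted, DG_one, DG_next, DG_par⟩

theorem DN_valid : DN.Valid mulR oneC := ⟨DN_sorted, DN_one, DN_next, DN_par⟩

lemma DN_nxt : DN.nxt = nxtN := rfl

lemma DG_gc0 : DG.gc 0 = cx := rfl

lemma DG_gc1 : DG.gc 1 = cy := rfl

lemma DN_gc0 : DN.gc 0 = ca := rfl

lemma DN_gc1 : DN.gc 1 = cb := rfl

lemma DG_T : DG.T = TG := rfl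

lemma DN_T : DN.T = TN := rfl

lemma gcN_zero : gcN (0 : Fin 2).val = ca := rfl

lemma gcN_one : gcN (1 : Fin 2).val = cb := rfl

lemma f14_mul (X Y : ℕ) (hX : ValidP 3 64 14 X) (hY : ValidP 3 64 14 Y) :
    f14 (mulR X Y) = f14 X * f14 Y :=
  fP_mulP eIdx (by norm_num) (by norm_num) (by norm_num) X Y hX hY

lemma mulR_valid (X Y : ℕ) (hX : ValidP 3 64 14 X) (hY : ValidP 3 64 14 Y) :
    ValidP 3 64 14 (mulR X Y) :=
  mulP_valid (by norm_num) (by norm_num) (by norm_num) X Y hX hY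

lemma f14_inj (X Y : ℕ) (hX : ValidP 3 64 14 X) (hY : ValidP 3 64 14 Y) (h : f14 X = f14 Y) :
    X = Y :=
  fP_inj eIdx (by norm_num) (by norm_num) X Y hX hY h

attribute [local irreducible] GC NC TG TN NXTG NXTN PARG PARN UT LA8 LB8 xTab cx cy cxi cyi ca cb
  oneC nxtG nxtN parG parN pgG pgN depG depN U vA8 vB8 mulR f14

lemma valid_one : ValidP 3 64 14 oneC := validB_spec _ _ _ _ oneC_valid

lemma valid_cx : ValidP 3 64 14 cx := validB_spec _ _ _ _ cx_valid

lemma valid_cy : ValidP 3 64 14 cy := validB_spec _ _ _ _ cy_valid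

lemma valid_cxi : ValidP 3 64 14 cxi := validB_spec _ _ _ _ cxi_valid

lemma valid_cyi : ValidP 3 64 14 cyi := validB_spec _ _ _ _ cyi_valid

lemma valid_ca : ValidP 3 64 14 ca := validB_spec _ _ _ _ ca_valid

lemma valid_cb : ValidP 3 64 14 cb := validB_spec _ _ _ _ cb_valid

lemma valid_TG (i : ℕ) (hi : i < DG.n) : ValidP 3 64 14 (DG.T i) :=
  validB_spec _ _ _ _ (TG_valid i hi)

lemma valid_TN (i : ℕ) (hi : i < DN.n) : ValidP 3 64 14 (DN.T i) :=
  validB_spec _ _ _ _ (TN_valid i hi)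

/-! ### Words in the root elements -/

lemma x_eq (r : ℕ) (t : ZMod 3) :
    chevG2.x (ZMod 3) r t = f14 (xCode r t.val) ∧ ValidP 3 64 14 (xCode r t.val) := by
  by_cases h : r < 12
  · have h' : r < chevG2.nroots := h
    constructor
    · rw [ChevalleyDatum.x, dif_pos h']
      exact xMat_eq t ⟨r, h⟩
    · exact validB_spec _ _ _ _ (xCode_valid t ⟨r, h⟩)
  · have h' : ¬ r < chevG2.nroots := h
    constructor
    · rw [ChevalleyDatum.x, dif_neg h', xCode, if_neg h, f14_one]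
    · rw [xCode, if_neg h]
      exact valid_one

lemma wordMat_eq (w : List (ℕ × ZMod 3)) :
    chevG2.wordMat (ZMod 3) w = f14 (wordC w) ∧ ValidP 3 64 14 (wordC w) := by
  induction w with
  | nil =>
    constructor
    · rw [ChevalleyDatum.wordMat, List.map_nil, List.prod_nil, wordC, f14_one]
    · exact valid_one
  | cons p w ih =>
    obtain ⟨h1, h2⟩ := x_eq p.1 p.2
    constructor
    · rw [ChevalleyDatum.wordMat, List.map_cons, List.prod_cons, wordC, f14_mul _ _ h2 ih.2, ← h1,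
        ← ih.1]
      rfl
    · rw [wordC]
      exact mulR_valid _ _ h2 ih.2

/-! ### The generators -/

/-- The unit with code `c` and inverse code `ci`. -/
def mkUnit (c ci : ℕ) (hc : ValidP 3 64 14 c) (hci : ValidP 3 64 14 ci)
    (h : mulR c ci = oneC ∧ mulR ci c = oneC) : GL chevG2.Idx (ZMod 3) :=
  ⟨f14 c, f14 ci, by rw [← f14_mul c ci hc hci, h.1, f14_one],
    by rw [← f14_mul ci c hci hc, h.2, f14_one]⟩

/-- The generator `x`. -/
def gx : GL chevG2.Idx (ZMod 3) := mkUnit cx cxi valid_cx valid_cxi cx_inv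

/-- The generator `y`. -/
def gy : GL chevG2.Idx (ZMod 3) := mkUnit cy cyi valid_cy valid_cyi cy_inv

lemma gx_val : ((gx : GL chevG2.Idx (ZMod 3)) : Matrix chevG2.Idx chevG2.Idx (ZMod 3)) = f14 cx :=
  rfl

lemma gy_val : ((gy : GL chevG2.Idx (ZMod 3)) : Matrix chevG2.Idx chevG2.Idx (ZMod 3)) = f14 cy :=
  rfl

lemma gxi_val :
    ((gx⁻¹ : GL chevG2.Idx (ZMod 3)) : Matrix chevG2.Idx chevG2.Idx (ZMod 3)) = f14 cxi := rfl

lemma gyi_val :
    ((gy⁻¹ : GL chevG2.Idx (ZMod 3)) : Matrix chevG2.Idx chevG2.Idx (ZMod 3)) = f14 cyi := rfl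

/-- The first generator of the derived subgroup. -/
def ga : GL chevG2.Idx (ZMod 3) := ⁅gx, gy⁆

/-- The second generator of the derived subgroup. -/
def gb : GL chevG2.Idx (ZMod 3) := gy * ga * gy⁻¹

lemma ga_val : ((ga : GL chevG2.Idx (ZMod 3)) : Matrix chevG2.Idx chevG2.Idx (ZMod 3)) = f14 ca := by
  rw [ga, commutatorElement_def, Units.val_mul, Units.val_mul, Units.val_mul, gx_val, gy_val,
    gxi_val, gyi_val, ca_eq,
    f14_mul _ _ (mulR_valid _ _ (mulR_valid _ _ valid_cx valid_cy) valid_cxi) valid_cyi,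
    f14_mul _ _ (mulR_valid _ _ valid_cx valid_cy) valid_cxi, f14_mul _ _ valid_cx valid_cy]

lemma gb_val : ((gb : GL chevG2.Idx (ZMod 3)) : Matrix chevG2.Idx chevG2.Idx (ZMod 3)) = f14 cb := by
  rw [gb, Units.val_mul, Units.val_mul, gy_val, gyi_val, ga_val, cb_eq,
    f14_mul _ _ (mulR_valid _ _ valid_cy valid_ca) valid_cyi, f14_mul _ _ valid_cy valid_ca]

/-- The group generated by `x` and `y`. -/
def H : Subgroup (GL chevG2.Idx (ZMod 3)) := Subgroup.closure {gx, gy}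

/-- The group generated by `a` and `b`. -/
def N : Subgroup (GL chevG2.Idx (ZMod 3)) := Subgroup.closure {ga, gb}

lemma hmulG : ∀ i < DG.n, ∀ k < DG.ng,
    f14 (mulR (DG.T i) (DG.gc k)) = f14 (DG.T i) * f14 (DG.gc k) := by
  intro i hi k hk
  have hk' : k < 2 := hk
  interval_cases k
  · exact f14_mul _ _ (valid_TG i hi) valid_cx
  · exact f14_mul _ _ (valid_TG i hi) valid_cy

lemma hmulN : ∀ i < DN.n, ∀ k < DN.ng,
    f14 (mulR (DN.T i) (DN.gc k)) = f14 (DN.T i) * f14 (DN.gc k) := by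
  intro i hi k hk
  have hk' : k < 2 := hk
  interval_cases k
  · exact f14_mul _ _ (valid_TN i hi) valid_ca
  · exact f14_mul _ _ (valid_TN i hi) valid_cb

lemma genSetG_eq :
    Units.val '' ({gx, gy} : Set (GL chevG2.Idx (ZMod 3))) = DG.genSet f14 := by
  ext y
  constructor
  · rintro ⟨u, hu, rfl⟩
    rcases hu with rfl | rfl
    · exact ⟨0, by decide, gx_val⟩
    · exact ⟨1, by decide, gy_val⟩
  · rintro ⟨k, hk, rfl⟩
    have hk' : k < 2 := hk
    interval_cases k
    · exact ⟨gx, Or.inl rfl, gx_val⟩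
    · exact ⟨gy, Or.inr rfl, gy_val⟩

lemma genSetN_eq :
    Units.val '' ({ga, gb} : Set (GL chevG2.Idx (ZMod 3))) = DN.genSet f14 := by
  ext y
  constructor
  · rintro ⟨u, hu, rfl⟩
    rcases hu with rfl | rfl
    · exact ⟨0, by decide, ga_val⟩
    · exact ⟨1, by decide, gb_val⟩
  · rintro ⟨k, hk, rfl⟩
    have hk' : k < 2 := hk
    interval_cases k
    · exact ⟨ga, Or.inl rfl, ga_val⟩
    · exact ⟨gb, Or.inr rfl, gb_val⟩

lemma mem_H_iff (u : GL chevG2.Idx (ZMod 3)) :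
    u ∈ H ↔ ∃ i, i < DG.n ∧ (u : Matrix chevG2.Idx chevG2.Idx (ZMod 3)) = f14 (DG.T i) :=
  DG_valid.mem_closure_units_iff_of_table f14 hmulG f14_one _ genSetG_eq u

lemma mem_N_iff (u : GL chevG2.Idx (ZMod 3)) :
    u ∈ N ↔ ∃ i, i < DN.n ∧ (u : Matrix chevG2.Idx chevG2.Idx (ZMod 3)) = f14 (DN.T i) :=
  DN_valid.mem_closure_units_iff_of_table f14 hmulN f14_one _ genSetN_eq u

lemma mem_H_of_memB (u : GL chevG2.Idx (ZMod 3)) (c : ℕ)
    (hu : (u : Matrix chevG2.Idx chevG2.Idx (ZMod 3)) = f14 c) (hc : DG.memB c = true) : u ∈ H := by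
  obtain ⟨i, hi, hTi⟩ := DG.memB_spec c hc
  exact (mem_H_iff u).2 ⟨i, hi, by rw [hu, hTi]⟩

lemma mem_N_of_memB (u : GL chevG2.Idx (ZMod 3)) (c : ℕ)
    (hu : (u : Matrix chevG2.Idx chevG2.Idx (ZMod 3)) = f14 c) (hc : DN.memB c = true) : u ∈ N := by
  obtain ⟨i, hi, hTi⟩ := DN.memB_spec c hc
  exact (mem_N_iff u).2 ⟨i, hi, by rw [hu, hTi]⟩

lemma f14_TN_inj : ∀ i < DN.n, ∀ j < DN.n, f14 (DN.T i) = f14 (DN.T j) → i = j := by
  intro i hi j hj h
  exact DN_valid.T_inj i j hi hj (f14_inj _ _ (valid_TN i hi) (valid_TN j hj) h)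

lemma card_N : Nat.card N = 504 :=
  DN_valid.card_closure_of_table f14 hmulN f14_one _ genSetN_eq f14_TN_inj

/-- The Ree group is generated by `x` and `y`. -/
theorem twistedG2_eq : twistedG2 (ZMod 3) 1 = H := by
  apply le_antisymm
  · rw [twistedG2, ChevalleyDatum.genSubgroup, Subgroup.closure_le]
    rintro g ⟨w, hw, hg⟩
    obtain ⟨t, u, v, rfl | rfl⟩ := hw
    · exact mem_H_of_memB g _ (hg.trans (wordMat_eq _).1) (words_mem t u v).1
    · exact mem_H_of_memB g _ (hg.trans (wordMat_eq _).1) (words_mem t u v).2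
  · rw [H, Subgroup.closure_le]
    rintro g (rfl | rfl)
    · apply Subgroup.subset_closure
      refine ⟨reeWordU 1 (1 : ZMod 3) 2 1, ⟨1, 2, 1, Or.inl rfl⟩, ?_⟩
      rw [gx_val, cx_eq]
      exact ((wordMat_eq _).1).symm
    · apply Subgroup.subset_closure
      refine ⟨reeWordV 1 (0 : ZMod 3) 2 1, ⟨0, 2, 1, Or.inr rfl⟩, ?_⟩
      rw [gy_val, cy_eq]
      exact ((wordMat_eq _).1).symm

/-! ### The derived subgroup -/

lemma conj_val (s si t : GL chevG2.Idx (ZMod 3)) (cs csi ct : ℕ)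
    (hs : (s : Matrix chevG2.Idx chevG2.Idx (ZMod 3)) = f14 cs)
    (hsi : (si : Matrix chevG2.Idx chevG2.Idx (ZMod 3)) = f14 csi)
    (ht : (t : Matrix chevG2.Idx chevG2.Idx (ZMod 3)) = f14 ct)
    (vs : ValidP 3 64 14 cs) (vsi : ValidP 3 64 14 csi) (vt : ValidP 3 64 14 ct) :
    ((s * t * si : GL chevG2.Idx (ZMod 3)) : Matrix chevG2.Idx chevG2.Idx (ZMod 3)) =
      f14 (conjC cs csi ct) := by
  rw [Units.val_mul, Units.val_mul, hs, hsi, ht, conjC, f14_mul _ _ (mulR_valid _ _ vs vt) vsi,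
    f14_mul _ _ vs vt]

lemma conj_gens_mem (t : GL chevG2.Idx (ZMod 3)) (ht : t ∈ ({ga, gb} : Set (GL chevG2.Idx (ZMod 3)))) :
    gx * t * gx⁻¹ ∈ N ∧ gx⁻¹ * t * gx ∈ N ∧ gy * t * gy⁻¹ ∈ N ∧ gy⁻¹ * t * gy ∈ N := by
  rcases ht with rfl | rfl
  · have h := conj_mem 0
    rw [gcN_zero] at h
    exact ⟨mem_N_of_memB _ _ (conj_val gx gx⁻¹ ga cx cxi ca gx_val gxi_val ga_val valid_cx valid_cxi
        valid_ca) h.1,
      mem_N_of_memB _ _ (conj_val gx⁻¹ gx ga cxi cx ca gxi_val gx_val ga_val valid_cxi valid_cx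
        valid_ca) h.2.1,
      mem_N_of_memB _ _ (conj_val gy gy⁻¹ ga cy cyi ca gy_val gyi_val ga_val valid_cy valid_cyi
        valid_ca) h.2.2.1,
      mem_N_of_memB _ _ (conj_val gy⁻¹ gy ga cyi cy ca gyi_val gy_val ga_val valid_cyi valid_cy
        valid_ca) h.2.2.2⟩
  · have h := conj_mem 1
    rw [gcN_one] at h
    exact ⟨mem_N_of_memB _ _ (conj_val gx gx⁻¹ gb cx cxi cb gx_val gxi_val gb_val valid_cx valid_cxi
        valid_cb) h.1,
      mem_N_of_memB _ _ (conj_val gx⁻¹ gx gb cxi cx cb gxi_val gx_val gb_val valid_cxi valid_cx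
        valid_cb) h.2.1,
      mem_N_of_memB _ _ (conj_val gy gy⁻¹ gb cy cyi cb gy_val gyi_val gb_val valid_cy valid_cyi
        valid_cb) h.2.2.1,
      mem_N_of_memB _ _ (conj_val gy⁻¹ gy gb cyi cy cb gyi_val gy_val gb_val valid_cyi valid_cy
        valid_cb) h.2.2.2⟩

lemma ga_mem_N : ga ∈ N := Subgroup.subset_closure (Or.inl rfl)

/-- The derived subgroup of the group generated by `x` and `y`. -/
theorem commutator_H : ⁅H, H⁆ = N := by
  apply le_antisymm
  · apply commutator_closure_le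
    · intro s hs n hn
      rcases hs with rfl | rfl
      · constructor
        · exact conj_closure_le _ N gx (fun t ht => (conj_gens_mem t ht).1) n hn
        · have := conj_closure_le _ N gx⁻¹
            (fun t ht => by rw [inv_inv]; exact (conj_gens_mem t ht).2.1) n hn
          rwa [inv_inv] at this
      · constructor
        · exact conj_closure_le _ N gy (fun t ht => (conj_gens_mem t ht).2.2.1) n hn
        · have := conj_closure_le _ N gy⁻¹
            (fun t ht => by rw [inv_inv]; exact (conj_gens_mem t ht).2.2.2) n hn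
          rwa [inv_inv] at this
    · intro s hs t ht
      rcases hs with rfl | rfl <;> rcases ht with rfl | rfl
      · rw [commutatorElement_self]
        exact one_mem _
      · exact ga_mem_N
      · rw [← commutatorElement_inv]
        exact inv_mem ga_mem_N
      · rw [commutatorElement_self]
        exact one_mem _
  · rw [N, Subgroup.closure_le]
    have hx : gx ∈ H := Subgroup.subset_closure (Or.inl rfl)
    have hy : gy ∈ H := Subgroup.subset_closure (Or.inr rfl)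
    rintro g (rfl | rfl)
    · exact Subgroup.commutator_mem_commutator hx hy
    · have : gb = ⁅gy * gx * gy⁻¹, gy⁆ := by
        rw [gb, ga, commutatorElement_def, commutatorElement_def]
        group
      rw [SetLike.mem_coe, this]
      exact Subgroup.commutator_mem_commutator (mul_mem (mul_mem hy hx) (inv_mem hy)) hy

/-! ### The homomorphism to matrices over the field with eight elements -/

/-- The generators, in the subgroup. -/
def gens' : Set N := {x | (x : GL chevG2.Idx (ZMod 3)) ∈ ({ga, gb} : Set (GL chevG2.Idx (ZMod 3)))}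

lemma closure_gens' : Submonoid.closure gens' = ⊤ :=
  mclosure_subgroup_closure_eq_top _

lemma idx_spec' (u : N) :
    DN.idx f14 (u : GL chevG2.Idx (ZMod 3)) < DN.n ∧
      ((u : GL chevG2.Idx (ZMod 3)) : Matrix chevG2.Idx chevG2.Idx (ZMod 3)) =
        f14 (DN.T (DN.idx f14 (u : GL chevG2.Idx (ZMod 3)))) :=
  DN.idx_spec f14 _ ((mem_N_iff _).1 u.2)

lemma idx_eq (u : GL chevG2.Idx (ZMod 3)) (j : ℕ) (hj : j < DN.n)
    (hu : (u : Matrix chevG2.Idx chevG2.Idx (ZMod 3)) = f14 (DN.T j)) : DN.idx f14 u = j :=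
  DN.idx_unique f14 f14_TN_inj u j hj hu

/-- The map to matrices over `F8`. -/
noncomputable def phi0 (u : N) : Matrix (Fin 2) (Fin 2) F8 :=
  f8 (U (DN.idx f14 (u : GL chevG2.Idx (ZMod 3))))

lemma idx_one : DN.idx f14 (1 : GL chevG2.Idx (ZMod 3)) = 18 := by
  apply idx_eq _ 18 (by decide)
  rw [Units.val_one]
  have : DN.T 18 = oneC := DN_valid.T_i0
  rw [this, f14_one]

lemma idx_ga : DN.idx f14 ga = 4 := by
  apply idx_eq _ 4 (by decide)
  rw [ga_val, TN_ia]

lemma idx_gb : DN.idx f14 gb = 257 := by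
  apply idx_eq _ 257 (by decide)
  rw [gb_val, TN_ib]

lemma phi0_one : phi0 1 = 1 := by
  rw [phi0]
  show f8 (U (DN.idx f14 (1 : GL chevG2.Idx (ZMod 3)))) = 1
  rw [idx_one, U_one, f8_one]

lemma f8_mapRows_vA (c : ℕ) : f8 (mapRows 8 2 vA8 c) = f8 c * f8 cA :=
  fR_mapRows 8 2 dig8 (by norm_num) (f8 cA) vA8 vA8_spec c

lemma f8_mapRows_vB (c : ℕ) : f8 (mapRows 8 2 vB8 c) = f8 c * f8 cB :=
  fR_mapRows 8 2 dig8 (by norm_num) (f8 cB) vB8 vB8_spec c

lemma chk_hom_spec (i : ℕ) (hi : i < 504) :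
    U (nxtN i 0) = mapRows 8 2 vA8 (U i) ∧ U (nxtN i 1) = mapRows 8 2 vB8 (U i) := by
  have := chk_hom i hi
  rw [homAt, Bool.and_eq_true, beq_iff_eq, beq_iff_eq] at this
  exact this

lemma phi0_gen (s : N) (hs : s ∈ gens') :
    (((s : GL chevG2.Idx (ZMod 3)) = ga) ∧ phi0 s = f8 cA) ∨
      (((s : GL chevG2.Idx (ZMod 3)) = gb) ∧ phi0 s = f8 cB) := by
  rcases hs with hs | hs
  · left
    refine ⟨hs, ?_⟩
    rw [phi0, hs, idx_ga, U_a]
  · right
    have hs' : (s : GL chevG2.Idx (ZMod 3)) = gb := hs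
    refine ⟨hs', ?_⟩
    rw [phi0, hs', idx_gb, U_b]

lemma phi0_mul_gen (g s : N) (hs : s ∈ gens') : phi0 (g * s) = phi0 g * phi0 s := by
  obtain ⟨hi, hg⟩ := idx_spec' g
  have hi' : DN.idx f14 (g : GL chevG2.Idx (ZMod 3)) < 504 := hi
  rcases phi0_gen s hs with ⟨hs1, hs2⟩ | ⟨hs1, hs2⟩
  · obtain ⟨h1, h3⟩ := DN_valid.nxt_spec _ 0 hi (by decide)
    rw [DN_nxt] at h1 h3
    rw [DN_gc0] at h3
    have hidx : DN.idx f14 ((g * s : N) : GL chevG2.Idx (ZMod 3)) =
        nxtN (DN.idx f14 (g : GL chevG2.Idx (ZMod 3))) 0 := by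
      apply idx_eq _ _ h1
      rw [Subgroup.coe_mul, Units.val_mul, hg, hs1, ga_val, ← h3,
        f14_mul _ _ (valid_TN _ hi) valid_ca]
    rw [hs2]
    show f8 (U (DN.idx f14 ((g * s : N) : GL chevG2.Idx (ZMod 3)))) =
      f8 (U (DN.idx f14 (g : GL chevG2.Idx (ZMod 3)))) * f8 cA
    rw [hidx, (chk_hom_spec _ hi').1, f8_mapRows_vA]
  · obtain ⟨h1, h3⟩ := DN_valid.nxt_spec _ 1 hi (by decide)
    rw [DN_nxt] at h1 h3
    rw [DN_gc1] at h3
    have hidx : DN.idx f14 ((g * s : N) : GL chevG2.Idx (ZMod 3)) =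
        nxtN (DN.idx f14 (g : GL chevG2.Idx (ZMod 3))) 1 := by
      apply idx_eq _ _ h1
      rw [Subgroup.coe_mul, Units.val_mul, hg, hs1, gb_val, ← h3,
        f14_mul _ _ (valid_TN _ hi) valid_cb]
    rw [hs2]
    show f8 (U (DN.idx f14 ((g * s : N) : GL chevG2.Idx (ZMod 3)))) =
      f8 (U (DN.idx f14 (g : GL chevG2.Idx (ZMod 3)))) * f8 cB
    rw [hidx, (chk_hom_spec _ hi').2, f8_mapRows_vB]

/-- The homomorphism to matrices over `F8`. -/
noncomputable def phiM : N →* Matrix (Fin 2) (Fin 2) F8 :=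
  homOfClosure phi0 gens' closure_gens' phi0_one phi0_mul_gen

lemma phiM_apply (u : N) : phiM u = phi0 u := rfl

lemma phiM_eq_one (u : N) (hu : phiM u = 1) : u = 1 := by
  rw [phiM_apply, phi0, ← f8_one] at hu
  obtain ⟨hi, hg⟩ := idx_spec' u
  set i := DN.idx f14 (u : GL chevG2.Idx (ZMod 3)) with hidef
  have hi' : i < 504 := hi
  have hU : U i = oneC8 :=
    fR_injOn 8 2 dig8 (by norm_num) dig8_injOn _ _ (U_lt i) (by decide) hu
  have hker := chk_ker
  rw [List.all_eq_true] at hker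
  have hk := hker i (List.mem_range.2 hi')
  rw [Bool.or_eq_true, beq_iff_eq, bne_iff_ne] at hk
  rcases hk with hk | hk
  · apply Subtype.ext
    apply Units.ext
    rw [hg, hk]
    have : DN.T 18 = oneC := DN_valid.T_i0
    rw [this, f14_one]
    rfl
  · exact absurd hU hk

/-- The derived subgroup of `²G₂(3)` is isomorphic to `SL₂(8)`. -/
theorem exists_equiv_SL28 {L : Type*} [Field L] [Fintype L] (hL : Fintype.card L = 8) :
    Nonempty (N ≃* Matrix.SpecialLinearGroup (Fin 2) L) := by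
  have e : F8 ≃+* L := FiniteField.ringEquivOfCardEq (F8.card.trans hL.symm)
  let Φ : N →* Matrix.SpecialLinearGroup (Fin 2) L := suSLHom gens' closure_gens' phiM
    (by
      intro s hs
      rcases phi0_gen s hs with ⟨_, hs2⟩ | ⟨_, hs2⟩
      · rw [phiM_apply, hs2]; exact det_A
      · rw [phiM_apply, hs2]; exact det_B) e
  have hinj : Function.Injective Φ := by
    rw [injective_iff_map_eq_one]
    intro u hu
    apply phiM_eq_one
    rw [← suMatHom_eq_one_iff e phiM u]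
    exact congrArg Subtype.val hu
  have hcard : Nat.card (Matrix.SpecialLinearGroup (Fin 2) L) = 504 := by
    have h := card_SL_formula (F := L) 2 (by norm_num)
    rw [hL] at h
    have h3 : ∏ i : Fin 2, (8 ^ 2 - 8 ^ (i : ℕ)) = 3528 := by decide
    rw [h3] at h
    omega
  have : Finite (Matrix.SpecialLinearGroup (Fin 2) L) := inferInstance
  have hbij : Function.Bijective Φ :=
    hinj.bijective_of_nat_card_le (by rw [hcard, card_N])
  exact ⟨MulEquiv.ofBijective Φ hbij⟩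

end Cfsg.Agent.Lib.Helper57.Ree3
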