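import Mathlib.Tactic
import Mathlib.LinearAlgebra.Matrix.Notation
import Mathlib.Data.List.GetD
import Cfsg.Agent.Lib.Helper57.QuadMat3

set_option autoImplicit false

/-!
# Square matrices over a finite ring coded row by row

An `n × n` matrix over a ring whose elements are coded by the digits `< q` is coded by a natural
number whose base `q ^ n` digits are the codes of the rows, the code of a row being the number
with the codes of its entries as base `q` digits.  Right multiplication by a fixed matrix `A` is
then a map of row codes applied to every row, and this map can be tabulated.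
-/

namespace Cfsg.Agent.Lib.Helper57

lemma encL_decL (p : ℕ) (n c : ℕ) (hc : c < p ^ n) : encL p (decL p n c) = c := by
  induction n generalizing c with
  | zero =>
    rw [pow_zero, Nat.lt_one_iff] at hc
    rw [hc]
    rfl
  | succ n ih =>
    have hp : 0 < p := by
      rcases Nat.eq_zero_or_pos p with h0 | h0
      · subst h0
        simp at hc
      · exact h0
    rw [decL, natForce_eq, encL, ih (c / p)]
    · exact Nat.mod_add_div c p
    · apply Nat.div_lt_of_lt_mul
      rwa [pow_succ, mul_comm] at hc

lemma decL_injOn (p n c c' : ℕ) (hc : c < p ^ n) (hc' : c' < p ^ n)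
    (h : decL p n c = decL p n c') : c = c' := by
  rw [← encL_decL p n c hc, ← encL_decL p n c' hc', h]

lemma getD_decL_lt (p : ℕ) (hp : 0 < p) (n c i : ℕ) : (decL p n c).getD i 0 < p := by
  by_cases hi : i < (decL p n c).length
  · rw [List.getD_eq_getElem _ _ hi]
    exact decL_lt p hp n c _ (List.getElem_mem hi)
  · rw [List.getD_eq_default _ _ (by omega)]
    exact hp

section RowCode

variable {K : Type*} (q n : ℕ) (dig : ℕ → K)

/-- The row vector with code `v`. -/
def rowVec (v : ℕ) : Fin n → K := fun j => dig ((decL q n v).getD j 0)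

/-- The matrix with code `c`. -/
def fR (c : ℕ) : Matrix (Fin n) (Fin n) K :=
  Matrix.of fun i => rowVec q n dig ((decL (q ^ n) n c).getD i 0)

/-- Apply a map of row codes to every row. -/
def mapRows (vA : ℕ → ℕ) (c : ℕ) : ℕ :=
  natForce c fun c => natForce (q ^ n) fun B => encL B ((decL B n c).map vA)

lemma fR_apply (c : ℕ) (i j : Fin n) :
    fR q n dig c i j = dig ((decL q n ((decL (q ^ n) n c).getD i 0)).getD j 0) := rfl

/-- The coding is injective on codes below `(q ^ n) ^ n`. -/
lemma fR_injOn (hq : 0 < q) (hdig : ∀ a < q, ∀ b < q, dig a = dig b → a = b) (c c' : ℕ)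
    (hc : c < (q ^ n) ^ n) (hc' : c' < (q ^ n) ^ n) (h : fR q n dig c = fR q n dig c') :
    c = c' := by
  have hB : 0 < q ^ n := pow_pos hq n
  apply decL_injOn (q ^ n) n c c' hc hc'
  apply List.ext_getElem
  · rw [decL_length, decL_length]
  · intro i h1 h2
    rw [decL_length] at h1
    have hr : ∀ x : ℕ, x < (q ^ n) ^ n → (decL (q ^ n) n x).getD i 0 < q ^ n :=
      fun x _ => getD_decL_lt (q ^ n) hB n x i
    have e1 : (decL (q ^ n) n c)[i] = (decL (q ^ n) n c).getD i 0 :=
      (List.getD_eq_getElem _ _ _).symm
    have e2 : (decL (q ^ n) n c')[i] = (decL (q ^ n) n c').getD i 0 :=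
      (List.getD_eq_getElem _ _ _).symm
    rw [e1, e2]
    apply decL_injOn q n _ _ (hr c hc) (hr c' hc')
    apply List.ext_getElem
    · rw [decL_length, decL_length]
    · intro j h3 h4
      rw [decL_length] at h3
      have hij := congrFun (congrFun h ⟨i, h1⟩) ⟨j, h3⟩
      rw [fR_apply, fR_apply] at hij
      have e3 : ∀ x : ℕ, ∀ hx : j < (decL q n x).length, (decL q n x)[j] = (decL q n x).getD j 0 :=
        fun x hx => (List.getD_eq_getElem _ _ hx).symm
      rw [e3, e3]
      exact hdig _ (getD_decL_lt q hq n _ j) _ (getD_decL_lt q hq n _ j) hij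

variable [CommSemiring K]

/-- Right multiplication by a matrix `A` is the map `vA` of row codes applied to every row. -/
theorem fR_mapRows (hq : 0 < q) (A : Matrix (Fin n) (Fin n) K) (vA : ℕ → ℕ)
    (hvA : ∀ v < q ^ n, vA v < q ^ n ∧
      rowVec q n dig (vA v) = Matrix.vecMul (rowVec q n dig v) A) (c : ℕ) :
    fR q n dig (mapRows q n vA c) = fR q n dig c * A := by
  have hB : 0 < q ^ n := pow_pos hq n
  have hlen : ((decL (q ^ n) n c).map vA).length = n := by rw [List.length_map, decL_length]
  have hlt : ∀ a ∈ (decL (q ^ n) n c).map vA, a < q ^ n := by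
    intro a ha
    obtain ⟨v, hv, rfl⟩ := List.mem_map.1 ha
    exact (hvA v (decL_lt _ hB _ _ v hv)).1
  have h1 := decL_encL (q ^ n) _ hlt
  rw [hlen] at h1
  ext i j
  have hi : (i : ℕ) < (decL (q ^ n) n c).length := by
    rw [decL_length]
    exact i.2
  have hi' : (i : ℕ) < ((decL (q ^ n) n c).map vA).length := by
    rw [List.length_map]
    exact hi
  have hv : (decL (q ^ n) n c).getD i 0 < q ^ n := getD_decL_lt (q ^ n) hB n c i
  have h2 : fR q n dig (mapRows q n vA c) i j =
      rowVec q n dig (vA ((decL (q ^ n) n c).getD i 0)) j := by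
    simp only [fR, mapRows, natForce_eq, Matrix.of_apply]
    rw [h1, List.getD_eq_getElem _ _ hi', List.getElem_map, List.getD_eq_getElem _ _ hi]
  rw [h2, (hvA _ hv).2, Matrix.mul_apply]
  rfl

end RowCode

/-- An entry of a packed table of `w`-bit numbers. -/
def lutGet (L w v : ℕ) : ℕ :=
  natForce v fun v => Nat.mod (Nat.shiftRight L (Nat.mul w v)) (Nat.pow 2 w)

end Cfsg.Agent.Lib.Helper57
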