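import Cfsg.Agent.Lib.Helper57.DataS43a
import Cfsg.Agent.Lib.Helper57.DataS43b
import Cfsg.Agent.Lib.Helper57.DataS43c
import Cfsg.Agent.Lib.Helper57.DataS43d
import Cfsg.Agent.Lib.Helper5.UnitaryCenter
import Cfsg.Agent.S0245
import Cfsg.Agent.S0246
import Cfsg.Agent.S0278

set_option autoImplicit false

/-!
# `PSU₄(2)` is isomorphic to `PSp₄(3)`

From the checked tables of `DataS43`: the two tabulated generators generate `Sp₄(K)`, `|K| = 3`
(by its order), and the tabulated map is a homomorphism onto `SU₄(F)`, `|F| = 4`, with kernel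
`{1, -1}`, the centre of `Sp₄(K)`; the centre of `SU₄(F)` is trivial.
-/

namespace Cfsg.Agent.Lib.Helper57.S43

open Cfsg.Agent.Lib.Helper57 Matrix

theorem D_valid : D.Valid mulC oneC := ⟨D_sorted, D_one, D_next, D_par⟩

lemma D_n : D.n = 51840 := rfl

lemma D_nxt : D.nxt = nxt := rfl

lemma D_gc0 : D.gc 0 = ca := rfl

lemma D_gc1 : D.gc 1 = cb := rfl

lemma D_i0 : D.i0 = 16902 := rfl

lemma T_lt (i : ℕ) (hi : i < D.n) : D.T i < (3 ^ 4) ^ 4 := by
  have h1 : D.T i ≤ D.T 51839 := by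
    rcases Nat.lt_or_ge i 51839 with h | h
    · exact (D_valid.T_strictMono i 51839 h (by decide)).le
    · have h2 : i < 51840 := hi
      have h3 : i = 51839 := by omega
      rw [h3]
  exact lt_of_le_of_lt h1 (lt_of_lt_of_le T_last (by norm_num))

attribute [local irreducible] TC NC PC UC LA3 LB3 LA4 LB4 T nxt par pg dep U vA3 vB3 vA4 vB4

lemma charP_of_card_eq_prime_pow {F : Type*} [Field F] [Fintype F] (p k : ℕ) (hp : p.Prime)
    (hF : Fintype.card F = p ^ k) : CharP F p := by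
  obtain ⟨p', hp'⟩ := CharP.exists F
  obtain ⟨n, hprime, hcard⟩ := FiniteField.card F p'
  have h1 : p' ∣ p ^ k := by
    rw [← hF, hcard]
    exact dvd_pow_self p' n.ne_zero
  have h2 : p' = p := (Nat.prime_dvd_prime_iff_eq hprime hp).1 (hprime.dvd_of_dvd_pow h1)
  rw [← h2]
  exact hp'

section Field

variable {K : Type*} [Field K]

/-- The symplectic group as a group of `4 × 4` matrices. -/
def ι : Matrix.symplecticGroup (Fin 2) K →* Matrix (Fin 4) (Fin 4) K where
  toFun g := (g : Matrix (Fin 2 ⊕ Fin 2) (Fin 2 ⊕ Fin 2) K).submatrix eIdx.symm eIdx.symm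
  map_one' := by
    rw [Submonoid.coe_one, Matrix.submatrix_one_equiv]
  map_mul' x y := by
    rw [Submonoid.coe_mul]
    exact (Matrix.submatrix_mul_equiv _ _ _ eIdx.symm _).symm

lemma ι_apply (g : Matrix.symplecticGroup (Fin 2) K) :
    ι g = (g : Matrix (Fin 2 ⊕ Fin 2) (Fin 2 ⊕ Fin 2) K).submatrix eIdx.symm eIdx.symm := rfl

lemma ι_injective : Function.Injective (ι (K := K)) := by
  intro x y h
  apply Subtype.ext
  ext i j
  have := congrFun (congrFun h (eIdx i)) (eIdx j)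
  simpa [ι_apply] using this

variable [CharP K 3]

lemma f3_map (c : ℕ) : f3 K c = (f3 (ZMod 3) c).map (ZMod.castHom (dvd_refl 3) K) :=
  fR_natCast_map _ 3 4 c

lemma f3_one_K : f3 K oneC = 1 := by
  rw [f3_map, f3_one, Matrix.map_one _ (map_zero _) (map_one _)]

lemma f3_neg_K : f3 K negC = -1 := by
  rw [f3_map, f3_neg]
  ext i j
  by_cases h : i = j <;> simp [h]

lemma sp_mem (c : ℕ)
    (h : (f3 (ZMod 3) c).submatrix eIdx eIdx ∈ Matrix.symplecticGroup (Fin 2) (ZMod 3)) :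
    (f3 K c).submatrix eIdx eIdx ∈ Matrix.symplecticGroup (Fin 2) K := by
  have h1 := SymplecticGroup.map_mem h (ZMod.castHom (dvd_refl 3) K)
  rwa [← Matrix.submatrix_map, ← f3_map] at h1

/-- The first generator. -/
def ga : Matrix.symplecticGroup (Fin 2) K := ⟨(f3 K ca).submatrix eIdx eIdx, sp_mem ca sp_a⟩

/-- The second generator. -/
def gb : Matrix.symplecticGroup (Fin 2) K := ⟨(f3 K cb).submatrix eIdx eIdx, sp_mem cb sp_b⟩

lemma ι_ga : ι (ga : Matrix.symplecticGroup (Fin 2) K) = f3 K ca := by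
  show ((f3 K ca).submatrix eIdx eIdx).submatrix eIdx.symm eIdx.symm = _
  rw [Matrix.submatrix_submatrix, Equiv.self_comp_symm, Matrix.submatrix_id_id]

lemma ι_gb : ι (gb : Matrix.symplecticGroup (Fin 2) K) = f3 K cb := by
  show ((f3 K cb).submatrix eIdx eIdx).submatrix eIdx.symm eIdx.symm = _
  rw [Matrix.submatrix_submatrix, Equiv.self_comp_symm, Matrix.submatrix_id_id]

lemma vA3_spec_K : ∀ v < 3 ^ 4, vA3 v < 3 ^ 4 ∧ rowVec 3 4 (Nat.cast : ℕ → K) (vA3 v) =
    Matrix.vecMul (rowVec 3 4 (Nat.cast : ℕ → K) v) (f3 K ca) :=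
  rowTable_map (ZMod.castHom (dvd_refl 3) K) 3 4 ca vA3 vA3_spec

lemma vB3_spec_K : ∀ v < 3 ^ 4, vB3 v < 3 ^ 4 ∧ rowVec 3 4 (Nat.cast : ℕ → K) (vB3 v) =
    Matrix.vecMul (rowVec 3 4 (Nat.cast : ℕ → K) v) (f3 K cb) :=
  rowTable_map (ZMod.castHom (dvd_refl 3) K) 3 4 cb vB3 vB3_spec

lemma f3_mul (x : ℕ) : ∀ k < D.ng, f3 K (mulC x (D.gc k)) = f3 K x * f3 K (D.gc k) := by
  intro k hk
  have hk' : k < 2 := hk
  interval_cases k
  · rw [D_gc0, mulC, if_pos rfl]
    exact fR_mapRows 3 4 _ (by norm_num) (f3 K ca) vA3 vA3_spec_K x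
  · rw [D_gc1, mulC, if_neg ca_ne_cb]
    exact fR_mapRows 3 4 _ (by norm_num) (f3 K cb) vB3 vB3_spec_K x

/-- The generators. -/
def gens : Set (Matrix.symplecticGroup (Fin 2) K) := {ga, gb}

lemma genSet_eq : ι '' (gens : Set (Matrix.symplecticGroup (Fin 2) K)) = D.genSet (f3 K) := by
  ext y
  constructor
  · rintro ⟨u, hu, rfl⟩
    rcases hu with rfl | rfl
    · exact ⟨0, by decide, ι_ga⟩
    · exact ⟨1, by decide, ι_gb⟩
  · rintro ⟨k, hk, rfl⟩
    have hk' : k < 2 := hk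
    interval_cases k
    · exact ⟨ga, Or.inl rfl, ι_ga⟩
    · exact ⟨gb, Or.inr rfl, ι_gb⟩

lemma natCast_injOn : ∀ a < 3, ∀ b < 3, ((a : ℕ) : K) = (b : ℕ) → a = b := by
  intro a ha b hb h
  exact CharP.natCast_injOn_Iio K 3 ha hb h

lemma f3_T_inj : ∀ i < D.n, ∀ j < D.n, f3 K (D.T i) = f3 K (D.T j) → i = j := by
  intro i hi j hj h
  exact D_valid.T_inj i j hi hj
    (fR_injOn 3 4 _ (by norm_num) natCast_injOn _ _ (T_lt i hi) (T_lt j hj) h)

variable [Fintype K]

omit [CharP K 3] in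
lemma card_Sp (hK : Fintype.card K = 3) :
    Nat.card (Matrix.symplecticGroup (Fin 2) K) = 51840 := by
  rw [Cfsg.Agent.S0245.result (F := K) (q := 3) hK 2]
  decide

lemma card_closure_gens :
    Nat.card (Subgroup.closure (gens : Set (Matrix.symplecticGroup (Fin 2) K))) = 51840 :=
  D_valid.card_closure_hom (f3 K) ι ι_injective f3_mul f3_one_K _ genSet_eq f3_T_inj

lemma closure_gens_eq_top (hK : Fintype.card K = 3) :
    Subgroup.closure (gens : Set (Matrix.symplecticGroup (Fin 2) K)) = ⊤ := by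
  rw [← Subgroup.card_eq_iff_eq_top, card_closure_gens, card_Sp hK]

lemma mclosure_gens (hK : Fintype.card K = 3) :
    Submonoid.closure (gens : Set (Matrix.symplecticGroup (Fin 2) K)) = ⊤ := by
  rw [← Subgroup.closure_toSubmonoid_of_finite, closure_gens_eq_top hK, Subgroup.top_toSubmonoid]

/-- The index of an element in the table. -/
noncomputable def idx (g : Matrix.symplecticGroup (Fin 2) K) : ℕ := D.idxH (f3 K) ι g

lemma idx_spec (hK : Fintype.card K = 3) (g : Matrix.symplecticGroup (Fin 2) K) :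
    idx g < D.n ∧ ι g = f3 K (D.T (idx g)) := by
  apply D.idxH_spec (f3 K) ι g
  apply (D_valid.mem_closure_hom_iff (f3 K) ι ι_injective f3_mul f3_one_K _ genSet_eq g).1
  rw [closure_gens_eq_top hK]
  exact Subgroup.mem_top g

omit [Fintype K] in
lemma idx_eq (g : Matrix.symplecticGroup (Fin 2) K) (j : ℕ) (hj : j < D.n)
    (hg : ι g = f3 K (D.T j)) : idx g = j :=
  D.idxH_unique (f3 K) ι f3_T_inj g j hj hg

omit [Fintype K] in
lemma idx_one : idx (1 : Matrix.symplecticGroup (Fin 2) K) = 16902 := by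
  apply idx_eq _ 16902 (by decide)
  have : D.T 16902 = oneC := D_valid.T_i0
  rw [map_one, this, f3_one_K]

omit [Fintype K] in
lemma idx_ga : idx (ga : Matrix.symplecticGroup (Fin 2) K) = 8134 := by
  apply idx_eq _ 8134 (by decide)
  rw [ι_ga, T_ia]

omit [Fintype K] in
lemma idx_gb : idx (gb : Matrix.symplecticGroup (Fin 2) K) = 40839 := by
  apply idx_eq _ 40839 (by decide)
  rw [ι_gb, T_ib]

/-- The map to matrices over the field with four elements. -/
noncomputable def phi0 (g : Matrix.symplecticGroup (Fin 2) K) : Matrix (Fin 4) (Fin 4) K4 :=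
  f4 (U (idx g))

omit [Fintype K] in
lemma phi0_one : phi0 (1 : Matrix.symplecticGroup (Fin 2) K) = 1 := by
  rw [phi0, idx_one, U_one, f4_one]

lemma f4_mapRows_vA (c : ℕ) : f4 (mapRows 4 4 vA4 c) = f4 c * f4 cA :=
  fR_mapRows 4 4 dig4 (by norm_num) (f4 cA) vA4 vA4_spec c

lemma f4_mapRows_vB (c : ℕ) : f4 (mapRows 4 4 vB4 c) = f4 c * f4 cB :=
  fR_mapRows 4 4 dig4 (by norm_num) (f4 cB) vB4 vB4_spec c

lemma chk_hom_spec (i : ℕ) (hi : i < 51840) :
    U (nxt i 0) = mapRows 4 4 vA4 (U i) ∧ U (nxt i 1) = mapRows 4 4 vB4 (U i) := by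
  have := chk_hom i hi
  rw [homAt, Bool.and_eq_true, beq_iff_eq, beq_iff_eq] at this
  exact this

omit [Fintype K] in
lemma phi0_gen (s : Matrix.symplecticGroup (Fin 2) K) (hs : s ∈ gens) :
    (s = ga ∧ phi0 s = f4 cA) ∨ (s = gb ∧ phi0 s = f4 cB) := by
  rcases hs with hs | hs
  · left
    refine ⟨hs, ?_⟩
    rw [phi0, hs, idx_ga, U_a]
  · right
    have hs' : s = gb := hs
    refine ⟨hs', ?_⟩
    rw [phi0, hs', idx_gb, U_b]

lemma phi0_mul_gen (hK : Fintype.card K = 3) (g s : Matrix.symplecticGroup (Fin 2) K)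
    (hs : s ∈ gens) : phi0 (g * s) = phi0 g * phi0 s := by
  obtain ⟨hi, hg⟩ := idx_spec hK g
  have hi' : idx g < 51840 := hi
  rcases phi0_gen s hs with ⟨hs1, hs2⟩ | ⟨hs1, hs2⟩
  · obtain ⟨h1, h3⟩ := D_valid.nxt_spec _ 0 hi (by decide)
    rw [D_nxt] at h1 h3
    have hidx : idx (g * s) = nxt (idx g) 0 := by
      apply idx_eq _ _ h1
      rw [map_mul, hg, hs1, ι_ga, ← h3, f3_mul _ 0 (by decide)]
      rfl
    rw [hs2, phi0, phi0, hidx, (chk_hom_spec _ hi').1, f4_mapRows_vA]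
  · obtain ⟨h1, h3⟩ := D_valid.nxt_spec _ 1 hi (by decide)
    rw [D_nxt] at h1 h3
    have hidx : idx (g * s) = nxt (idx g) 1 := by
      apply idx_eq _ _ h1
      rw [map_mul, hg, hs1, ι_gb, ← h3, f3_mul _ 1 (by decide)]
      rfl
    rw [hs2, phi0, phi0, hidx, (chk_hom_spec _ hi').2, f4_mapRows_vB]

/-- The homomorphism to matrices over the field with four elements. -/
noncomputable def phiM (hK : Fintype.card K = 3) :
    Matrix.symplecticGroup (Fin 2) K →* Matrix (Fin 4) (Fin 4) K4 :=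
  homOfClosure phi0 gens (mclosure_gens hK) phi0_one (phi0_mul_gen hK)

lemma phiM_apply (hK : Fintype.card K = 3) (g : Matrix.symplecticGroup (Fin 2) K) :
    phiM hK g = phi0 g := rfl

omit [CharP K 3] [Fintype K] in
lemma ι_negOneSp : ι (Cfsg.Agent.S0246.negOneSp (Fin 2) K) = -1 := by
  rw [ι_apply]
  show (-1 : Matrix (Fin 2 ⊕ Fin 2) (Fin 2 ⊕ Fin 2) K).submatrix eIdx.symm eIdx.symm = -1
  rw [Matrix.submatrix_neg]
  show -((1 : Matrix (Fin 2 ⊕ Fin 2) (Fin 2 ⊕ Fin 2) K).submatrix eIdx.symm eIdx.symm) = -1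
  rw [Matrix.submatrix_one_equiv]

lemma phiM_eq_one (hK : Fintype.card K = 3) (g : Matrix.symplecticGroup (Fin 2) K)
    (hg1 : phiM hK g = 1) : g ∈ Subgroup.center (Matrix.symplecticGroup (Fin 2) K) := by
  rw [phiM_apply, phi0, ← f4_one] at hg1
  obtain ⟨hi, hg⟩ := idx_spec hK g
  set i := idx g with hidef
  have hi' : i < 51840 := hi
  have hU : U i = oneC4 :=
    fR_injOn 4 4 dig4 (by norm_num) dig4_injOn _ _ (U_lt i) (by decide) hg1
  have hker := chk_ker
  rw [List.all_eq_true] at hker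
  have hk := hker i (List.mem_range.2 hi')
  rw [Bool.or_eq_true, Bool.or_eq_true, beq_iff_eq, beq_iff_eq, bne_iff_ne] at hk
  rcases hk with (hk | hk) | hk
  · have : g = 1 := by
      apply ι_injective
      have h0 : D.T 16902 = oneC := D_valid.T_i0
      rw [hg, hk, h0, f3_one_K, map_one]
    rw [this]
    exact one_mem _
  · have : g = Cfsg.Agent.S0246.negOneSp (Fin 2) K := by
      apply ι_injective
      rw [hg, hk, T_neg, f3_neg_K, ι_negOneSp]
    rw [this]
    exact Cfsg.Agent.S0246.negOneSp_mem_center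
  · exact absurd hU hk

end Field

/-- `PSU₄(2)` is isomorphic to `PSp₄(3)`. -/
theorem exists_equiv {F K : Type*} [Field F] [Fintype F] [Field K] [Fintype K]
    (hF : Fintype.card F = 4) (hK : Fintype.card K = 3) :
    Nonempty (Cfsg.PSU 4 F 2 ≃* Cfsg.PSp 2 K) := by
  have : CharP K 3 := charP_of_card_eq_prime_pow 3 1 Nat.prime_three (by rw [hK]; norm_num)
  have : CharP F 2 := charP_of_card_eq_prime_pow 2 2 Nat.prime_two (by rw [hF]; norm_num)
  have : Fact (Nat.Prime 2) := ⟨Nat.prime_two⟩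
  have e : K4 ≃+* F := FiniteField.ringEquivOfCardEq (card_K4.trans hF.symm)
  obtain ⟨Φ, hΦ⟩ := exists_hom_SU (p := 2) (F := F) gens (mclosure_gens hK) (phiM hK)
    (by
      intro s hs
      rcases phi0_gen s hs with ⟨_, hs2⟩ | ⟨_, hs2⟩
      · rw [phiM_apply, hs2]; exact det_A
      · rw [phiM_apply, hs2]; exact det_B)
    (by
      intro s hs
      rcases phi0_gen s hs with ⟨_, hs2⟩ | ⟨_, hs2⟩
      · rw [phiM_apply, hs2]; exact unitary_A
      · rw [phiM_apply, hs2]; exact unitary_B)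
    e
  have hker : Φ.ker ≤ Subgroup.center (Matrix.symplecticGroup (Fin 2) K) := by
    intro g hg
    exact phiM_eq_one hK g ((hΦ g).1 hg)
  have hSp : Nat.card (Matrix.symplecticGroup (Fin 2) K) = 51840 := card_Sp hK
  have hSU : Nat.card (Cfsg.SU 4 F 2) = 25920 := by
    have h := Cfsg.Agent.S0278.result (F := F) (q := 2) (by rw [hF]; norm_num) 4 (by norm_num)
    have h3 : (2 : ℕ) ^ (4 * (4 - 1) / 2) * ∏ i ∈ Finset.range 4,
        (if Even i then 2 ^ (i + 1) + 1 else 2 ^ (i + 1) - 1) = 77760 := by decide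
    rw [h3] at h
    omega
  have hcen : Nat.card (Subgroup.center (Matrix.symplecticGroup (Fin 2) K)) = 2 := by
    rw [Cfsg.Agent.S0246.result (F := K) (q := 3) hK 2 (by norm_num)]
    decide
  have : Finite (Cfsg.SU 4 F 2) := inferInstance
  have h1 : Nat.card Φ.ker ≤ 2 := (Subgroup.card_le_of_le hker).trans hcen.le
  have h2 : Nat.card Φ.range * Nat.card Φ.ker = 51840 := by
    rw [← hSp, ← Nat.card_congr (QuotientGroup.quotientKerEquivRange Φ).toEquiv]
    exact (Subgroup.card_eq_card_quotient_mul_card_subgroup _).symm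
  have h3 : Nat.card Φ.range ≤ 25920 := (Subgroup.card_le_card_group _).trans hSU.le
  have h4 : Nat.card Φ.range * Nat.card Φ.ker ≤ Nat.card Φ.range * 2 := Nat.mul_le_mul_left _ h1
  have h5 : Nat.card Φ.range = 25920 := by omega
  have h6 : Nat.card Φ.ker = 2 := by
    rw [h5] at h2
    omega
  have hrange : Φ.range = ⊤ := by
    rw [← Subgroup.card_eq_iff_eq_top, h5, hSU]
  have hsurj : Function.Surjective Φ := MonoidHom.range_eq_top.1 hrange
  have hkc : Φ.ker = Subgroup.center (Matrix.symplecticGroup (Fin 2) K) :=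
    Subgroup.eq_of_le_of_card_ge hker (by rw [hcen, h6])
  have hcSU : Subgroup.center (Cfsg.SU 4 F 2) = ⊥ := by
    rw [← Subgroup.card_eq_one,
      Cfsg.Agent.Lib.Helper5.card_center_SU (n := 4) (q := 2) (by rw [hF]; norm_num) (by norm_num)]
    decide
  exact ⟨(quotientCenterEquivOfEqBot hcSU).trans
    ((QuotientGroup.quotientKerEquivOfSurjective Φ hsurj).symm.trans
      (QuotientGroup.quotientMulEquivOfEq hkc))⟩

end Cfsg.Agent.Lib.Helper57.S43
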