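import Cfsg.Agent.Lib.Helper57.SpecPSU33
import Cfsg.Agent.Lib.Helper57.CayleyHom
import Cfsg.Agent.Lib.Helper57.RowCode

set_option autoImplicit false

/-!
# Homomorphisms into `SU₃(F)`, `|F| = 9`, from matrices over the model field

A homomorphism from a group to the `3 × 3` matrices over `K9 = 𝔽₃[√2]` whose values at a set of
generators are unitary of determinant one gives a homomorphism to `SU₃(F)` for every field `F`
with nine elements, with the same kernel.
-/

namespace Cfsg.Agent.Lib.Helper57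

open Matrix

/-- The element of `K9` with a given base `9` digit. -/
def dig9 (d : ℕ) : K9 := ⟨((d % 3 : ℕ) : ZMod 3), ((d / 3 : ℕ) : ZMod 3)⟩

lemma dig9_injOn : ∀ a < 9, ∀ b < 9, dig9 a = dig9 b → a = b := by decide

section

variable {G : Type*} [Group G] {F : Type*} [Field F]

/-- The homomorphism to matrices over a field with nine elements. -/
noncomputable def su33MatHom (e : K9 ≃+* F) (φ : G →* Matrix (Fin 3) (Fin 3) K9) :
    G →* Matrix (Fin 3) (Fin 3) F :=
  ((RingEquiv.mapMatrix e : Matrix (Fin 3) (Fin 3) K9 ≃+* Matrix (Fin 3) (Fin 3) F) :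
    Matrix (Fin 3) (Fin 3) K9 →* Matrix (Fin 3) (Fin 3) F).comp φ

lemma su33MatHom_apply (e : K9 ≃+* F) (φ : G →* Matrix (Fin 3) (Fin 3) K9) (g : G) :
    su33MatHom e φ g = (φ g).map e := rfl

lemma su33MatHom_eq_one_iff (e : K9 ≃+* F) (φ : G →* Matrix (Fin 3) (Fin 3) K9) (g : G) :
    su33MatHom e φ g = 1 ↔ φ g = 1 := by
  show (RingEquiv.mapMatrix e) (φ g) = 1 ↔ _
  rw [map_eq_one_iff _ (RingEquiv.injective _)]

lemma su33_det_map {N : Matrix (Fin 3) (Fin 3) K9} (e : K9 ≃+* F) (hdet : N.det = 1) :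
    (N.map e).det = 1 := by
  have := RingHom.map_det (e : K9 →+* F) N
  rw [hdet, map_one] at this
  rw [this]
  rfl

lemma su33_unitary_map {N : Matrix (Fin 3) (Fin 3) K9} (e : K9 ≃+* F)
    (hN : Nᵀ * N.map (· ^ 3) = 1) : (N.map e)ᵀ * (N.map e).map (· ^ 3) = 1 := by
  have h1 : (N.map e).map (· ^ 3) = (N.map (· ^ 3)).map e := by
    ext i j
    simp [map_pow]
  rw [h1, ← Matrix.transpose_map, ← Matrix.map_mul, hN,
    Matrix.map_one _ (map_zero e) (map_one e)]

variable (gens : Set G) (hgens : Submonoid.closure gens = ⊤)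
  (φ : G →* Matrix (Fin 3) (Fin 3) K9) (hdet : ∀ s ∈ gens, (φ s).det = 1)
  (hun : ∀ s ∈ gens, (φ s)ᵀ * (φ s).map (· ^ 3) = 1)

include hgens hdet in
lemma su33_det (e : K9 ≃+* F) (g : G) : (su33MatHom e φ g).det = 1 := by
  refine forall_of_closure_eq_top gens hgens (fun g => (su33MatHom e φ g).det = 1) ?_ ?_ ?_ g
  · simp
  · intro s hs
    rw [su33MatHom_apply]
    exact su33_det_map e (hdet s hs)
  · intro x y hx hy
    rw [map_mul, Matrix.det_mul, hx, hy, one_mul]

/-- The homomorphism to `SL₃`. -/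
noncomputable def su33SLHom (e : K9 ≃+* F) : G →* Matrix.SpecialLinearGroup (Fin 3) F where
  toFun g := ⟨su33MatHom e φ g, su33_det gens hgens φ hdet e g⟩
  map_one' := Subtype.ext (map_one (su33MatHom e φ))
  map_mul' x y := Subtype.ext (map_mul (su33MatHom e φ) x y)

include hun in
lemma su33SLHom_mem [CharP F 3] (e : K9 ≃+* F) (g : G) :
    su33SLHom gens hgens φ hdet e g ∈ Cfsg.SU 3 F 3 := by
  refine forall_of_closure_eq_top gens hgens
    (fun g => su33SLHom gens hgens φ hdet e g ∈ Cfsg.SU 3 F 3) ?_ ?_ ?_ g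
  · simp only [map_one]
    exact one_mem _
  · intro s hs
    apply mem_SU_of_transpose_mul_map 3
    show (su33MatHom e φ s)ᵀ * (su33MatHom e φ s).map (· ^ 3) = 1
    rw [su33MatHom_apply]
    exact su33_unitary_map e (hun s hs)
  · intro x y hx hy
    rw [map_mul]
    exact mul_mem hx hy

include hgens hdet hun in
/-- A homomorphism to unitary matrices of determinant one over the model field gives a
homomorphism to `SU₃(F)` with the same kernel. -/
theorem exists_hom_SU33 [Fintype F] (hF : Fintype.card F = 9) :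
    ∃ Φ : G →* Cfsg.SU 3 F 3, ∀ g, Φ g = 1 ↔ φ g = 1 := by
  have := charP_three_of_card_nine hF
  have e : K9 ≃+* F := FiniteField.ringEquivOfCardEq (card_K9.trans hF.symm)
  refine ⟨(su33SLHom gens hgens φ hdet e).codRestrict (Cfsg.SU 3 F 3)
    (su33SLHom_mem gens hgens φ hdet hun e), ?_⟩
  intro g
  rw [← su33MatHom_eq_one_iff e φ g]
  constructor
  · intro h
    have := congrArg (fun x : Cfsg.SU 3 F 3 =>
      ((x : Matrix.SpecialLinearGroup (Fin 3) F) : Matrix (Fin 3) (Fin 3) F)) h
    exact this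
  · intro h
    apply Subtype.ext
    apply Subtype.ext
    exact h

end

end Cfsg.Agent.Lib.Helper57
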