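import Mathlib

set_option autoImplicit false

/-!
# Element orders `p * q` in an extension of a group by an invariant `5`-subgroup of a module

Let `G` act on the commutative group `N`, let `W ≤ N` be an invariant subgroup of exponent five,
and let `H = W ⋊ G` (as a subgroup of `N ⋊ G`).  If `G` has elements of order ten and fifteen,
the primes dividing its order are `2, 3, 5, 13`, and the elements of order thirteen of `G` fix no
element of `W` but `1`, then `H` has an element of order `p * q` (`p ≠ q` primes) exactly when `G`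
has one.
-/

namespace Cfsg.Agent.Lib.Helper57.SdpGraph

open SemidirectProduct

variable {G N : Type*} [Group G] [CommGroup N] (φ : G →* MulAut N) (W : Subgroup N)

/-- The subgroup `W ⋊ G` of `N ⋊ G`. -/
def sub (hinv : ∀ g : G, ∀ w ∈ W, φ g w ∈ W) : Subgroup (N ⋊[φ] G) where
  carrier := {x | x.left ∈ W}
  one_mem' := W.one_mem
  mul_mem' := by
    intro x y hx hy
    show (x * y).left ∈ W
    rw [mul_left]
    exact W.mul_mem hx (hinv _ _ hy)
  inv_mem' := by
    intro x hx
    show (x⁻¹).left ∈ W
    rw [inv_left]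
    exact hinv _ _ (W.inv_mem hx)

variable (hinv : ∀ g : G, ∀ w ∈ W, φ g w ∈ W)

lemma mem_sub (x : N ⋊[φ] G) : x ∈ sub φ W hinv ↔ x.left ∈ W := Iff.rfl

/-- `W ⋊ G` is in bijection with `W × G`. -/
def subEquiv : sub φ W hinv ≃ W × G where
  toFun x := (⟨x.1.left, x.2⟩, x.1.right)
  invFun y := ⟨⟨y.1.1, y.2⟩, y.1.2⟩
  left_inv x := by
    apply Subtype.ext
    rfl
  right_inv y := rfl

lemma card_sub : Nat.card (sub φ W hinv) = Nat.card W * Nat.card G := by
  rw [Nat.card_congr (subEquiv φ W hinv), Nat.card_prod]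

instance [Finite W] [Finite G] : Finite (sub φ W hinv) :=
  Finite.of_equiv _ (subEquiv φ W hinv).symm

lemma inl_pow (w : N) (n : ℕ) : (inl w : N ⋊[φ] G) ^ n = inl (w ^ n) := (map_pow inl w n).symm

/-- An element with trivial right component is in the image of `inl`. -/
lemma eq_inl_of_right_eq_one (x : N ⋊[φ] G) (hx : x.right = 1) : x = inl x.left :=
  SemidirectProduct.ext (by simp) (by simpa using hx)

include hinv in
/-- The order of an element of `W ⋊ G` divides five times the order of its right component. -/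
lemma orderOf_dvd (h5 : ∀ w ∈ W, w ^ 5 = 1) (y : N ⋊[φ] G) (hy : y ∈ sub φ W hinv) :
    orderOf y ∣ 5 * orderOf y.right := by
  set m := orderOf y.right with hm
  have hr : (y ^ m).right = 1 := by
    have : (y ^ m).right = y.right ^ m := map_pow (rightHom : N ⋊[φ] G →* G) y m
    rw [this, hm, pow_orderOf_eq_one]
  have hmem : y ^ m ∈ sub φ W hinv := Subgroup.pow_mem _ hy m
  have h1 : y ^ m = inl (y ^ m).left := eq_inl_of_right_eq_one φ _ hr
  apply orderOf_dvd_of_pow_eq_one
  rw [mul_comm, pow_mul, h1, inl_pow, h5 _ hmem, map_one]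

lemma right_order_dvd (y : N ⋊[φ] G) : orderOf y.right ∣ orderOf y :=
  orderOf_map_dvd (rightHom : N ⋊[φ] G →* G) y

/-- If the right component of `y` has order `13` and `y` has order `65`, then the right component
fixes a nontrivial element of `W`. -/
lemma exists_fixed (y : N ⋊[φ] G) (hy : y ∈ sub φ W hinv) (h13 : orderOf y.right = 13)
    (h65 : orderOf y = 65) : ∃ w ∈ W, w ≠ 1 ∧ φ y.right w = w := by
  have hr : (y ^ 13).right = 1 := by
    have : (y ^ 13).right = y.right ^ 13 := map_pow (rightHom : N ⋊[φ] G →* G) y 13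
    rw [this, ← h13, pow_orderOf_eq_one]
  have hmem : y ^ 13 ∈ sub φ W hinv := Subgroup.pow_mem _ hy 13
  have h1 : y ^ 13 = inl (y ^ 13).left := eq_inl_of_right_eq_one φ _ hr
  refine ⟨(y ^ 13).left, hmem, ?_, ?_⟩
  · intro h
    have h2 : y ^ 13 = 1 := by rw [h1, h, map_one]
    have h3 := orderOf_dvd_of_pow_eq_one h2
    rw [h65] at h3
    norm_num at h3
  · have hcomm : y * y ^ 13 = y ^ 13 * y := (pow_mul_comm' y 13).symm
    have hl := congrArg SemidirectProduct.left hcomm
    rw [mul_left, mul_left, hr, map_one, MulAut.one_apply, mul_comm (y ^ 13).left y.left] at hl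
    exact mul_left_cancel hl

/-- The divisors of a product of two primes. -/
lemma dvd_prime_mul_prime {p q m : ℕ} (hp : p.Prime) (hq : q.Prime) (hm : m ∣ p * q) :
    m = 1 ∨ m = p ∨ m = q ∨ m = p * q := by
  obtain ⟨a, b, ha, hb, rfl⟩ := (Nat.dvd_mul).mp hm
  rcases (Nat.dvd_prime hp).mp ha with rfl | rfl <;> rcases (Nat.dvd_prime hq).mp hb with rfl | rfl
  · left; rfl
  · right; right; left; simp
  · right; left; simp
  · right; right; right; rfl

include hinv in
theorem exists_order_iff [Finite G] (h5 : ∀ w ∈ W, w ^ 5 = 1)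
    (hcard : ∀ p : ℕ, p.Prime → p ∣ Nat.card G → p = 2 ∨ p = 3 ∨ p = 5 ∨ p = 13)
    (h10 : ∃ g : G, orderOf g = 10) (h15 : ∃ g : G, orderOf g = 15)
    (hfpf : ∀ g : G, orderOf g = 13 → ∀ w ∈ W, φ g w = w → w = 1)
    (p q : ℕ) (hp : p.Prime) (hq : q.Prime) (hpq : p ≠ q) :
    (∃ g : G, orderOf g = p * q) ↔ ∃ h : sub φ W hinv, orderOf h = p * q := by
  constructor
  · rintro ⟨g, hg⟩
    refine ⟨⟨inr g, W.one_mem⟩, ?_⟩
    rw [← Subgroup.orderOf_coe, ← hg]
    exact orderOf_injective (inr : G →* N ⋊[φ] G) inr_injective g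
  · rintro ⟨⟨y, hy⟩, hord⟩
    rw [← Subgroup.orderOf_coe] at hord
    change orderOf y = p * q at hord
    have hd1 : orderOf y.right ∣ p * q := hord ▸ right_order_dvd φ y
    have hd2 : p * q ∣ 5 * orderOf y.right := hord ▸ orderOf_dvd φ W hinv h5 y hy
    have hp2 := hp.two_le
    have hq2 := hq.two_le
    -- the key case: right component of prime order `r`, the other prime is five
    have key : ∀ r : ℕ, r.Prime → r ≠ 5 → orderOf y.right = r → orderOf y = r * 5 →
        ∃ g : G, orderOf g = r * 5 := by
      intro r hr hr5 hrr hy65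
      have hdvd : r ∣ Nat.card G := hrr ▸ orderOf_dvd_natCard y.right
      rcases hcard r hr hdvd with rfl | rfl | rfl | rfl
      · exact h10
      · exact h15
      · exact absurd rfl hr5
      · exfalso
        obtain ⟨w, hw, hw1, hfix⟩ := exists_fixed φ W hinv y hy hrr hy65
        exact hw1 (hfpf _ hrr w hw hfix)
    rcases dvd_prime_mul_prime hp hq hd1 with h | h | h | h
    · -- right component trivial
      rw [h, mul_one] at hd2
      have h1 : p = 5 :=
        (Nat.prime_dvd_prime_iff_eq hp (by norm_num)).mp (dvd_trans (dvd_mul_right p q) hd2)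
      have h2 : q = 5 :=
        (Nat.prime_dvd_prime_iff_eq hq (by norm_num)).mp (dvd_trans (dvd_mul_left q p) hd2)
      exact absurd (h1.trans h2.symm) hpq
    · -- right component of order `p`
      have hq5 : q = 5 := by
        rw [h, mul_comm 5 p] at hd2
        have := Nat.dvd_of_mul_dvd_mul_left hp.pos hd2
        exact (Nat.prime_dvd_prime_iff_eq hq (by norm_num)).mp this
      subst hq5
      exact key p hp hpq h hord
    · -- right component of order `q`
      have hp5 : p = 5 := by
        rw [h, mul_comm p q, mul_comm 5 q] at hd2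
        have := Nat.dvd_of_mul_dvd_mul_left hq.pos hd2
        exact (Nat.prime_dvd_prime_iff_eq hp (by norm_num)).mp this
      subst hp5
      obtain ⟨g, hg⟩ := key q hq (Ne.symm hpq) h (by rw [hord, mul_comm])
      exact ⟨g, by rw [hg, mul_comm]⟩
    · exact ⟨y.right, h⟩

end Cfsg.Agent.Lib.Helper57.SdpGraph
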