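import Mathlib.GroupTheory.Sylow
import Mathlib.GroupTheory.Perm.Cycle.Type
import Mathlib.Tactic

set_option autoImplicit false

/-!
# Simplicity from Sylow subgroups and normal closures

A finite group is simple as soon as, for every prime `p` dividing its order, it has a subgroup `E`
of order the `p`-part of the order such that no proper normal subgroup contains an element of
order `p` of `E`.
-/

namespace Cfsg.Agent.Lib.Helper57

lemma factorization_of_eq {n p k m : ℕ} (hp : p.Prime) (hn : n = p ^ k * m) (hm : ¬ p ∣ m) :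
    n.factorization p = k := by
  have hm0 : m ≠ 0 := by
    rintro rfl
    exact hm (dvd_zero p)
  rw [hn, Nat.factorization_mul (pow_ne_zero k hp.ne_zero) hm0, Nat.Prime.factorization_pow hp,
    Finsupp.add_apply, Finsupp.single_eq_same, Nat.factorization_eq_zero_of_not_dvd hm, add_zero]

/-- Simplicity from Sylow subgroups and normal closures. -/
theorem isSimpleGroup_of_sylow_certs {Γ : Type*} [Group Γ] [Finite Γ] [Nontrivial Γ]
    (h : ∀ p : ℕ, p.Prime → p ∣ Nat.card Γ → ∃ E : Subgroup Γ,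
      Nat.card E = p ^ (Nat.card Γ).factorization p ∧
        ∀ u ∈ E, orderOf u = p → ∀ N : Subgroup Γ, N.Normal → u ∈ N → N = ⊤) :
    IsSimpleGroup Γ := by
  refine ⟨?_⟩
  intro N hN
  by_cases hbot : N = ⊥
  · left
    exact hbot
  right
  have hcard : Nat.card N ≠ 1 := fun h1 => hbot (Subgroup.card_eq_one.1 h1)
  obtain ⟨p, hp, hpN⟩ := Nat.exists_prime_and_dvd hcard
  have := Fact.mk hp
  obtain ⟨n, hn⟩ := exists_prime_orderOf_dvd_card' p hpN
  have hpG : p ∣ Nat.card Γ := dvd_trans hpN (Subgroup.card_subgroup_dvd_card N)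
  obtain ⟨E, hE, hcert⟩ := h p hp hpG
  let Q : Sylow p Γ := Sylow.ofCard E hE
  have hn' : orderOf (n : Γ) = p := by rw [Subgroup.orderOf_coe, hn]
  have hpg : IsPGroup p (Subgroup.zpowers (n : Γ)) :=
    IsPGroup.of_card (n := 1) (by rw [Nat.card_zpowers, hn', pow_one])
  obtain ⟨P, hP⟩ := hpg.exists_le_sylow
  obtain ⟨g, hg⟩ := MulAction.exists_smul_eq Γ P Q
  have hnP : (n : Γ) ∈ P := hP (Subgroup.mem_zpowers _)
  have hu : g * n * g⁻¹ ∈ E := by
    have h2 : g * n * g⁻¹ ∈ ((g • P : Sylow p Γ) : Subgroup Γ) := by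
      rw [Sylow.coe_subgroup_smul]
      have h3 := Subgroup.smul_mem_pointwise_smul (n : Γ) (MulAut.conj g) (P : Subgroup Γ) hnP
      rwa [MulAut.smul_def, MulAut.conj_apply] at h3
    rw [hg] at h2
    exact h2
  have hord : orderOf (g * n * g⁻¹) = p := by
    have h4 : g * n * g⁻¹ = MulAut.conj g (n : Γ) := (MulAut.conj_apply g _).symm
    rw [h4, MulEquiv.orderOf_eq, hn']
  exact hcert _ hu hord N hN (hN.conj_mem _ n.2 g)

end Cfsg.Agent.Lib.Helper57
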