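import Mathlib.LinearAlgebra.SymplecticGroup
import Cfsg.Agent.Lib.Helper57.RowCode

set_option autoImplicit false

/-!
# Row codes with natural number digits and ring homomorphisms

Matrices coded row by row with the digits `d ↦ (d : K)` are mapped to each other by ring
homomorphisms, so that tables of right multiplications checked over `ZMod p` hold over every
ring of characteristic `p`.
-/

namespace Cfsg.Agent.Lib.Helper57

open Matrix

section NatCastDigits

variable {K L : Type*} [CommSemiring K] [CommSemiring L] (φ : K →+* L) (q n : ℕ)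

lemma rowVec_natCast_map (v : ℕ) :
    rowVec q n (Nat.cast : ℕ → L) v = φ ∘ rowVec q n (Nat.cast : ℕ → K) v := by
  ext j
  simp [rowVec]

lemma fR_natCast_map (c : ℕ) :
    fR q n (Nat.cast : ℕ → L) c = (fR q n (Nat.cast : ℕ → K) c).map φ := by
  ext i j
  simp [fR_apply]

include φ in
/-- A table of right multiplication on row codes checked over `K` holds over `L`. -/
theorem rowTable_map (A : ℕ) (vA : ℕ → ℕ)
    (h : ∀ v < q ^ n, vA v < q ^ n ∧ rowVec q n (Nat.cast : ℕ → K) (vA v) =
      Matrix.vecMul (rowVec q n (Nat.cast : ℕ → K) v) (fR q n (Nat.cast : ℕ → K) A)) :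
    ∀ v < q ^ n, vA v < q ^ n ∧ rowVec q n (Nat.cast : ℕ → L) (vA v) =
      Matrix.vecMul (rowVec q n (Nat.cast : ℕ → L) v) (fR q n (Nat.cast : ℕ → L) A) := by
  intro v hv
  obtain ⟨h1, h2⟩ := h v hv
  refine ⟨h1, ?_⟩
  rw [rowVec_natCast_map φ, rowVec_natCast_map φ, fR_natCast_map φ, h2]
  ext j
  exact RingHom.map_vecMul φ _ _ j

end NatCastDigits

end Cfsg.Agent.Lib.Helper57
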