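import Mathlib
import Cfsg.Prelude.Def_Classical
import Cfsg.Agent.S0246

set_option autoImplicit false

/-!
# The spectrum of `PSp₄(3)`

The characteristic polynomial of a symplectic matrix is palindromic, so over the field with three
elements there are nine possibilities in dimension four, and each of them divides one of
`X ^ 5 ∓ 1`, `X ^ 9 ∓ 1`, `X ^ 12 ∓ 1`.
-/

namespace Cfsg.Agent.Lib.Helper57.SpecPSp43

open Matrix Polynomial

section Palin

variable {l : Type*} [DecidableEq l] [Fintype l] {K : Type*} [Field K]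

lemma charpoly_reverse_of_symplectic (M : Matrix (l ⊕ l) (l ⊕ l) K)
    (hM : M ∈ symplecticGroup l K) : M.charpoly.reverse = M.charpoly := by
  have hdet : M.det = 1 := SymplecticGroup.det_eq_one hM
  have hunit : IsUnit M := (Matrix.isUnit_iff_isUnit_det M).2 (by rw [hdet]; exact isUnit_one)
  have h1 := Matrix.charpoly_inv M hunit
  have hcard : Fintype.card (l ⊕ l) = 2 * Fintype.card l := by
    rw [Fintype.card_sum]; ring
  rw [hdet, Ring.inverse_one, map_one, mul_one, hcard, pow_mul, neg_one_sq, one_pow, one_mul,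
    ← Matrix.reverse_charpoly] at h1
  rw [← h1, SymplecticGroup.inv_eq_symplectic_inv M hM, Matrix.charpoly_mul_comm, ← mul_assoc,
    mul_neg, Matrix.J_squared, neg_neg, one_mul, Matrix.charpoly_transpose]

end Palin


section Ids

variable {K : Type*} [Field K] [CharP K 3]

lemma three_eq_zero : (3 : K[X]) = 0 := by
  have h : ((3 : ℕ) : K) = 0 := CharP.cast_eq_zero K 3
  have h2 : (3 : K[X]) = C ((3 : ℕ) : K) := by
    rw [Polynomial.C_eq_natCast]; norm_num
  rw [h2, h, map_zero]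

lemma id_zz : (X ^ 4 + 0 * X ^ 3 + 0 * X ^ 2 + 0 * X + 1 : K[X]) * (1 + (-1) * X ^ 4 + X ^ 8) = X ^ 12 - (-1) := by
  have h3 := three_eq_zero (K := K)
  linear_combination (0) * h3

lemma id_zp : (X ^ 4 + 0 * X ^ 3 + 1 * X ^ 2 + 0 * X + 1 : K[X]) * ((-1) * 1 + X ^ 2 + (-1) * X ^ 6 + X ^ 8) = X ^ 12 - 1 := by
  have h3 := three_eq_zero (K := K)
  linear_combination (0) * h3

lemma id_zm : (X ^ 4 + 0 * X ^ 3 + (-1) * X ^ 2 + 0 * X + 1 : K[X]) * ((-1) * 1 + (-1) * X ^ 2 + X ^ 6 + X ^ 8) = X ^ 12 - 1 := by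
  have h3 := three_eq_zero (K := K)
  linear_combination (0) * h3

lemma id_pz : (X ^ 4 + 1 * X ^ 3 + 0 * X ^ 2 + 1 * X + 1 : K[X]) * (1 + (-1) * X + X ^ 2 + X ^ 3 + (-1) * X ^ 4 + X ^ 5) = X ^ 9 - (-1) := by
  have h3 := three_eq_zero (K := K)
  linear_combination (X ^ 3 + X ^ 6) * h3

lemma id_pp : (X ^ 4 + 1 * X ^ 3 + 1 * X ^ 2 + 1 * X + 1 : K[X]) * ((-1) * 1 + X) = X ^ 5 - 1 := by
  have h3 := three_eq_zero (K := K)
  linear_combination (0) * h3

lemma id_pm : (X ^ 4 + 1 * X ^ 3 + (-1) * X ^ 2 + 1 * X + 1 : K[X]) * ((-1) * 1 + X + X ^ 2 + X ^ 3 + (-1) * X ^ 5 + (-1) * X ^ 6 + (-1) * X ^ 7 + X ^ 8) = X ^ 12 - 1 := by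
  have h3 := three_eq_zero (K := K)
  linear_combination (X ^ 2 + (-1) * X ^ 10) * h3

lemma id_mz : (X ^ 4 + (-1) * X ^ 3 + 0 * X ^ 2 + (-1) * X + 1 : K[X]) * ((-1) * 1 + (-1) * X + (-1) * X ^ 2 + X ^ 3 + X ^ 4 + X ^ 5) = X ^ 9 - 1 := by
  have h3 := three_eq_zero (K := K)
  linear_combination (X ^ 3 + (-1) * X ^ 6) * h3

lemma id_mp : (X ^ 4 + (-1) * X ^ 3 + 1 * X ^ 2 + (-1) * X + 1 : K[X]) * (1 + X) = X ^ 5 - (-1) := by
  have h3 := three_eq_zero (K := K)
  linear_combination (0) * h3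

lemma id_mm : (X ^ 4 + (-1) * X ^ 3 + (-1) * X ^ 2 + (-1) * X + 1 : K[X]) * ((-1) * 1 + (-1) * X + X ^ 2 + (-1) * X ^ 3 + X ^ 5 + (-1) * X ^ 6 + X ^ 7 + X ^ 8) = X ^ 12 - 1 := by
  have h3 := three_eq_zero (K := K)
  linear_combination (X ^ 2 + (-1) * X ^ 10) * h3


end Ids

section Main

variable {K : Type*} [Field K] [Fintype K]

lemma eq_zero_or_one_or_neg_one (hK : Fintype.card K = 3) (x : K) : x = 0 ∨ x = 1 ∨ x = -1 := by
  have h := FiniteField.pow_card x
  rw [hK] at h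
  have h2 : x * (x - 1) * (x + 1) = 0 := by linear_combination h
  rcases mul_eq_zero.1 h2 with h3 | h3
  · rcases mul_eq_zero.1 h3 with h4 | h4
    · exact Or.inl h4
    · exact Or.inr (Or.inl (sub_eq_zero.1 h4))
  · exact Or.inr (Or.inr (eq_neg_of_add_eq_zero_left h3))

omit [Fintype K] in
lemma charpoly_form (M : Matrix (Fin 2 ⊕ Fin 2) (Fin 2 ⊕ Fin 2) K)
    (hM : M ∈ symplecticGroup (Fin 2) K) :
    ∃ a b : K, M.charpoly = X ^ 4 + C a * X ^ 3 + C b * X ^ 2 + C a * X + 1 := by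
  have hrev := charpoly_reverse_of_symplectic M hM
  have hdeg : M.charpoly.natDegree = 4 := by
    rw [Matrix.charpoly_natDegree_eq_dim]; rfl
  have hmonic := Matrix.charpoly_monic M
  have h4 : M.charpoly.coeff 4 = 1 := by
    have := hmonic.coeff_natDegree
    rwa [hdeg] at this
  have hc : ∀ i, i ≤ 4 → M.charpoly.coeff i = M.charpoly.coeff (4 - i) := by
    intro i hi
    have := Polynomial.coeff_reverse M.charpoly i
    rw [hrev, hdeg, Polynomial.revAt_le hi] at this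
    exact this
  have h0 : M.charpoly.coeff 0 = 1 := by rw [hc 0 (by norm_num)]; exact h4
  have h1 : M.charpoly.coeff 1 = M.charpoly.coeff 3 := hc 1 (by norm_num)
  refine ⟨M.charpoly.coeff 3, M.charpoly.coeff 2, ?_⟩
  conv_lhs => rw [Polynomial.as_sum_range' M.charpoly 5 (by rw [hdeg]; norm_num)]
  simp only [Finset.sum_range_succ, Finset.sum_range_zero, zero_add, h0, h1, h4,
    ← Polynomial.C_mul_X_pow_eq_monomial]
  simp only [map_one, pow_zero, mul_one, pow_one, one_mul]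
  ring

/-- Every element of `Sp₄(3)` has a 5th, 9th or 12th power equal to `±1`. -/
theorem pow_cases (hK : Fintype.card K = 3) (M : Matrix (Fin 2 ⊕ Fin 2) (Fin 2 ⊕ Fin 2) K)
    (hM : M ∈ symplecticGroup (Fin 2) K) :
    (M ^ 5 = 1 ∨ M ^ 5 = -1) ∨ (M ^ 9 = 1 ∨ M ^ 9 = -1) ∨ (M ^ 12 = 1 ∨ M ^ 12 = -1) := by
  have : CharP K 3 := by
    obtain ⟨p, hp⟩ := CharP.exists K
    obtain ⟨n, hprime, hcard⟩ := FiniteField.card K p
    have h1 : p ∣ 3 ^ 1 := by
      rw [pow_one, ← hK, hcard]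
      exact dvd_pow_self p n.ne_zero
    have h2 : p = 3 :=
      (Nat.prime_dvd_prime_iff_eq hprime Nat.prime_three).1 (hprime.dvd_of_dvd_pow h1)
    rw [← h2]
    exact hp
  obtain ⟨a, b, hab⟩ := charpoly_form M hM
  have hCH := Matrix.aeval_self_charpoly M
  have key : ∀ (q : K[X]) (k : ℕ) (e : K[X]), M.charpoly * q = X ^ k - e →
      M ^ k = aeval M e := by
    intro q k e h
    have h2 := congrArg (aeval M) h
    rw [map_mul, hCH, zero_mul, map_sub, map_pow, aeval_X] at h2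
    exact (sub_eq_zero.1 h2.symm)
  rcases eq_zero_or_one_or_neg_one hK a with rfl | rfl | rfl <;>
    rcases eq_zero_or_one_or_neg_one hK b with rfl | rfl | rfl <;>
    simp only [map_zero, map_one, map_neg] at hab
  · have := key _ 12 (-1) (by rw [hab]; exact id_zz)
    right; right; right; simpa using this
  · have := key _ 12 1 (by rw [hab]; exact id_zp)
    right; right; left; simpa using this
  · have := key _ 12 1 (by rw [hab]; exact id_zm)
    right; right; left; simpa using this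
  · have := key _ 9 (-1) (by rw [hab]; exact id_pz)
    right; left; right; simpa using this
  · have := key _ 5 1 (by rw [hab]; exact id_pp)
    left; left; simpa using this
  · have := key _ 12 1 (by rw [hab]; exact id_pm)
    right; right; left; simpa using this
  · have := key _ 9 1 (by rw [hab]; exact id_mz)
    right; left; left; simpa using this
  · have := key _ 5 (-1) (by rw [hab]; exact id_mp)
    left; right; simpa using this
  · have := key _ 12 1 (by rw [hab]; exact id_mm)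
    right; right; left; simpa using this

end Main


section Spectrum

open Cfsg.Agent.Lib.Helper5

variable {K : Type*} [Field K]

lemma mk_pow_eq_one_iff (g : symplecticGroup (Fin 2) K) (k : ℕ) :
    ((QuotientGroup.mk g : Cfsg.PSp 2 K)) ^ k = 1 ↔
      ((g : Matrix (Fin 2 ⊕ Fin 2) (Fin 2 ⊕ Fin 2) K) ^ k = 1 ∨
        (g : Matrix (Fin 2 ⊕ Fin 2) (Fin 2 ⊕ Fin 2) K) ^ k = -1) := by
  rw [← QuotientGroup.mk_pow, QuotientGroup.eq_one_iff]
  constructor
  · intro h
    have := symplecticGroup_center_eq_one_or_neg_one (g ^ k) h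
    rwa [SubmonoidClass.coe_pow] at this
  · rintro (h | h)
    · have : g ^ k = 1 := by
        apply Subtype.ext
        rw [SubmonoidClass.coe_pow, h]; rfl
      rw [this]; exact one_mem _
    · have : g ^ k = Cfsg.Agent.S0246.negOneSp (Fin 2) K := by
        apply Subtype.ext
        rw [SubmonoidClass.coe_pow, h]; rfl
      rw [this]; exact Cfsg.Agent.S0246.negOneSp_mem_center

/-- An element of projective order 5. -/
def M5 : Matrix (Fin 2 ⊕ Fin 2) (Fin 2 ⊕ Fin 2) (ZMod 3) :=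
  Matrix.fromBlocks !![0, 1; 0, 0] !![0, 0; 2, 0] !![0, 1; 1, 1] !![2, 1; 0, 0]

/-- An element of projective order 9. -/
def M9 : Matrix (Fin 2 ⊕ Fin 2) (Fin 2 ⊕ Fin 2) (ZMod 3) :=
  Matrix.fromBlocks !![0, 2; 0, 0] !![2, 0; 1, 0] !![0, 0; 2, 0] !![0, 2; 0, 2]

/-- An element of projective order 12. -/
def M12 : Matrix (Fin 2 ⊕ Fin 2) (Fin 2 ⊕ Fin 2) (ZMod 3) :=
  Matrix.fromBlocks !![0, 0; 0, 2] !![1, 0; 0, 0] !![2, 0; 0, 1] !![0, 0; 0, 2]

lemma M5_mem : M5 ∈ symplecticGroup (Fin 2) (ZMod 3) := by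
  rw [SymplecticGroup.mem_iff]; decide +kernel

lemma M9_mem : M9 ∈ symplecticGroup (Fin 2) (ZMod 3) := by
  rw [SymplecticGroup.mem_iff]; decide +kernel

lemma M12_mem : M12 ∈ symplecticGroup (Fin 2) (ZMod 3) := by
  rw [SymplecticGroup.mem_iff]; decide +kernel

lemma M5_pow : (M5 ^ 5 = 1 ∨ M5 ^ 5 = -1) ∧ ¬ (M5 ^ 1 = 1 ∨ M5 ^ 1 = -1) := by decide +kernel

lemma M9_pow : (M9 ^ 9 = 1 ∨ M9 ^ 9 = -1) ∧ ¬ (M9 ^ 3 = 1 ∨ M9 ^ 3 = -1) := by decide +kernel

lemma M12_pow : (M12 ^ 12 = 1 ∨ M12 ^ 12 = -1) ∧ ¬ (M12 ^ 6 = 1 ∨ M12 ^ 6 = -1) ∧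
    ¬ (M12 ^ 4 = 1 ∨ M12 ^ 4 = -1) := by decide +kernel

variable [CharP K 3]

/-- Transport of a matrix over `ZMod 3` to `K`. -/
def lift (A : Matrix (Fin 2 ⊕ Fin 2) (Fin 2 ⊕ Fin 2) (ZMod 3))
    (hA : A ∈ symplecticGroup (Fin 2) (ZMod 3)) : symplecticGroup (Fin 2) K :=
  ⟨A.map (ZMod.castHom (dvd_refl 3) K), SymplecticGroup.map_mem hA (ZMod.castHom (dvd_refl 3) K)⟩

lemma lift_pow_iff (A : Matrix (Fin 2 ⊕ Fin 2) (Fin 2 ⊕ Fin 2) (ZMod 3))
    (hA : A ∈ symplecticGroup (Fin 2) (ZMod 3)) (k : ℕ) :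
    ((QuotientGroup.mk (lift (K := K) A hA) : Cfsg.PSp 2 K)) ^ k = 1 ↔ (A ^ k = 1 ∨ A ^ k = -1) := by
  rw [mk_pow_eq_one_iff]
  have hinj : Function.Injective ((ZMod.castHom (dvd_refl 3) K).mapMatrix :
      Matrix (Fin 2 ⊕ Fin 2) (Fin 2 ⊕ Fin 2) (ZMod 3) → Matrix (Fin 2 ⊕ Fin 2) (Fin 2 ⊕ Fin 2) K) := by
    intro X Y h
    ext i j
    have := congrFun (congrFun h i) j
    simp only [RingHom.mapMatrix_apply, Matrix.map_apply] at this
    exact (ZMod.castHom (dvd_refl 3) K).injective this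
  have hcoe : ((lift (K := K) A hA : symplecticGroup (Fin 2) K) :
      Matrix (Fin 2 ⊕ Fin 2) (Fin 2 ⊕ Fin 2) K) = (ZMod.castHom (dvd_refl 3) K).mapMatrix A := rfl
  rw [hcoe, ← map_pow]
  constructor
  · rintro (h | h)
    · left; apply hinj; rw [h, map_one]
    · right; apply hinj; rw [h, map_neg, map_one]
  · rintro (h | h)
    · left; rw [h, map_one]
    · right; rw [h, map_neg, map_one]

end Spectrum


section Final

variable {K : Type*} [Field K] [Fintype K]

/-- The set of element orders of `PSp₄(3)`. -/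
theorem range_orderOf (hK : Fintype.card K = 3) :
    Set.range (orderOf : Cfsg.PSp 2 K → ℕ) = {1, 2, 3, 4, 5, 6, 9, 12} := by
  have hchar : CharP K 3 := by
    obtain ⟨p, hp⟩ := CharP.exists K
    obtain ⟨n, hprime, hcard⟩ := FiniteField.card K p
    have h1 : p ∣ 3 ^ 1 := by
      rw [pow_one, ← hK, hcard]
      exact dvd_pow_self p n.ne_zero
    have h2 : p = 3 :=
      (Nat.prime_dvd_prime_iff_eq hprime Nat.prime_three).1 (hprime.dvd_of_dvd_pow h1)
    rw [← h2]
    exact hp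
  apply Set.eq_of_subset_of_subset
  · rintro _ ⟨q, rfl⟩
    obtain ⟨g, rfl⟩ := QuotientGroup.mk_surjective q
    have hd5 : Nat.divisors 5 = {1, 5} := by decide
    have hd9 : Nat.divisors 9 = {1, 3, 9} := by decide
    have hd12 : Nat.divisors 12 = {1, 2, 3, 4, 6, 12} := by decide
    rcases pow_cases hK (g : Matrix (Fin 2 ⊕ Fin 2) (Fin 2 ⊕ Fin 2) K) g.2 with h | h | h
    · have h1 := orderOf_dvd_of_pow_eq_one ((mk_pow_eq_one_iff g 5).2 h)
      have h2 : orderOf (QuotientGroup.mk g : Cfsg.PSp 2 K) ∈ Nat.divisors 5 :=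
        Nat.mem_divisors.2 ⟨h1, by norm_num⟩
      rw [hd5] at h2
      simp only [Finset.mem_insert, Finset.mem_singleton] at h2
      simp only [Set.mem_insert_iff, Set.mem_singleton_iff]
      omega
    · have h1 := orderOf_dvd_of_pow_eq_one ((mk_pow_eq_one_iff g 9).2 h)
      have h2 : orderOf (QuotientGroup.mk g : Cfsg.PSp 2 K) ∈ Nat.divisors 9 :=
        Nat.mem_divisors.2 ⟨h1, by norm_num⟩
      rw [hd9] at h2
      simp only [Finset.mem_insert, Finset.mem_singleton] at h2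
      simp only [Set.mem_insert_iff, Set.mem_singleton_iff]
      omega
    · have h1 := orderOf_dvd_of_pow_eq_one ((mk_pow_eq_one_iff g 12).2 h)
      have h2 : orderOf (QuotientGroup.mk g : Cfsg.PSp 2 K) ∈ Nat.divisors 12 :=
        Nat.mem_divisors.2 ⟨h1, by norm_num⟩
      rw [hd12] at h2
      simp only [Finset.mem_insert, Finset.mem_singleton] at h2
      simp only [Set.mem_insert_iff, Set.mem_singleton_iff]
      omega
  · have o5 : orderOf (QuotientGroup.mk (lift (K := K) M5 M5_mem) : Cfsg.PSp 2 K) = 5 := by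
      have : Fact (Nat.Prime 5) := ⟨by norm_num⟩
      apply orderOf_eq_prime
      · exact (lift_pow_iff M5 M5_mem 5).2 M5_pow.1
      · intro h
        apply M5_pow.2
        apply (lift_pow_iff (K := K) M5 M5_mem 1).1
        rw [pow_one, h]
    have o9 : orderOf (QuotientGroup.mk (lift (K := K) M9 M9_mem) : Cfsg.PSp 2 K) = 9 := by
      have : Fact (Nat.Prime 3) := ⟨by norm_num⟩
      apply orderOf_eq_prime_pow (p := 3) (n := 1)
      · intro h
        exact M9_pow.2 ((lift_pow_iff (K := K) M9 M9_mem 3).1 h)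
      · exact (lift_pow_iff M9 M9_mem 9).2 M9_pow.1
    have o12 : orderOf (QuotientGroup.mk (lift (K := K) M12 M12_mem) : Cfsg.PSp 2 K) = 12 := by
      apply orderOf_eq_of_pow_and_pow_div_prime (by norm_num)
      · exact (lift_pow_iff M12 M12_mem 12).2 M12_pow.1
      · intro q hq hd
        have h23 : q = 2 ∨ q = 3 := by
          have h : q ∣ 2 ^ 2 * 3 := hd
          rcases (Nat.Prime.dvd_mul hq).1 h with h | h
          · left; exact (Nat.prime_dvd_prime_iff_eq hq Nat.prime_two).1 (hq.dvd_of_dvd_pow h)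
          · right; exact (Nat.prime_dvd_prime_iff_eq hq Nat.prime_three).1 h
        rcases h23 with rfl | rfl
        · intro h
          exact M12_pow.2.1 ((lift_pow_iff (K := K) M12 M12_mem 6).1 h)
        · intro h
          exact M12_pow.2.2 ((lift_pow_iff (K := K) M12 M12_mem 4).1 h)
    have hpow : ∀ n : ℕ, n ≠ 0 → n ∣ 12 → 12 / n ∈ Set.range (orderOf : Cfsg.PSp 2 K → ℕ) := by
      intro n hn hd
      refine ⟨(QuotientGroup.mk (lift (K := K) M12 M12_mem) : Cfsg.PSp 2 K) ^ n, ?_⟩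
      rw [orderOf_pow_of_dvd hn (by rw [o12]; exact hd), o12]
    intro n hn
    simp only [Set.mem_insert_iff, Set.mem_singleton_iff] at hn
    rcases hn with rfl | rfl | rfl | rfl | rfl | rfl | rfl | rfl
    · exact ⟨1, orderOf_one⟩
    · exact hpow 6 (by norm_num) (by norm_num)
    · exact hpow 4 (by norm_num) (by norm_num)
    · exact hpow 3 (by norm_num) (by norm_num)
    · exact ⟨_, o5⟩
    · exact hpow 2 (by norm_num) (by norm_num)
    · exact ⟨_, o9⟩
    · exact ⟨_, o12⟩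

end Final

end Cfsg.Agent.Lib.Helper57.SpecPSp43
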