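import Mathlib
import Cfsg.Agent.Lib.Helper57.FieldN16

set_option autoImplicit false

/-!
# The Hermitian unital of order four over the field `N16`

The 65 isotropic points of the Hermitian form `∑ uᵢ vᵢ ^ 4` on `N16 ^ 3`, numbered by `Fin 65`
(`pt`), the index of the point spanned by an isotropic vector (`idx`), an element `S0` of order 13
of the special unitary group with its permutation `sig` of the points, four blocks (sets of five
collinear points) and a non-constant function `f0N` whose sum over every block is divisible by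
five.  Everything is checked by the kernel.
-/

namespace Cfsg.Agent.Lib.Helper57.U34

open N16

/-- The number of an element of `N16`. -/
def toNat : N16 → ℕ
  | e0 => 0
  | e1 => 1
  | e2 => 2
  | e3 => 3
  | e4 => 4
  | e5 => 5
  | e6 => 6
  | e7 => 7
  | e8 => 8
  | e9 => 9
  | e10 => 10
  | e11 => 11
  | e12 => 12
  | e13 => 13
  | e14 => 14
  | e15 => 15

/-- The element of `N16` with a given number. -/
def ofNat : ℕ → N16
  | 0 => e0
  | 1 => e1
  | 2 => e2
  | 3 => e3
  | 4 => e4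
  | 5 => e5
  | 6 => e6
  | 7 => e7
  | 8 => e8
  | 9 => e9
  | 10 => e10
  | 11 => e11
  | 12 => e12
  | 13 => e13
  | 14 => e14
  | _ => e15

/-- Vectors of length three. -/
abbrev V : Type := Fin 3 → N16

/-- The vector with the given coordinates. -/
def vec (a b c : N16) : V := ![a, b, c]

lemma vec_eta (v : V) : v = vec (v 0) (v 1) (v 2) := by
  ext i; fin_cases i <;> rfl

/-- The Hermitian form, by the tables. -/
def hm (u v : V) : N16 :=
  add (add (mul (u 0) (frob (v 0))) (mul (u 1) (frob (v 1)))) (mul (u 2) (frob (v 2)))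

/-- The product of a matrix and a vector, by the tables. -/
def mv3 (M : Matrix (Fin 3) (Fin 3) N16) (v : V) : V :=
  ![add (add (mul (M 0 0) (v 0)) (mul (M 0 1) (v 1))) (mul (M 0 2) (v 2)),
    add (add (mul (M 1 0) (v 0)) (mul (M 1 1) (v 1))) (mul (M 1 2) (v 2)),
    add (add (mul (M 2 0) (v 0)) (mul (M 2 1) (v 1))) (mul (M 2 2) (v 2))]

lemma mulVec_eq (M : Matrix (Fin 3) (Fin 3) N16) (v : V) : Matrix.mulVec M v = mv3 M v := by
  ext i
  fin_cases i <;> simp [Matrix.mulVec, dotProduct, Fin.sum_univ_three, mv3] <;> rfl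

/-- The multiple of a vector whose first nonzero coordinate is one. -/
def nrm (v : V) : V :=
  if v 0 = e0 then
    (if v 1 = e0 then (if v 2 = e0 then v else vec e0 e0 e1)
      else vec e0 e1 (mul (inv (v 1)) (v 2)))
  else vec e1 (mul (inv (v 0)) (v 1)) (mul (inv (v 0)) (v 2))

/-- The number of a vector. -/
def code (v : V) : ℕ := 256 * toNat (v 0) + 16 * toNat (v 1) + toNat (v 2)

/-- The numbers of the 65 normalised isotropic vectors, twelve binary digits each. -/
def PT : ℕ := 0x1f01ed1eb1e71e31e21de1d91d61d51d41c01be1b91b61b51b41a019d19b19719319218017e17917617517416d16b16716316215d15b15715315214d14b14714314213e13913613513412e12912612512411010f10c10a10810101f01c01a018011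

/-- For each of the `16 ^ 3` vectors, the index of the isotropic point it is the normalised vector of (seven binary digits each; `0` if there is none). -/
def IDX : ℕ := 0x400001f807c000007a0000078ec00000e80000001c8000e1bb60000000000000000000000000000000003500d0000000198000c98b00000000000000000000000000000000002f00017005a00000580000056a8000000000000000000000000000002900a0000000138000992a40000000000118044000004200000407c0000000f003a00000380000036680000000c8030000002e000002c540000050000000098000488900000000003c0000000700003460b0000000000000000000000000000000000a1200008001c006000000000002800000000000000000000000000000000000000000000000000000000000000000000000000000000000000000000000000000000000000000000000000000000000000000000000000000000000000000000000000000000000000000000000000000000000000000000000000000000000000000000000000000000000000000000000000000000000000000000000000000000000000000000000000000000000000000000000000000000000000000000000000000000000000000000000000000000008000030008001000000000000000000000000000000000000000000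

/-- The permutation of the points induced by `S0`, seven binary digits each. -/
def SIG : ℕ := 0x367c49a20009d58c1065b961c9960970c4f9008f1d2d2a1d20f42fc1b028059bd228898246ed90b0ab8c250ca0b8d54e4e9e3868dc06a297a9

/-- The number of the `i`-th point. -/
def ptc (i : ℕ) : ℕ := (PT >>> (12 * i)) &&& 4095

/-- The `i`-th isotropic point, as a normalised vector. -/
def pt (i : Fin 65) : V :=
  ![ofNat (ptc i.val / 256), ofNat (ptc i.val / 16 % 16), ofNat (ptc i.val % 16)]

/-- The index of the isotropic point spanned by a vector. -/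
def idx (v : V) : Fin 65 := Fin.ofNat 65 ((IDX >>> (7 * code (nrm v))) &&& 127)

/-- The permutation of the points induced by `S0`. -/
def sig (i : Fin 65) : Fin 65 := Fin.ofNat 65 ((SIG >>> (7 * i.val)) &&& 127)

/-- An element of order thirteen of `SU₃(4)`. -/
def S0 : Matrix (Fin 3) (Fin 3) N16 := !![e0, e2, e14; e0, e9, e3; e1, e0, e0]
/-- An element of order ten of `SU₃(4)`. -/
def X10 : Matrix (Fin 3) (Fin 3) N16 := !![e0, e0, e15; e0, e8, e0; e1, e0, e0]
/-- An element of order fifteen of `SU₃(4)`. -/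
def X15 : Matrix (Fin 3) (Fin 3) N16 := !![e0, e2, e5; e0, e4, e3; e1, e0, e0]

/-- The orbit of a point under `sig`. -/
def orb : Fin 65 → Fin 5 := ![0, 1, 2, 1, 2, 2, 3, 0, 1, 4, 2, 4, 1, 1, 4, 3, 3, 2, 3, 2, 4, 0, 0, 1, 2, 2, 3, 2, 0, 4, 1, 4, 4, 1, 3, 1, 3, 3, 0, 0, 4, 0, 4, 2, 3, 4, 3, 1, 4, 3, 0, 4, 0, 1, 2, 1, 1, 2, 0, 0, 4, 0, 3, 3, 2]

/-- The number of steps from the representative of the orbit. -/
def stp : Fin 65 → ℕ := ![0, 0, 0, 8, 4, 9, 0, 7, 11, 0, 1, 8, 3, 4, 3, 12, 9, 11, 5, 8, 7, 4, 11, 5, 12, 7, 1, 10, 8, 1, 12, 6, 11, 7, 2, 6, 11, 10, 6, 3, 4, 1, 9, 3, 8, 5, 6, 1, 12, 7, 5, 2, 10, 9, 6, 10, 2, 2, 2, 12, 10, 9, 4, 3, 5]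

/-- Representatives of the five orbits of `sig`. -/
def rep : Fin 5 → Fin 65 := ![0, 1, 2, 6, 9]

/-- A function on the points whose sum over every block is divisible by five. -/
def f0N : Fin 65 → ℕ := ![0, 3, 3, 4, 0, 2, 1, 0, 2, 0, 0, 1, 4, 0, 2, 3, 1, 3, 0, 1, 0, 0, 0, 4, 3, 3, 0, 1, 3, 2, 4, 2, 0, 4, 4, 0, 1, 1, 4, 2, 2, 0, 3, 4, 4, 1, 3, 0, 2, 2, 1, 0, 0, 0, 0, 0, 0, 0, 0, 0, 0, 0, 0, 0, 0]

/-- The points with the values of `f0N`. -/
def ptF : List (N16 × N16 × N16 × ℕ) := [(e0, e1, e1, 0), (e0, e1, e8, 3), (e0, e1, e10, 3), (e0, e1, e12, 4), (e0, e1, e15, 0), (e1, e0, e1, 2), (e1, e0, e8, 1), (e1, e0, e10, 0), (e1, e0, e12, 2), (e1, e0, e15, 0), (e1, e1, e0, 0), (e1, e2, e4, 1), (e1, e2, e5, 4), (e1, e2, e6, 0), (e1, e2, e9, 2), (e1, e2, e14, 3), (e1, e3, e4, 1), (e1, e3, e5, 3), (e1, e3, e6, 0), (e1, e3, e9, 1), (e1, e3, e14, 0), (e1, e4, e2, 0), (e1, e4, e3, 0), (e1, e4, e7, 4), (e1, e4, e11, 3), (e1, e4, e13, 3), (e1, e5, e2, 0), (e1, e5, e3, 1), (e1, e5,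 e7, 3), (e1, e5, e11, 2), (e1, e5, e13, 4), (e1, e6, e2, 2), (e1, e6, e3, 0), (e1, e6, e7, 4), (e1, e6, e11, 4), (e1, e6, e13, 0), (e1, e7, e4, 1), (e1, e7, e5, 1), (e1, e7, e6, 4), (e1, e7, e9, 2), (e1, e7, e14, 2), (e1, e8, e0, 0), (e1, e9, e2, 3), (e1, e9, e3, 4), (e1, e9, e7, 4), (e1, e9, e11, 1), (e1, e9, e13, 3), (e1, e10, e0, 0), (e1, e11, e4, 2), (e1, e11, e5, 2), (e1, e11, e6, 1), (e1, e11, e9, 0), (e1, e11, e14, 0), (e1, e12, e0, 0), (e1, e13, e4, 0), (e1, e13, e5, 0), (e1, e13, e6, 0), (e1, e13, e9, 0), (e1, e13, e14, 0), (e1, e14, e2, 0), (e1, e14, e3, 0), (e1, e14, e7, 0), (e1, e14, e11, 0), (e1, e14, e13, 0), (e1, e15, e0, 0)]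

/-- The sum of `f0N` over the points `p` with `p₀ a₀ + p₁ a₁ + p₂ a₂ = 0`. -/
def bsumN (a0 a1 a2 : N16) : ℕ :=
  (ptF.map (fun p => if add (add (mul p.1 a0) (mul p.2.1 a1)) (mul p.2.2.1 a2) = e0
    then p.2.2.2 else 0)).sum

/-- The pole of the block number 0. -/
def A0 : V := vec e0 e0 e1
/-- The pole of the block number 1. -/
def A1 : V := vec e0 e1 e0
/-- The pole of the block number 2. -/
def A2 : V := vec e0 e1 e2
/-- The pole of the block number 3. -/
def A3 : V := vec e0 e1 e3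

/-- The points of the four blocks. -/
def blk : Fin 4 → Fin 5 → Fin 65 := ![![10, 41, 47, 53, 64], ![5, 6, 7, 8, 9], ![25, 27, 31, 44, 62], ![21, 29, 32, 46, 61]]

/-- The poles of the four blocks. -/
def pole : Fin 4 → V := ![A0, A1, A2, A3]

/-! ### The checks -/

lemma idx_pt : ∀ i : Fin 65, idx (pt i) = i := by decide +kernel

lemma pt_isotropic : ∀ i : Fin 65, hm (pt i) (pt i) = e0 := by decide +kernel

lemma pt_ne_zero : ∀ i : Fin 65, pt i 0 ≠ e0 ∨ pt i 1 ≠ e0 ∨ pt i 2 ≠ e0 := by decide +kernel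

lemma pt_idx_vec : ∀ a b c : N16, hm (vec a b c) (vec a b c) = e0 →
    (a ≠ e0 ∨ b ≠ e0 ∨ c ≠ e0) → pt (idx (vec a b c)) = nrm (vec a b c) := by
  decide +kernel

lemma sig_eq : ∀ i : Fin 65, idx (mv3 S0 (pt i)) = sig i := by decide +kernel

lemma sig_iter : ∀ i : Fin 65, sig^[13] i = i := by decide +kernel

lemma orbit_eq : ∀ i : Fin 65, sig^[stp i] (rep (orb i)) = i := by decide +kernel

lemma pole_anisotropic : ∀ j : Fin 4, hm (pole j) (pole j) ≠ e0 := by decide +kernel

lemma blk_eq : ∀ j : Fin 4, Finset.univ.filter (fun i : Fin 65 => hm (pt i) (pole j) = e0) =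
    Finset.univ.image (blk j) := by decide +kernel

lemma blk_injective : ∀ j : Fin 4, Function.Injective (blk j) := by decide +kernel

lemma blk_orb0 {α : Type*} [AddCommMonoid α] (x : Fin 5 → α) :
    ∑ t : Fin 5, x (orb (blk 0 t)) = x 2 + x 0 + x 1 + x 1 + x 2 := by
  rw [Fin.sum_univ_five]; rfl

lemma blk_orb1 {α : Type*} [AddCommMonoid α] (x : Fin 5 → α) :
    ∑ t : Fin 5, x (orb (blk 1 t)) = x 2 + x 3 + x 0 + x 1 + x 4 := by
  rw [Fin.sum_univ_five]; rfl

lemma blk_orb2 {α : Type*} [AddCommMonoid α] (x : Fin 5 → α) :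
    ∑ t : Fin 5, x (orb (blk 2 t)) = x 2 + x 2 + x 4 + x 3 + x 3 := by
  rw [Fin.sum_univ_five]; rfl

lemma blk_orb3 {α : Type*} [AddCommMonoid α] (x : Fin 5 → α) :
    ∑ t : Fin 5, x (orb (blk 3 t)) = x 0 + x 4 + x 4 + x 3 + x 0 := by
  rw [Fin.sum_univ_five]; rfl

lemma ptF_eq : ptF = List.ofFn (fun i : Fin 65 => (pt i 0, pt i 1, pt i 2, f0N i)) := by
  decide +kernel

lemma f0_memN : ∀ a b c : N16, hm (vec a b c) (vec a b c) ≠ e0 →
    bsumN (frob a) (frob b) (frob c) % 5 = 0 := by decide +kernel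

lemma f0N_zero : f0N 0 = 0 := rfl

lemma f0N_one : f0N 1 = 3 := rfl

/-! ### The matrices -/

lemma S0_det : S0.det = 1 := by rw [Matrix.det_fin_three]; decide +kernel
lemma S0_unitary : S0.transpose * S0.map (· ^ 4) = 1 := by decide +kernel
lemma S0_pow : S0 ^ 13 = 1 := by decide +kernel
lemma S0_ne_one : S0 ≠ 1 := by decide +kernel
lemma X10_det : X10.det = 1 := by rw [Matrix.det_fin_three]; decide +kernel
lemma X10_unitary : X10.transpose * X10.map (· ^ 4) = 1 := by decide +kernel
lemma X10_pow : X10 ^ 10 = 1 ∧ X10 ^ 5 ≠ 1 ∧ X10 ^ 2 ≠ 1 := by decide +kernel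
lemma X15_det : X15.det = 1 := by rw [Matrix.det_fin_three]; decide +kernel
lemma X15_unitary : X15.transpose * X15.map (· ^ 4) = 1 := by decide +kernel
lemma X15_pow : X15 ^ 15 = 1 ∧ X15 ^ 5 ≠ 1 ∧ X15 ^ 3 ≠ 1 := by decide +kernel

end Cfsg.Agent.Lib.Helper57.U34
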