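import Mathlib
import Cfsg.Prelude.Def_Classical
import Cfsg.Agent.Lib.Helper57.U34Pts
import Cfsg.Agent.Lib.Helper98.U34Model

set_option autoImplicit false

/-!
# `SU₃(4)` over the field `N16`, its action on the Hermitian unital, and a module

* `suEquiv`: a ring isomorphism induces an isomorphism of the special unitary groups.
* `sm`: the action of `G0 = SU₃(N16)` on the 65 isotropic points.
* `K`: the functions from the points to `ZMod 5` whose sum over every block vanishes; it is
  invariant under `G0`, and a function in `K` which is invariant up to a constant under an element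
  of order thirteen is constant.
-/

namespace Cfsg.Agent.Lib.Helper57.U34

open Matrix N16

/-! ### Transport along a ring isomorphism -/

section Transport

variable {F F' : Type*} [Field F] [Field F'] {n q : ℕ}

lemma hermForm_comp (e : F ≃+* F') (u v : Fin n → F) :
    Cfsg.hermForm n F' q (e ∘ u) (e ∘ v) = e (Cfsg.hermForm n F q u v) := by
  simp [Cfsg.hermForm, map_sum, map_mul, map_pow]

lemma map_mem_SU (e : F ≃+* F') (M : Matrix.SpecialLinearGroup (Fin n) F)
    (hM : M ∈ Cfsg.SU n F q) :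
    Matrix.SpecialLinearGroup.map (e : F →+* F') M ∈ Cfsg.SU n F' q := by
  intro u v
  have hu : u = e ∘ (e.symm ∘ u) := by ext i; simp
  have hv : v = e ∘ (e.symm ∘ v) := by ext i; simp
  have key : ∀ w : Fin n → F,
      (Cfsg.slToMat n F' (Matrix.SpecialLinearGroup.map (e : F →+* F') M)) *ᵥ (e ∘ w) =
        e ∘ ((Cfsg.slToMat n F M) *ᵥ w) := by
    intro w
    ext i
    exact (RingHom.map_mulVec (e : F →+* F') (M : Matrix (Fin n) (Fin n) F) w i).symm
  rw [hu, hv, key, key, hermForm_comp, hermForm_comp, hM]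

/-- The homomorphism of special unitary groups induced by a ring isomorphism. -/
def suHom (e : F ≃+* F') : Cfsg.SU n F q →* Cfsg.SU n F' q :=
  ((Matrix.SpecialLinearGroup.map (e : F →+* F')).comp (Cfsg.SU n F q).subtype).codRestrict _
    (fun M => map_mem_SU e M.1 M.2)

lemma suHom_coe (e : F ≃+* F') (M : Cfsg.SU n F q) (i j : Fin n) :
    ((suHom e M).1 : Matrix (Fin n) (Fin n) F') i j = e ((M.1 : Matrix (Fin n) (Fin n) F) i j) :=
  rfl

/-- The isomorphism of special unitary groups induced by a ring isomorphism. -/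
def suEquiv (e : F ≃+* F') : Cfsg.SU n F q ≃* Cfsg.SU n F' q where
  toFun := suHom e
  invFun := suHom e.symm
  left_inv M := by
    apply Subtype.ext
    apply Subtype.ext
    ext i j
    rw [suHom_coe, suHom_coe, RingEquiv.symm_apply_apply]
  right_inv M := by
    apply Subtype.ext
    apply Subtype.ext
    ext i j
    rw [suHom_coe, suHom_coe, RingEquiv.apply_symm_apply]
  map_mul' := map_mul (suHom e)

end Transport

/-! ### The group `G0` -/

/-- The special unitary group over `N16`. -/
abbrev G0 : Type := Cfsg.SU 3 N16 4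

/-- `G0` is isomorphic to `PSU₃(4)` over any field with sixteen elements. -/
noncomputable def equivPSU {F : Type*} [Field F] [Fintype F] (hF : Fintype.card F = 16) :
    G0 ≃* Cfsg.PSU 3 F 4 :=
  (suEquiv (FiniteField.ringEquivOfCardEq (N16.card_eq.trans hF.symm))).trans
    (MulEquiv.ofBijective (QuotientGroup.mk' (Subgroup.center (Cfsg.SU 3 F 4)))
      ⟨Cfsg.Agent.Lib.Helper98.U34.mk_injective hF, QuotientGroup.mk'_surjective _⟩)

lemma card_G0 : Nat.card G0 = 62400 := by
  rw [Nat.card_congr (equivPSU N16.card_eq).toEquiv]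
  exact Cfsg.Agent.Lib.Helper98.U34.card_PSU N16.card_eq

instance : Finite G0 := Nat.finite_of_card_ne_zero (by rw [card_G0]; norm_num)

/-- The matrix of an element of `G0`. -/
def mat : G0 →* Matrix (Fin 3) (Fin 3) N16 where
  toFun g := (g.1 : Matrix (Fin 3) (Fin 3) N16)
  map_one' := rfl
  map_mul' _ _ := rfl

lemma mat_injective : Function.Injective mat := fun _ _ h => Subtype.ext (Subtype.ext h)

/-- The action of `G0` on vectors. -/
def mvg (g : G0) (v : V) : V := mat g *ᵥ v

lemma mvg_one (v : V) : mvg 1 v = v := by simp [mvg]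

lemma mvg_mul (g h : G0) (v : V) : mvg (g * h) v = mvg g (mvg h v) := by
  simp only [mvg, map_mul, Matrix.mulVec_mulVec]

lemma mvg_smul (g : G0) (c : N16) (v : V) : mvg g (c • v) = c • mvg g v :=
  Matrix.mulVec_smul _ _ _

lemma hm_eq (u v : V) : hm u v = Cfsg.hermForm 3 N16 4 u v := by
  simp only [Cfsg.hermForm, Fin.sum_univ_three, frob_eq]
  rfl

lemma hm_mvg (g : G0) (u v : V) : hm (mvg g u) (mvg g v) = hm u v := by
  rw [hm_eq, hm_eq]
  exact g.2 u v

lemma hm_smul_left (c : N16) (u v : V) : hm (c • u) v = c * hm u v := by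
  have h : ∀ a b : V, hm a b = a 0 * b 0 ^ 4 + a 1 * b 1 ^ 4 + a 2 * b 2 ^ 4 := by
    intro a b
    simp only [frob_eq]
    rfl
  rw [h, h]
  simp only [Pi.smul_apply, smul_eq_mul]
  ring

lemma mvg_ne_zero (g : G0) (v : V) (hv : v ≠ 0) : mvg g v ≠ 0 := by
  intro h
  apply hv
  have h1 : mvg g⁻¹ (mvg g v) = v := by rw [← mvg_mul, inv_mul_cancel, mvg_one]
  rw [h] at h1
  rw [← h1]
  simp [mvg]

/-! ### Points -/

lemma zero_eq : (0 : N16) = e0 := rfl

lemma ne_zero_iff (v : V) : v ≠ 0 ↔ (v 0 ≠ e0 ∨ v 1 ≠ e0 ∨ v 2 ≠ e0) := by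
  constructor
  · intro h
    by_contra hc
    push Not at hc
    apply h
    ext i
    fin_cases i
    · exact hc.1
    · exact hc.2.1
    · exact hc.2.2
  · rintro h rfl
    rcases h with h | h | h <;> exact h rfl

lemma smul_vec (c : N16) (v : V) : c • v = vec (mul c (v 0)) (mul c (v 1)) (mul c (v 2)) := by
  ext i
  fin_cases i <;> rfl

lemma pt_ne_zero' (i : Fin 65) : pt i ≠ 0 := (ne_zero_iff _).2 (pt_ne_zero i)

lemma mul_eq (x y : N16) : mul x y = x * y := rfl

lemma inv_eq (x : N16) : inv x = x⁻¹ := rfl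

lemma one_eq : (1 : N16) = e1 := rfl

lemma vec_congr {a b c a' b' c' : N16} (h1 : a = a') (h2 : b = b') (h3 : c = c') :
    vec a b c = vec a' b' c' := by rw [h1, h2, h3]

/-- The normalised vector is a multiple of the vector. -/
lemma nrm_eq (v : V) (hv : v ≠ 0) : ∃ c : N16, c ≠ 0 ∧ nrm v = c • v := by
  unfold nrm
  by_cases h0 : v 0 = e0
  · by_cases h1 : v 1 = e0
    · by_cases h2 : v 2 = e0
      · exfalso
        rcases (ne_zero_iff v).1 hv with h | h | h
        · exact h h0
        · exact h h1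
        · exact h h2
      · refine ⟨(v 2)⁻¹, inv_ne_zero h2, ?_⟩
        rw [if_pos h0, if_pos h1, if_neg h2, smul_vec, h0, h1]
        apply vec_congr
        · rw [mul_eq, zero_eq.symm, mul_zero]
        · rw [mul_eq, zero_eq.symm, mul_zero]
        · rw [mul_eq, inv_mul_cancel₀ h2]; rfl
    · refine ⟨(v 1)⁻¹, inv_ne_zero h1, ?_⟩
      rw [if_pos h0, if_neg h1, smul_vec, h0]
      apply vec_congr
      · rw [mul_eq, zero_eq.symm, mul_zero]
      · rw [mul_eq, inv_mul_cancel₀ h1]; rfl
      · rfl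
  · refine ⟨(v 0)⁻¹, inv_ne_zero h0, ?_⟩
    rw [if_neg h0, smul_vec]
    apply vec_congr
    · rw [mul_eq, inv_mul_cancel₀ h0]; rfl
    · rfl
    · rfl

/-- Proportional vectors have the same normalised vector. -/
lemma nrm_smul (c : N16) (hc : c ≠ 0) (v : V) : nrm (c • v) = nrm v := by
  have h : ∀ x : N16, c * x = e0 ↔ x = e0 := by
    intro x
    show c * x = 0 ↔ x = 0
    simp [hc]
  have hq : ∀ x y : N16, x ≠ e0 → mul (inv (c * x)) (c * y) = mul (inv x) y := by
    intro x y hx
    rw [mul_eq, mul_eq, inv_eq, inv_eq]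
    have hx' : x ≠ 0 := hx
    field_simp
  unfold nrm
  simp only [Pi.smul_apply, smul_eq_mul, h]
  by_cases h0 : v 0 = e0
  · by_cases h1 : v 1 = e0
    · by_cases h2 : v 2 = e0
      · rw [if_pos h0, if_pos h1, if_pos h2, if_pos h0, if_pos h1, if_pos h2]
        ext i
        fin_cases i
        · show c * v 0 = v 0
          rw [h0, zero_eq.symm, mul_zero]
        · show c * v 1 = v 1
          rw [h1, zero_eq.symm, mul_zero]
        · show c * v 2 = v 2
          rw [h2, zero_eq.symm, mul_zero]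
      · rw [if_pos h0, if_pos h1, if_neg h2, if_pos h0, if_pos h1, if_neg h2]
    · rw [if_pos h0, if_neg h1, if_pos h0, if_neg h1, hq _ _ h1]
  · rw [if_neg h0, if_neg h0, hq _ _ h0, hq _ _ h0]

/-- The point spanned by an isotropic vector is a multiple of it. -/
lemma pt_idx (v : V) (hv : v ≠ 0) (hiso : hm v v = 0) :
    ∃ c : N16, c ≠ 0 ∧ pt (idx v) = c • v := by
  obtain ⟨c, hc, h⟩ := nrm_eq v hv
  refine ⟨c, hc, ?_⟩
  rw [← h]
  rw [vec_eta v] at hiso ⊢
  exact pt_idx_vec (v 0) (v 1) (v 2) hiso ((ne_zero_iff v).1 hv)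

lemma idx_smul (c : N16) (hc : c ≠ 0) (v : V) : idx (c • v) = idx v := by
  unfold idx
  rw [nrm_smul c hc]

/-- The action of `G0` on the points. -/
def sm (g : G0) (i : Fin 65) : Fin 65 := idx (mvg g (pt i))

lemma sm_one (i : Fin 65) : sm 1 i = i := by
  rw [sm, mvg_one, idx_pt]

lemma iso_mvg_pt (g : G0) (i : Fin 65) : hm (mvg g (pt i)) (mvg g (pt i)) = 0 := by
  rw [hm_mvg]
  exact pt_isotropic i

/-- The vector of the image of a point is a multiple of the image of its vector. -/
lemma pt_sm (g : G0) (i : Fin 65) : ∃ c : N16, c ≠ 0 ∧ pt (sm g i) = c • mvg g (pt i) :=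
  pt_idx _ (mvg_ne_zero g _ (pt_ne_zero' i)) (iso_mvg_pt g i)

lemma sm_mul (g h : G0) (i : Fin 65) : sm (g * h) i = sm g (sm h i) := by
  obtain ⟨c, hc, h1⟩ := pt_sm h i
  rw [sm, sm, h1, mvg_smul, idx_smul c hc, mvg_mul]

/-- The permutation of the points induced by an element of `G0`. -/
def smEquiv (g : G0) : Fin 65 ≃ Fin 65 where
  toFun := sm g
  invFun := sm g⁻¹
  left_inv i := by rw [← sm_mul, inv_mul_cancel, sm_one]
  right_inv i := by rw [← sm_mul, mul_inv_cancel, sm_one]

lemma hm_pt_sm (g : G0) (i : Fin 65) (a : V) :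
    hm (pt (sm g i)) (mvg g a) = 0 ↔ hm (pt i) a = 0 := by
  obtain ⟨c, hc, h1⟩ := pt_sm g i
  rw [h1, hm_smul_left, hm_mvg]
  constructor
  · intro h
    rcases mul_eq_zero.mp h with h | h
    · exact absurd h hc
    · exact h
  · intro h
    rw [h, mul_zero]

/-! ### The module -/

/-- The functions whose sum over every block vanishes. -/
def K : Submodule (ZMod 5) (Fin 65 → ZMod 5) where
  carrier := {f | ∀ a : V, hm a a ≠ 0 →
    ∑ i ∈ Finset.univ.filter (fun i : Fin 65 => hm (pt i) a = 0), f i = 0}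
  zero_mem' := by
    intro a _
    simp
  add_mem' := by
    intro f g hf hg a ha
    simp only [Pi.add_apply, Finset.sum_add_distrib, hf a ha, hg a ha, add_zero]
  smul_mem' := by
    intro c f hf a ha
    simp only [Pi.smul_apply, smul_eq_mul, ← Finset.mul_sum, hf a ha, mul_zero]

lemma mem_K (f : Fin 65 → ZMod 5) : f ∈ K ↔ ∀ a : V, hm a a ≠ 0 →
    ∑ i ∈ Finset.univ.filter (fun i : Fin 65 => hm (pt i) a = 0), f i = 0 := Iff.rfl

/-- `K` is invariant under `G0`. -/
lemma K_comp (g : G0) (f : Fin 65 → ZMod 5) (hf : f ∈ K) : (fun i => f (sm g i)) ∈ K := by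
  intro a ha
  have h1 : hm (mvg g a) (mvg g a) ≠ 0 := by rwa [hm_mvg]
  rw [← hf (mvg g a) h1]
  apply Finset.sum_equiv (smEquiv g)
  · intro i
    simp only [Finset.mem_filter, Finset.mem_univ, true_and]
    exact (hm_pt_sm g i a).symm
  · intro i _
    rfl

/-- The function `f0N` with values in `ZMod 5`. -/
def f0 (i : Fin 65) : ZMod 5 := (f0N i : ZMod 5)

lemma f0_mem_K : f0 ∈ K := by
  intro a ha
  rw [Finset.sum_filter]
  have h1 : ∀ i : Fin 65, (if hm (pt i) a = 0 then f0 i else 0) =
      (((if hm (pt i) a = 0 then f0N i else 0 : ℕ)) : ZMod 5) := by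
    intro i
    split_ifs <;> simp [f0]
  rw [Finset.sum_congr rfl (fun i _ => h1 i), ← Nat.cast_sum, ZMod.natCast_eq_zero_iff]
  have h2 : ∑ i : Fin 65, (if hm (pt i) a = 0 then f0N i else 0) =
      bsumN (frob (a 0)) (frob (a 1)) (frob (a 2)) := by
    rw [← List.sum_ofFn, bsumN, ptF_eq, List.map_ofFn]
    rfl
  rw [h2]
  apply Nat.dvd_of_mod_eq_zero
  rw [vec_eta a] at ha
  exact f0_memN (a 0) (a 1) (a 2) ha

lemma f0_ne : f0 0 ≠ f0 1 := by
  unfold f0
  rw [f0N_zero, f0N_one]
  intro h
  have h1 : ((3 : ℕ) : ZMod 5) = 0 := by rw [← h]; rfl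
  rw [ZMod.natCast_eq_zero_iff] at h1
  norm_num at h1

/-! ### The element of order thirteen -/

/-- A unitary matrix of determinant one as an element of `G0`. -/
def mkG0 (M : Matrix (Fin 3) (Fin 3) N16) (hdet : M.det = 1)
    (hM : M.transpose * M.map (· ^ 4) = 1) : G0 :=
  ⟨⟨M, hdet⟩, by
    intro u v
    have h1 : ∀ w : V, (fun i => (M *ᵥ w) i ^ 4) = M.map (· ^ 4) *ᵥ (fun i => w i ^ 4) := by
      intro w
      ext i
      have h := RingHom.map_mulVec (iterateFrobenius N16 2 2) M w i
      have hfun : (⇑(iterateFrobenius N16 2 2) : N16 → N16) = (· ^ 4) := by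
        ext x
        rw [iterateFrobenius_def]
        norm_num
      rw [hfun] at h
      exact h
    have h2 : ∀ a b : V, Cfsg.hermForm 3 N16 4 a b = a ⬝ᵥ (fun i => b i ^ 4) := fun _ _ => rfl
    show Cfsg.hermForm 3 N16 4 (M *ᵥ u) (M *ᵥ v) = Cfsg.hermForm 3 N16 4 u v
    rw [h2, h2, h1, Matrix.dotProduct_mulVec, ← Matrix.vecMul_transpose, Matrix.vecMul_vecMul, hM,
      Matrix.vecMul_one]⟩

lemma mat_mkG0 (M : Matrix (Fin 3) (Fin 3) N16) (hdet : M.det = 1)
    (hM : M.transpose * M.map (· ^ 4) = 1) : mat (mkG0 M hdet hM) = M := rfl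

lemma orderOf_mkG0 (M : Matrix (Fin 3) (Fin 3) N16) (hdet : M.det = 1)
    (hM : M.transpose * M.map (· ^ 4) = 1) : orderOf (mkG0 M hdet hM) = orderOf M := by
  rw [← orderOf_injective mat mat_injective, mat_mkG0]

/-- The element of order thirteen. -/
def sG : G0 := mkG0 S0 S0_det S0_unitary

/-- An element of order ten. -/
def x10 : G0 := mkG0 X10 X10_det X10_unitary

/-- An element of order fifteen. -/
def x15 : G0 := mkG0 X15 X15_det X15_unitary

lemma orderOf_sG : orderOf sG = 13 := by
  rw [sG, orderOf_mkG0]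
  have : Fact (Nat.Prime 13) := ⟨by norm_num⟩
  exact orderOf_eq_prime S0_pow S0_ne_one

lemma orderOf_x10 : orderOf x10 = 10 := by
  rw [x10, orderOf_mkG0]
  apply orderOf_eq_of_pow_and_pow_div_prime (by norm_num) X10_pow.1
  intro p hp hdvd
  have h : p = 2 ∨ p = 5 := by
    have hle : p ≤ 10 := Nat.le_of_dvd (by norm_num) hdvd
    interval_cases p <;> simp_all (config := { decide := true })
  rcases h with rfl | rfl
  · exact X10_pow.2.1
  · exact X10_pow.2.2

lemma orderOf_x15 : orderOf x15 = 15 := by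
  rw [x15, orderOf_mkG0]
  apply orderOf_eq_of_pow_and_pow_div_prime (by norm_num) X15_pow.1
  intro p hp hdvd
  have h : p = 3 ∨ p = 5 := by
    have hle : p ≤ 15 := Nat.le_of_dvd (by norm_num) hdvd
    interval_cases p <;> simp_all (config := { decide := true })
  rcases h with rfl | rfl
  · exact X15_pow.2.1
  · exact X15_pow.2.2

lemma sm_sG (i : Fin 65) : sm sG i = sig i := by
  rw [sm, mvg, sG, mat_mkG0, mulVec_eq, sig_eq]

/-! ### Functions fixed by the element of order thirteen -/

lemma iterate_sig_fixed (f : Fin 65 → ZMod 5) (hf : ∀ i, f (sig i) = f i) (n : ℕ) (i : Fin 65) :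
    f (sig^[n] i) = f i := by
  induction n generalizing i with
  | zero => rfl
  | succ n ih => rw [Function.iterate_succ_apply, ih, hf]

/-- A function in `K` fixed by `sig` is constant. -/
lemma const_of_fixed (f : Fin 65 → ZMod 5) (hfK : f ∈ K) (hf : ∀ i, f (sig i) = f i) :
    ∀ i j, f i = f j := by
  have horb : ∀ i, f i = f (rep (orb i)) := by
    intro i
    conv_lhs => rw [← orbit_eq i]
    exact iterate_sig_fixed f hf _ _
  set x : Fin 5 → ZMod 5 := fun u => f (rep u) with hx
  have hblk : ∀ j : Fin 4, ∑ t : Fin 5, x (orb (blk j t)) = 0 := by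
    intro j
    have h1 : ∑ i ∈ Finset.univ.filter (fun i : Fin 65 => hm (pt i) (pole j) = e0), f i = 0 :=
      hfK (pole j) (pole_anisotropic j)
    rw [blk_eq j, Finset.sum_image (fun a _ b _ h => blk_injective j h)] at h1
    rw [← h1]
    apply Finset.sum_congr rfl
    intro t _
    rw [horb (blk j t)]
  have E0 := hblk 0
  have E1 := hblk 1
  have E2 := hblk 2
  have E3 := hblk 3
  rw [blk_orb0] at E0
  rw [blk_orb1] at E1
  rw [blk_orb2] at E2
  rw [blk_orb3] at E3
  have h5 : (5 : ZMod 5) = 0 := by decide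
  have h1 : x 0 = x 1 := by
    linear_combination 4 * E0 + E1 + 3 * E2 + 3 * E3
      - (2 * x 0 + 2 * x 1 + 3 * x 2 + 2 * x 3 + 2 * x 4) * h5
  have h2 : x 0 = x 2 := by
    linear_combination 3 * E0 + 4 * E1 + 2 * E2 + 2 * E3
      - (2 * x 0 + 2 * x 1 + 3 * x 2 + 2 * x 3 + 2 * x 4) * h5
  have h3 : x 0 = x 3 := by
    linear_combination E0 + 3 * E1 + E3
      - (x 0 + x 1 + x 2 + x 3 + x 4) * h5
  have h4 : x 0 = x 4 := by
    linear_combination 2 * E0 + E1 + 4 * E3
      - (2 * x 0 + x 1 + x 2 + x 3 + 2 * x 4) * h5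
  have hconst : ∀ u : Fin 5, x u = x 0 := by
    intro u
    fin_cases u
    · rfl
    · exact h1.symm
    · exact h2.symm
    · exact h3.symm
    · exact h4.symm
  intro i j
  rw [horb i, horb j]
  exact (hconst (orb i)).trans (hconst (orb j)).symm

lemma iterate_sig_add (f : Fin 65 → ZMod 5) (c : ZMod 5) (hf : ∀ i, f (sig i) = f i + c) (n : ℕ)
    (i : Fin 65) : f (sig^[n] i) = f i + n * c := by
  induction n generalizing i with
  | zero => simp
  | succ n ih =>
    rw [Function.iterate_succ_apply, ih, hf]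
    push_cast
    ring

/-- A function in `K` fixed by `sig` up to a constant is constant. -/
lemma const_of_fixed_add (f : Fin 65 → ZMod 5) (hfK : f ∈ K) (c : ZMod 5)
    (hf : ∀ i, f (sig i) = f i + c) : ∀ i j, f i = f j := by
  have h13 := iterate_sig_add f c hf 13 0
  rw [sig_iter 0] at h13
  have hc : c = 0 := by
    have h : ((13 : ℕ) : ZMod 5) * c = 0 := by
      have := h13
      rw [left_eq_add] at this
      exact this
    revert h
    generalize c = d
    revert d
    decide
  apply const_of_fixed f hfK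
  intro i
  rw [hf, hc, add_zero]

end Cfsg.Agent.Lib.Helper57.U34
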