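import Mathlib
import Cfsg.Agent.Lib.Helper57.U34Group
import Cfsg.Agent.Lib.Helper57.SdpGraph

set_option autoImplicit false

/-!
# Extensions of `SU₃(4)` by powers of a twelve-dimensional module over `𝔽₅`

For every `k` the group `G0 = SU₃(N16)` acts on the functions on `Fin k × Fin 65 × Fin 65` with
values in `ZMod 5`; the functions `(j, a, b) ↦ f j a - f j b` with `f j ∈ K` form an invariant
subgroup `Wk k` (the sum of `k` copies of `K` modulo the constants), on which the elements of order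
thirteen act without fixed points.
-/

namespace Cfsg.Agent.Lib.Helper57.U34

open Matrix N16

/-! ### Elements of order thirteen -/

/-- When thirteen divides the order of a group just once, a given element of order thirteen is a
power of a conjugate of any other. -/
theorem exists_conj_pow {P : Type*} [Group P] [Finite P] (m : ℕ) (hP : Nat.card P = 13 * m)
    (hm : ¬ 13 ∣ m) (s0 s : P) (h0 : orderOf s0 = 13) (hs : orderOf s = 13) :
    ∃ y : P, ∃ j : ℕ, s0 = (y * s * y⁻¹) ^ j := by
  have : Fact (Nat.Prime 13) := ⟨by norm_num⟩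
  have hm0 : m ≠ 0 := by
    rintro rfl
    exact hm (dvd_zero 13)
  have hfac : (Nat.card P).factorization 13 = 1 := by
    rw [hP, Nat.factorization_mul (by norm_num) hm0, Finsupp.add_apply,
      Nat.Prime.factorization_self (by norm_num), Nat.factorization_eq_zero_of_not_dvd hm]
  let S0 : Sylow 13 P := Sylow.ofCard (Subgroup.zpowers s0)
    (by rw [Nat.card_zpowers, h0, hfac, pow_one])
  let S : Sylow 13 P := Sylow.ofCard (Subgroup.zpowers s)
    (by rw [Nat.card_zpowers, hs, hfac, pow_one])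
  obtain ⟨y, hy⟩ := MulAction.exists_smul_eq P S S0
  have hXeq : (Subgroup.zpowers s).map (MulAut.conj y).toMonoidHom = Subgroup.zpowers s0 :=
    congrArg Sylow.toSubgroup hy
  have hmem : s0 ∈ (Subgroup.zpowers s).map (MulAut.conj y).toMonoidHom := by
    rw [hXeq]
    exact Subgroup.mem_zpowers s0
  rw [MonoidHom.map_zpowers] at hmem
  have hmem' : s0 ∈ Submonoid.powers ((MulAut.conj y).toMonoidHom s) :=
    (mem_powers_iff_mem_zpowers).2 hmem
  obtain ⟨j, hj⟩ := (Submonoid.mem_powers_iff _ _).mp hmem'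
  exact ⟨y, j, hj.symm⟩

/-- The element `sG` is a power of a conjugate of any element of order thirteen of `G0`. -/
lemma exists_conj_pow_sG (s : G0) (hs : orderOf s = 13) :
    ∃ y : G0, ∃ j : ℕ, sG = (y * s * y⁻¹) ^ j :=
  exists_conj_pow 4800 (by rw [card_G0]) (by norm_num) sG s orderOf_sG hs

/-! ### The action on functions -/

/-- The index set. -/
abbrev Y (k : ℕ) : Type := Fin k × Fin 65 × Fin 65

/-- The group of functions with values in the cyclic group of order five. -/
abbrev NN (k : ℕ) : Type := Y k → Multiplicative (ZMod 5)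

/-- The action of `G0` on the index set. -/
def ym (k : ℕ) (g : G0) (y : Y k) : Y k := (y.1, sm g y.2.1, sm g y.2.2)

lemma ym_one (k : ℕ) (y : Y k) : ym k 1 y = y := by
  simp [ym, sm_one]

lemma ym_mul (k : ℕ) (g h : G0) (y : Y k) : ym k (g * h) y = ym k g (ym k h y) := by
  simp [ym, sm_mul]

/-- The action of `G0` on the functions. -/
def act (k : ℕ) : G0 →* MulAut (NN k) where
  toFun g :=
    { toFun := fun ψ y => ψ (ym k g⁻¹ y)
      invFun := fun ψ y => ψ (ym k g y)
      left_inv := by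
        intro ψ
        funext y
        show ψ (ym k g⁻¹ (ym k g y)) = ψ y
        rw [← ym_mul, inv_mul_cancel, ym_one]
      right_inv := by
        intro ψ
        funext y
        show ψ (ym k g (ym k g⁻¹ y)) = ψ y
        rw [← ym_mul, mul_inv_cancel, ym_one]
      map_mul' := fun _ _ => rfl }
  map_one' := by
    apply MulEquiv.ext
    intro ψ
    funext y
    show ψ (ym k 1⁻¹ y) = ψ y
    rw [inv_one, ym_one]
  map_mul' g h := by
    apply MulEquiv.ext
    intro ψ
    funext y
    show ψ (ym k (g * h)⁻¹ y) = ψ (ym k h⁻¹ (ym k g⁻¹ y))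
    rw [_root_.mul_inv_rev, ym_mul]

lemma act_apply (k : ℕ) (g : G0) (ψ : NN k) (y : Y k) : act k g ψ y = ψ (ym k g⁻¹ y) := rfl

lemma act_pow_fixed (k : ℕ) (g : G0) (ψ : NN k) (h : act k g ψ = ψ) (n : ℕ) :
    act k (g ^ n) ψ = ψ := by
  induction n with
  | zero => rw [pow_zero, map_one]; rfl
  | succ n ih => rw [pow_succ, map_mul, MulAut.mul_apply, h, ih]

/-! ### The invariant subgroup -/

/-- The sum of `k` copies of `K` modulo the constants. -/
def Wk (k : ℕ) : Subgroup (NN k) where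
  carrier := {ψ | ∀ j : Fin k, ∃ f ∈ K, ∀ a b : Fin 65,
    Multiplicative.toAdd (ψ (j, a, b)) = f a - f b}
  one_mem' := fun j => ⟨0, K.zero_mem, fun a b => by simp⟩
  mul_mem' := by
    intro ψ ψ' h h' j
    obtain ⟨f, hf, hψ⟩ := h j
    obtain ⟨f', hf', hψ'⟩ := h' j
    refine ⟨f + f', K.add_mem hf hf', fun a b => ?_⟩
    rw [Pi.mul_apply, toAdd_mul, hψ, hψ', Pi.add_apply, Pi.add_apply]
    ring
  inv_mem' := by
    intro ψ h j
    obtain ⟨f, hf, hψ⟩ := h j
    refine ⟨-f, K.neg_mem hf, fun a b => ?_⟩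
    rw [Pi.inv_apply, toAdd_inv, hψ, Pi.neg_apply, Pi.neg_apply]
    ring

lemma Wk_invariant (k : ℕ) (g : G0) (ψ : NN k) (hψ : ψ ∈ Wk k) : act k g ψ ∈ Wk k := by
  intro j
  obtain ⟨f, hf, h⟩ := hψ j
  exact ⟨fun i => f (sm g⁻¹ i), K_comp g⁻¹ f hf, fun a b => h _ _⟩

lemma pow_five (x : Multiplicative (ZMod 5)) : x ^ 5 = 1 := by
  revert x
  decide

lemma Wk_pow_five (k : ℕ) (ψ : NN k) (_ : ψ ∈ Wk k) : ψ ^ 5 = 1 := by
  funext y
  rw [Pi.pow_apply, pow_five]
  rfl

/-- The element `sG` fixes no element of `Wk k` but `1`. -/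
lemma Wk_fixed_sG (k : ℕ) (ψ : NN k) (hψ : ψ ∈ Wk k) (hfix : act k sG ψ = ψ) : ψ = 1 := by
  funext y
  obtain ⟨j, a, b⟩ := y
  obtain ⟨f, hf, h⟩ := hψ j
  have key : ∀ a' b' : Fin 65, f (sig a') - f (sig b') = f a' - f b' := by
    intro a' b'
    have h1 := congrFun hfix (j, sig a', sig b')
    rw [act_apply] at h1
    have h2 : ym k sG⁻¹ (j, sig a', sig b') = (j, a', b') := by
      show (j, sm sG⁻¹ (sig a'), sm sG⁻¹ (sig b')) = (j, a', b')
      rw [← sm_sG, ← sm_sG, ← sm_mul, ← sm_mul, inv_mul_cancel, sm_one, sm_one]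
    rw [h2] at h1
    rw [← h, ← h, h1]
  have hc : ∀ i, f (sig i) = f i + (f (sig 0) - f 0) := by
    intro i
    have := key i 0
    linear_combination this
  have hconst := const_of_fixed_add f hf _ hc
  apply Multiplicative.toAdd.injective
  rw [h, hconst a b, sub_self]
  rfl

/-- The elements of order thirteen fix no element of `Wk k` but `1`. -/
lemma Wk_fpf (k : ℕ) (g : G0) (hg : orderOf g = 13) (ψ : NN k) (hψ : ψ ∈ Wk k)
    (hfix : act k g ψ = ψ) : ψ = 1 := by
  obtain ⟨y, j, hy⟩ := exists_conj_pow_sG g hg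
  have h1 : act k (y * g * y⁻¹) (act k y ψ) = act k y ψ := by
    rw [← MulAut.mul_apply, ← map_mul, inv_mul_cancel_right, map_mul, MulAut.mul_apply, hfix]
  have h2 : act k sG (act k y ψ) = act k y ψ := by
    rw [hy]
    exact act_pow_fixed k _ _ h1 j
  have h3 : act k y ψ = 1 := Wk_fixed_sG k _ (Wk_invariant k y ψ hψ) h2
  have h4 : act k y ψ = act k y 1 := by rw [h3, map_one]
  exact (act k y).injective h4

/-! ### The size of the subgroup -/

/-- Multiples of `f0` in each of the `k` copies. -/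
def iota (k : ℕ) (c : Fin k → ZMod 5) : Wk k :=
  ⟨fun y => Multiplicative.ofAdd (c y.1 * (f0 y.2.1 - f0 y.2.2)), fun j =>
    ⟨c j • f0, K.smul_mem _ f0_mem_K, fun a b => by
      simp only [toAdd_ofAdd, Pi.smul_apply, smul_eq_mul]
      ring⟩⟩

lemma iota_injective (k : ℕ) : Function.Injective (iota k) := by
  intro c c' h
  funext j
  have h1 := congrFun (congrArg Subtype.val h) (j, 0, 1)
  have h2 : c j * (f0 0 - f0 1) = c' j * (f0 0 - f0 1) := Multiplicative.ofAdd.injective h1
  have : Fact (Nat.Prime 5) := ⟨by norm_num⟩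
  exact mul_right_cancel₀ (sub_ne_zero.2 f0_ne) h2

lemma le_card_Wk (k : ℕ) : 5 ^ k ≤ Nat.card (Wk k) := by
  have h := Nat.card_le_card_of_injective (iota k) (iota_injective k)
  have h2 : Nat.card (Fin k → ZMod 5) = 5 ^ k := by
    rw [Nat.card_eq_fintype_card, Fintype.card_fun, ZMod.card, Fintype.card_fin]
  rwa [h2] at h

lemma card_Wk (k : ℕ) : ∃ n : ℕ, Nat.card (Wk k) = 5 ^ n := by
  have : Fact (Nat.Prime 5) := ⟨by norm_num⟩
  have hp : IsPGroup 5 (Wk k) := by
    intro x
    refine ⟨1, ?_⟩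
    apply Subtype.ext
    rw [pow_one]
    exact Wk_pow_five k x.1 x.2
  exact IsPGroup.iff_card.mp hp

end Cfsg.Agent.Lib.Helper57.U34
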